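import Cfsg.Agent.Lib.Classical.OrthGenTrans
import Cfsg.Agent.Lib.Classical.OrthSemi
import Cfsg.Agent.Lib.Classical.OrthSimple
import Cfsg.Agent.Lib.Classical.OrthSpinor
import Cfsg.Agent.Lib.Lie.OrthOmegaGen

/-! Siegel elements of `Ω(Q)` as group elements, frames of hyperbolic pairs and their stabilisers. -/

set_option autoImplicit false
set_option linter.unusedSectionVars false
set_option quotPrecheck false

noncomputable section

namespace Cfsg.Agent.Lie.OrthDeg

open Matrix Module Cfsg.Agent.Classical Cfsg.Agent.Classical.OrthAut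

universe u

variable {F : Type u} [Field F] [Fintype F] {ι : Type} [Fintype ι] [DecidableEq ι]
  {Q : QuadraticForm F (ι → F)}

local notation "V" => (ι → F)
local notation "B" => QuadraticMap.polar ⇑Q
local notation "Om" => Omega F ⇑Q
local notation "OG" => isometryGroup F ⇑Q

/-- The standing hypotheses. -/
structure Hyp (Q : QuadraticForm F (ι → F)) : Prop where
  nd : (QuadraticMap.polarBilin Q).Nondegenerate
  tri : Tri Q
  gen : GenQ F ι

/-- The action of `Ω` on vectors. -/
def act (g : Om) (x : V) : V := omVal g *ᵥ x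

theorem act_mul (g h : Om) (x : V) : act (g * h) x = act g (act h x) := by
  rw [act, act, act, Matrix.mulVec_mulVec]; rfl

theorem act_one (x : V) : act (1 : Om) x = x := by rw [act, omVal_one, one_mulVec]

theorem act_inv_cancel (g : Om) (x : V) : act g⁻¹ (act g x) = x := by
  rw [← act_mul, inv_mul_cancel, act_one]

theorem act_inv_cancel' (g : Om) (x : V) : act g (act g⁻¹ x) = x := by
  rw [← act_mul, mul_inv_cancel, act_one]

theorem act_add (g : Om) (x y : V) : act g (x + y) = act g x + act g y := mulVec_add _ _ _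

theorem act_sub (g : Om) (x y : V) : act g (x - y) = act g x - act g y := mulVec_sub _ _ _

theorem act_smul (g : Om) (c : F) (x : V) : act g (c • x) = c • act g x := mulVec_smul _ _ _

theorem act_zero (g : Om) : act g (0 : V) = 0 := mulVec_zero _

theorem act_quad (g : Om) (x : V) : Q (act g x) = Q x := ogVal_quad (g : OG) x

theorem act_polar (g : Om) (x y : V) : B (act g x) (act g y) = B x y :=
  isometry_polar (ogVal_quad (g : OG)) x y

theorem polar_act_left (g : Om) (x y : V) : B (act g x) y = B x (act g⁻¹ y) := by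
  conv_lhs => rw [← act_inv_cancel' g y]
  exact act_polar g _ _

theorem act_ext {g h : Om} (hh : ∀ x, act g x = act h x) : g = h :=
  omVal_ext (Matrix.ext_iff_mulVec.2 hh)

/-- A Siegel transformation as an element of `Ω`. -/
def elt (e w : V) : Om := by
  classical
  exact if h : ∃ s : Om, omVal s = eMat Q e w then h.choose else 1

theorem elt_val (H : Hyp Q) {e w : V} (h : OK Q e w) : omVal (elt e w : Om) = eMat Q e w := by
  obtain ⟨p, hp⟩ := CharP.exists F
  haveI : Fact p.Prime := ⟨CharP.char_is_prime F p⟩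
  have hex := exists_eOm (p := p) H.nd H.tri h
  rw [elt, dif_pos hex]
  exact hex.choose_spec

theorem act_elt (H : Hyp Q) {e w : V} (h : OK Q e w) (x : V) :
    act (elt e w : Om) x = x + B e x • w - B w x • e - (Q w * B e x) • e := by
  rw [act, elt_val H h, eMat_mulVec]

theorem elt_zero (H : Hyp Q) {e : V} (he : Q e = 0) : (elt e 0 : Om) = 1 :=
  omVal_ext (by rw [elt_val H (OK.zero he), eMat_zero, omVal_one])

theorem elt_add (H : Hyp Q) {e w w' : V} (h : OK Q e w) (h' : OK Q e w') :
    (elt e (w + w') : Om) = elt e w * elt e w' :=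
  act_ext fun x => by
    rw [act_mul, act, act, act, elt_val H (h.add h'), elt_val H h, elt_val H h', Matrix.mulVec_mulVec,
      eMat_mul h h']

theorem OK.smul_left' {e w : V} (h : OK Q e w) (c : F) : OK Q (c • e) w :=
  ⟨by rw [QuadraticMap.map_smul, h.1, smul_zero],
    by rw [QuadraticMap.polar_smul_left, h.2, smul_zero]⟩

theorem elt_smul_left (H : Hyp Q) {e w : V} (h : OK Q e w) (c : F) :
    (elt (c • e) w : Om) = elt e (c • w) :=
  omVal_ext (by rw [elt_val H (OK.smul_left' h c), elt_val H (h.smul c), eMat_smul_left])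

theorem OK.map' {e w : V} (h : OK Q e w) (g : Om) : OK Q (act g e) (act g w) :=
  ⟨by rw [act_quad, h.1], by rw [act_polar, h.2]⟩

theorem elt_conj (H : Hyp Q) (g : Om) {e w : V} (h : OK Q e w) :
    g * (elt e w : Om) * g⁻¹ = elt (act g e) (act g w) :=
  act_ext fun x => by
    rw [act_mul, act_mul, act_elt H h, act_elt H (OK.map' h g), act_sub, act_sub, act_add,
      act_inv_cancel', act_smul, act_smul, act_smul, polar_act_left, polar_act_left, act_quad]

theorem elt_mul_left (H : Hyp Q) (g : Om) {e w : V} (h : OK Q e w) :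
    g * (elt e w : Om) = elt (act g e) (act g w) * g := by
  rw [← elt_conj H g h, inv_mul_cancel_right]

theorem elt_swap (H : Hyp Q) {x y : V} (hx : Q x = 0) (hy : Q y = 0) (hxy : B x y = 0) :
    (elt x y : Om) = elt y (-x) := by
  have h' : OK Q y (-x) := ⟨hy, by rw [QuadraticMap.polar_neg_right, QuadraticMap.polar_comm, hxy, neg_zero]⟩
  refine act_ext fun z => ?_
  rw [act_elt H ⟨hx, hxy⟩, act_elt H h', QuadraticMap.map_neg, hx, hy, QuadraticMap.polar_neg_left]
  module

theorem elt_self (H : Hyp Q) {x : V} (hx : Q x = 0) (c : F) : (elt x (c • x) : Om) = 1 := by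
  have h : OK Q x (c • x) :=
    ⟨hx, by rw [QuadraticMap.polar_smul_right, polar_self' hx, smul_zero]⟩
  refine act_ext fun z => ?_
  rw [act_elt H h, act_one, QuadraticMap.map_smul, hx, smul_zero, QuadraticMap.polar_smul_left,
    smul_eq_mul]
  module

theorem elt_add_left (H : Hyp Q) {x x' w : V} (h : OK Q x w) (h' : OK Q x' w) (hxx : B x x' = 0) :
    (elt (x + x') w : Om) = elt x w * elt x' w * elt x ((-Q w) • x') := by
  have hq : Q (x + x') = 0 := by rw [quad_add, h.1, h'.1, hxx]; ring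
  have h0 : OK Q (x + x') w := ⟨hq, by rw [QuadraticMap.polar_add_left, h.2, h'.2, add_zero]⟩
  have h3 : OK Q x ((-Q w) • x') :=
    ⟨h.1, by rw [QuadraticMap.polar_smul_right, hxx, smul_zero]⟩
  refine act_ext fun z => ?_
  rw [act_mul, act_mul, act_elt H h0, act_elt H h3, act_elt H h', act_elt H h]
  have a1 : B x' x = 0 := by rw [QuadraticMap.polar_comm, hxx]
  have a2 : B w x = 0 := by rw [QuadraticMap.polar_comm, h.2]
  have a3 : B w x' = 0 := by rw [QuadraticMap.polar_comm, h'.2]
  simp only [QuadraticMap.polar_add_left, QuadraticMap.polar_add_right, QuadraticMap.polar_sub_right,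
    QuadraticMap.polar_smul_left, QuadraticMap.polar_smul_right, QuadraticMap.map_smul, smul_eq_mul,
    polar_self' h.1, polar_self' h'.1, polar_self2, hxx, a1, a2, a3, h.2, h'.2, h'.1]
  module

/-! ### Frames -/

/-- A family of `m` mutually orthogonal hyperbolic pairs. -/
structure Frame (Q : QuadraticForm F (ι → F)) (m : ℕ) where
  a : ℕ → (ι → F)
  b : ℕ → (ι → F)
  pair : ∀ i, i < m → Pair Q (a i) (b i)
  orth : ∀ i k, i < m → k < m → i ≠ k →
    Perp Q (a i) (b i) (a k) ∧ Perp Q (a i) (b i) (b k)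

variable {m : ℕ}

/-- The common perpendicular of the first `j` pairs. -/
def Frame.W (fr : Frame Q m) (j : ℕ) : Submodule F V :=
  ⨅ i : Fin j, LinearMap.ker (QuadraticMap.polarBilin Q (fr.a i)) ⊓
    LinearMap.ker (QuadraticMap.polarBilin Q (fr.b i))

theorem Frame.mem_W (fr : Frame Q m) {j : ℕ} {w : V} :
    w ∈ fr.W j ↔ ∀ i, i < j → B (fr.a i) w = 0 ∧ B (fr.b i) w = 0 := by
  simp only [Frame.W, Submodule.mem_iInf, Submodule.mem_inf, LinearMap.mem_ker,
    QuadraticMap.polarBilin_apply_apply]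
  exact ⟨fun h i hi => h ⟨i, hi⟩, fun h i => h i i.2⟩

theorem Frame.W_mono (fr : Frame Q m) {i j : ℕ} (hij : i ≤ j) : fr.W j ≤ fr.W i := fun w hw => by
  rw [Frame.mem_W] at hw ⊢
  exact fun k hk => hw k (lt_of_lt_of_le hk hij)

theorem Frame.a_mem (fr : Frame Q m) {i j : ℕ} (hi : i < m) (hji : j ≤ i) : fr.a i ∈ fr.W j :=
  fr.mem_W.2 fun k hk => (fr.orth k i (by omega) hi (by omega)).1

theorem Frame.b_mem (fr : Frame Q m) {i j : ℕ} (hi : i < m) (hji : j ≤ i) : fr.b i ∈ fr.W j :=
  fr.mem_W.2 fun k hk => (fr.orth k i (by omega) hi (by omega)).2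

theorem Frame.quad_a (fr : Frame Q m) {i : ℕ} (hi : i < m) : Q (fr.a i) = 0 := (fr.pair i hi).1

theorem Frame.quad_b (fr : Frame Q m) {i : ℕ} (hi : i < m) : Q (fr.b i) = 0 := (fr.pair i hi).2.1

theorem Frame.ab (fr : Frame Q m) {i : ℕ} (hi : i < m) : B (fr.a i) (fr.b i) = 1 := (fr.pair i hi).2.2

theorem Frame.ba (fr : Frame Q m) {i : ℕ} (hi : i < m) : B (fr.b i) (fr.a i) = 1 := by
  rw [QuadraticMap.polar_comm]; exact fr.ab hi

theorem Frame.aa (fr : Frame Q m) {i k : ℕ} (hi : i < m) (hk : k < m) : B (fr.a i) (fr.a k) = 0 := by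
  rcases eq_or_ne i k with rfl | h
  · exact polar_self' (fr.quad_a hi)
  · exact (fr.orth i k hi hk h).1.1

theorem Frame.bb (fr : Frame Q m) {i k : ℕ} (hi : i < m) (hk : k < m) : B (fr.b i) (fr.b k) = 0 := by
  rcases eq_or_ne i k with rfl | h
  · exact polar_self' (fr.quad_b hi)
  · exact (fr.orth i k hi hk h).2.2

theorem Frame.ok (fr : Frame Q m) {i : ℕ} (hi : i < m) {w : V} (hw : w ∈ fr.W (i + 1)) :
    OK Q (fr.a i) w :=
  ⟨fr.quad_a hi, ((fr.mem_W).1 hw i (by omega)).1⟩

theorem Frame.polar_a (fr : Frame Q m) {i j : ℕ} (hij : i < j) {w : V} (hw : w ∈ fr.W j) :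
    B (fr.a i) w = 0 := ((fr.mem_W).1 hw i hij).1

theorem Frame.polar_b (fr : Frame Q m) {i j : ℕ} (hij : i < j) {w : V} (hw : w ∈ fr.W j) :
    B (fr.b i) w = 0 := ((fr.mem_W).1 hw i hij).2

/-- The component in the next perpendicular. -/
def Frame.proj (fr : Frame Q m) (j : ℕ) (x : V) : V := x - B (fr.b j) x • fr.a j - B (fr.a j) x • fr.b j

theorem Frame.proj_mem (fr : Frame Q m) {j : ℕ} (hj : j < m) {x : V} (hx : x ∈ fr.W j) :
    fr.proj j x ∈ fr.W (j + 1) := by
  rw [fr.mem_W]
  intro i hi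
  rcases Nat.lt_or_ge i j with h | h
  · have h1 := (fr.mem_W).1 (fr.a_mem hj (le_refl j)) i h
    have h2 := (fr.mem_W).1 (fr.b_mem hj (le_refl j)) i h
    have h3 := (fr.mem_W).1 hx i h
    constructor <;>
    · simp only [Frame.proj, QuadraticMap.polar_sub_right, QuadraticMap.polar_smul_right, h1.1, h1.2,
        h2.1, h2.2, h3.1, h3.2, smul_zero, sub_zero]
  · obtain rfl : i = j := by omega
    constructor <;>
    · simp only [Frame.proj, QuadraticMap.polar_sub_right, QuadraticMap.polar_smul_right, fr.aa hj hj,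
        fr.bb hj hj, fr.ab hj, fr.ba hj, smul_eq_mul, mul_one, mul_zero, sub_zero, sub_self]

theorem Frame.decomp (fr : Frame Q m) (j : ℕ) (x : V) :
    x = B (fr.b j) x • fr.a j + B (fr.a j) x • fr.b j + fr.proj j x := by
  rw [Frame.proj]; abel

theorem Frame.nondeg (H : Hyp Q) (fr : Frame Q m) : ∀ {j : ℕ}, j ≤ m → ∀ {z : V}, z ∈ fr.W j →
    (∀ w ∈ fr.W j, B z w = 0) → z = 0 := by
  intro j
  induction j with
  | zero =>
    intro _ z _ h
    exact eq_zero_of_polar H.nd fun w => h w (fr.mem_W.2 fun i hi => absurd hi (Nat.not_lt_zero i))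
  | succ j ih =>
    intro hj z hz h
    refine ih (by omega) (fr.W_mono (by omega) hz) fun w hw => ?_
    rw [fr.decomp j w, QuadraticMap.polar_add_right, QuadraticMap.polar_add_right,
      QuadraticMap.polar_smul_right, QuadraticMap.polar_smul_right, h _ (fr.proj_mem (by omega) hw),
      QuadraticMap.polar_comm _ z (fr.a j), QuadraticMap.polar_comm _ z (fr.b j),
      fr.polar_a (by omega : j < j + 1) hz, fr.polar_b (by omega : j < j + 1) hz]
    simp

theorem Frame.exists_functional (H : Hyp Q) (fr : Frame Q m) {j : ℕ} (hj : j ≤ m)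
    (f : fr.W j →ₗ[F] F) : ∃ y ∈ fr.W j, ∀ w : fr.W j, f w = B y (w : V) := by
  let L : fr.W j →ₗ[F] (fr.W j →ₗ[F] F) :=
    ((QuadraticMap.polarBilin Q).domRestrict₁₂ (fr.W j) (fr.W j))
  have hL : Function.Injective L := by
    rw [← LinearMap.ker_eq_bot, Submodule.eq_bot_iff]
    intro z hz
    refine Subtype.ext (fr.nondeg H hj z.2 fun w hw => ?_)
    have := LinearMap.congr_fun (LinearMap.mem_ker.1 hz) ⟨w, hw⟩
    simpa [L, LinearMap.domRestrict₁₂_apply] using this
  have hs : Function.Surjective L :=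
    (LinearMap.injective_iff_surjective_of_finrank_eq_finrank (Subspace.dual_finrank_eq.symm)).1 hL
  obtain ⟨y, hy⟩ := hs f
  exact ⟨y, y.2, fun w => by rw [← hy]; simp [L, LinearMap.domRestrict₁₂_apply]⟩

/-- A torus element attached to two orthogonal pairs. -/
theorem exists_torus2 (H : Hyp Q) {e f c d : V} (P : Pair Q e f) (P' : Pair Q c d)
    (hc : Perp Q e f c) (hd : Perp Q e f d) {ε : F} (hε : ε ≠ 0) :
    ∃ g : Om, act g e = ε • e ∧ act g f = ε⁻¹ • f ∧ act g c = ε • c ∧ act g d = ε⁻¹ • d ∧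
      ∀ x, Perp Q e f x → Perp Q c d x → act g x = x := by
  obtain ⟨g₁, h₁, -, -, i₁⟩ := exists_torus_elt H.nd P hε
  obtain ⟨g₂, h₂, -, -, i₂⟩ := exists_torus_elt H.nd P' hε
  have hmem : g₁ * g₂ ∈ Omega F ⇑Q := by
    rw [omega_eq_ker H.nd H.gen, MonoidHom.mem_ker, map_mul, i₁ H.gen, i₂ H.gen]
    simp only [Prod.mk_mul_mk, one_mul, Int.units_mul_self]
    rfl
  have hval : ∀ x, act (⟨g₁ * g₂, hmem⟩ : Om) x = ogVal g₁ *ᵥ (ogVal g₂ *ᵥ x) := fun x => by
    rw [Matrix.mulVec_mulVec, ← ogVal_mul]; rfl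
  have e0 : B e e = 0 := polar_self' P.1
  have f0 : B f f = 0 := polar_self' P.2.1
  have c0 : B c c = 0 := polar_self' P'.1
  have d0 : B d d = 0 := polar_self' P'.2.1
  have fe : B f e = 1 := by rw [QuadraticMap.polar_comm]; exact P.2.2
  have dc : B d c = 1 := by rw [QuadraticMap.polar_comm]; exact P'.2.2
  have ce : B c e = 0 := by rw [QuadraticMap.polar_comm]; exact hc.1
  have cf : B c f = 0 := by rw [QuadraticMap.polar_comm]; exact hc.2
  have de : B d e = 0 := by rw [QuadraticMap.polar_comm]; exact hd.1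
  have df : B d f = 0 := by rw [QuadraticMap.polar_comm]; exact hd.2
  refine ⟨⟨g₁ * g₂, hmem⟩, ?_, ?_, ?_, ?_, fun x hx hx' => ?_⟩
  · rw [hval, h₂, de, ce, mul_zero, zero_smul, add_zero, mul_zero, zero_smul, add_zero, h₁, fe, e0]
    module
  · rw [hval, h₂, df, cf, mul_zero, zero_smul, add_zero, mul_zero, zero_smul, add_zero, h₁, f0, P.2.2]
    module
  · rw [hval, h₂, dc, c0, h₁]
    simp only [QuadraticMap.polar_add_right, QuadraticMap.polar_smul_right, hc.1, hc.2, hd.1, hd.2,
      smul_eq_mul, mul_zero, add_zero, zero_smul, mul_one]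
    module
  · rw [hval, h₂, d0, P'.2.2, h₁]
    simp only [QuadraticMap.polar_add_right, QuadraticMap.polar_smul_right, hc.1, hc.2, hd.1, hd.2,
      smul_eq_mul, mul_zero, add_zero, zero_smul, mul_one]
    module
  · rw [hval, h₂, hx'.1, hx'.2, mul_zero, zero_smul, add_zero, mul_zero, zero_smul, add_zero, h₁,
      hx.1, hx.2]
    module

/-- Two steps send a singular vector to a multiple of a partner. -/
theorem act_flip (H : Hyp Q) {x z w : V} (P : Pair Q x z) (hw : Perp Q x z w) (hw0 : Q w ≠ 0) :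
    act (elt x ((Q w)⁻¹ • w) * elt z w : Om) x = (-Q w) • z := by
  have h1 : OK Q z w := ⟨P.2.1, hw.2⟩
  have h2 : OK Q x ((Q w)⁻¹ • w) :=
    ⟨P.1, by rw [QuadraticMap.polar_smul_right, hw.1, smul_zero]⟩
  have zx : B z x = 1 := by rw [QuadraticMap.polar_comm]; exact P.2.2
  have wx : B w x = 0 := by rw [QuadraticMap.polar_comm]; exact hw.1
  have wz : B w z = 0 := by rw [QuadraticMap.polar_comm]; exact hw.2
  rw [act_mul, act_elt H h1, act_elt H h2]
  simp only [QuadraticMap.polar_add_right, QuadraticMap.polar_sub_right, QuadraticMap.polar_smul_left,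
    QuadraticMap.polar_smul_right, QuadraticMap.map_smul, smul_eq_mul, polar_self' P.1, P.2.2, zx, wx,
    wz, hw.1, polar_self2]
  match_scalars <;> field_simp <;> ring

end Cfsg.Agent.Lie.OrthDeg
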