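import Cfsg.Agent.Lib.Lie.OrthDeg.Levels
import Cfsg.Agent.Lib.Lie.RepDegSL

/-! The class of long root elements. -/

set_option autoImplicit false
set_option linter.unusedSectionVars false
set_option quotPrecheck false

noncomputable section

namespace Cfsg.Agent.Lie.OrthDeg

open Matrix Module Cfsg.Agent.Classical Cfsg.Agent.Classical.OrthAut

universe u v

variable {F : Type u} [Field F] [Fintype F] {ι : Type} [Fintype ι] [DecidableEq ι]
  {Q : QuadraticForm F (ι → F)} {m : ℕ} (fr : Frame Q m)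

local notation "V" => (ι → F)
local notation "B" => QuadraticMap.polar ⇑Q
local notation "Om" => Omega F ⇑Q

theorem Frame.ts (hm : 2 ≤ m) : TS Q (fr.a 0) (fr.a 1) := by
  refine ⟨fr.quad_a (by omega), fr.quad_a (by omega), fr.aa (by omega) (by omega), fun s t h => ?_⟩
  have h1 := congrArg (B (fr.b 0)) h
  have h2 := congrArg (B (fr.b 1)) h
  simp [QuadraticMap.polar_add_right, QuadraticMap.polar_smul_right, fr.ba (by omega : 0 < m),
    fr.ba (by omega : 1 < m), (fr.orth 0 1 (by omega) (by omega) (by omega)).1.2,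
    (fr.orth 1 0 (by omega) (by omega) (by omega)).1.2] at h1 h2
  exact ⟨h1, h2⟩

theorem exists_act_TS (H : Hyp Q) {a b c d : V} (h : TS Q a b) (h' : TS Q c d) :
    ∃ g : Om, act g a = c ∧ ∃ k : F, act g b = d + k • c := by
  obtain ⟨g, hg, ha, hb⟩ := exists_move_TS H.nd H.tri h h'
  exact ⟨⟨g, sR_le_omega H.nd H.tri hg⟩, ha, hb⟩

theorem isConj_root (H : Hyp Q) {a b c d : V} (h : TS Q a b) (h' : TS Q c d) :
    IsConj (elt a b : Om) (elt c d) := by
  obtain ⟨g, ha, k, hb⟩ := exists_act_TS H h h'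
  refine isConj_iff.2 ⟨g, omVal_ext ?_⟩
  have hok := OK.map' h.ok g
  rw [elt_conj H g h.ok, elt_val H hok, elt_val H h'.ok, ha, hb, eMat_add_self h'.ok]

theorem TS.map_act {a b : V} (h : TS Q a b) (g : Om) : TS Q (act g a) (act g b) := h.map (g : isometryGroup F ⇑Q)

theorem card_ne_zero_sub (P : V → Prop) (h0 : P 0) :
    Nat.card {v : V // P v ∧ v ≠ 0} = Nat.card {v : V // P v} - 1 := by
  classical
  rw [Nat.card_eq_fintype_card, Nat.card_eq_fintype_card, Fintype.card_subtype, Fintype.card_subtype,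
    show (Finset.univ.filter fun v : V => P v ∧ v ≠ 0) = (Finset.univ.filter fun v : V => P v).erase 0 by
      ext v; simp [and_comm],
    Finset.card_erase_of_mem (by simpa using h0)]

theorem Frame.num_eq_card (j : ℕ) (c : F) :
    fr.num j c = Nat.card {v : V // v ∈ fr.W j ∧ Q v = c} :=
  Nat.card_congr (Equiv.subtypeSubtypeEquivSubtypeInter (fun v : V => v ∈ fr.W j) (fun v : V => Q v = c))

/-- The number of partners of a singular vector. -/
theorem card_partner (H : Hyp Q) (hm : 2 ≤ m) {a : V} (ha : Q a = 0) (ha0 : a ≠ 0) :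
    Nat.card {b : V // TS Q a b} = Fintype.card F * (fr.num 1 0 - 1) := by
  classical
  have h0m : 0 < m := by omega
  have base : Nat.card {b : V // TS Q (fr.a 0) b} = Fintype.card F * (fr.num 1 0 - 1) := by
    have e : {b : V // TS Q (fr.a 0) b} ≃ F × {z : V // (z ∈ fr.W 1 ∧ Q z = 0) ∧ z ≠ 0} :=
      { toFun := fun b => (B (fr.b 0) b.1, ⟨fr.proj 0 b.1, ⟨fr.proj_mem h0m (fr.mem_W.2 fun i hi =>
            absurd hi (Nat.not_lt_zero i)), by
          have hb := b.2
          rw [Frame.proj, hb.2.2.1, zero_smul, sub_zero, sub_eq_add_neg, ← neg_smul, quad_add_smul,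
            hb.2.1, fr.quad_a h0m, QuadraticMap.polar_comm _ _ (fr.a 0), hb.2.2.1]
          ring⟩, fun e => by
          have hb := b.2
          have h := fr.decomp 0 b.1
          rw [hb.2.2.1, zero_smul, add_zero, e, add_zero] at h
          exact one_ne_zero (hb.2.2.2 (B (fr.b 0) b.1) (-1) (by
            rw [neg_smul, one_smul, ← h, add_neg_cancel])|>.2 |> neg_eq_zero.1)⟩)
        invFun := fun p => ⟨p.1 • fr.a 0 + p.2.1, by
          obtain ⟨⟨hzW, hzq⟩, hz0⟩ := p.2.2
          have hza := fr.polar_a (Nat.lt_succ_self 0) hzW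
          have hzb := fr.polar_b (Nat.lt_succ_self 0) hzW
          refine ⟨fr.quad_a h0m, ?_, ?_, fun s t h => ?_⟩
          · rw [quad_add, QuadraticMap.map_smul, fr.quad_a h0m, hzq, QuadraticMap.polar_smul_left, hza]
            simp
          · rw [QuadraticMap.polar_add_right, QuadraticMap.polar_smul_right, fr.aa h0m h0m, hza]
            simp
          · have h1 := congrArg (B (fr.b 0)) h
            simp [QuadraticMap.polar_add_right, QuadraticMap.polar_smul_right, fr.ba h0m, hzb] at h1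
            have h2 : t • p.2.1 = 0 := by
              linear_combination (norm := module) h - h1 • fr.a 0
            have ht : t = 0 := (smul_eq_zero.1 h2).resolve_right hz0
            subst ht
            exact ⟨by simpa using h1, rfl⟩⟩
        left_inv := fun b => Subtype.ext (by
          show B (fr.b 0) b.1 • fr.a 0 + fr.proj 0 b.1 = b.1
          conv_rhs => rw [fr.decomp 0 b.1, b.2.2.2.1, zero_smul, add_zero])
        right_inv := fun p => by
          obtain ⟨r, z, ⟨hzW, hzq⟩, hz0⟩ := p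
          have hza := fr.polar_a (Nat.lt_succ_self 0) hzW
          have hzb := fr.polar_b (Nat.lt_succ_self 0) hzW
          refine Prod.ext ?_ (Subtype.ext ?_)
          · simp [QuadraticMap.polar_add_right, QuadraticMap.polar_smul_right, fr.ba h0m, hzb]
          · simp [Frame.proj, QuadraticMap.polar_add_right, QuadraticMap.polar_smul_right, fr.ba h0m,
              fr.aa h0m h0m, hzb, hza] }
    rw [Nat.card_congr e, Nat.card_prod, card_ne_zero_sub (fun z => z ∈ fr.W 1 ∧ Q z = 0) (by simp),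
      ← fr.num_eq_card, Nat.card_eq_fintype_card (α := F)]
  rw [← base]
  -- transport along an element of the group
  have h01 := fr.ts hm
  obtain ⟨b, hab⟩ : ∃ b, TS Q a b := by
    obtain ⟨g, hg, hga⟩ := exists_move H.nd H.tri h01.left_ne h01.1 ha0 ha
    exact ⟨_, hga ▸ h01.map g⟩
  obtain ⟨g, hga, -⟩ := exists_act_TS H h01 hab
  refine Nat.card_congr
    { toFun := fun x => ⟨act g⁻¹ x.1, by
        have := TS.map_act x.2 g⁻¹
        rwa [show act g⁻¹ a = fr.a 0 by rw [← hga, act_inv_cancel]] at this⟩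
      invFun := fun x => ⟨act g x.1, by
        have := TS.map_act x.2 g
        rwa [hga] at this⟩
      left_inv := fun x => Subtype.ext (act_inv_cancel' g _)
      right_inv := fun x => Subtype.ext (act_inv_cancel g _) }

/-- Another ordered basis of determinant one gives the same element. -/
theorem ts_lin {a b : V} (h : TS Q a b) {α β γ δ : F} (hd : α * δ - β * γ = 1) :
    TS Q (α • a + β • b) (γ • a + δ • b) ∧ eMat Q (α • a + β • b) (γ • a + δ • b) = eMat Q a b := by
  obtain ⟨qa, qb, hab, hind⟩ := h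
  have hba : B b a = 0 := by rw [QuadraticMap.polar_comm]; exact hab
  refine ⟨⟨by simp [quad_lin, qa, qb, hab], by simp [quad_lin, qa, qb, hab], ?_, fun s r h => ?_⟩, ?_⟩
  · simp [QuadraticMap.polar_add_left, QuadraticMap.polar_add_right, QuadraticMap.polar_smul_left,
      QuadraticMap.polar_smul_right, hab, hba, polar_self' qa, polar_self' qb]
  · obtain ⟨h1, h2⟩ := hind (s * α + r * γ) (s * β + r * δ) (by rw [← h]; module)
    exact ⟨by linear_combination δ * h1 - γ * h2 - s * hd, by linear_combination α * h2 - β * h1 - r * hd⟩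
  · refine Matrix.ext_iff_mulVec.2 fun x => ?_
    have q0 : Q (γ • a + δ • b) = 0 := by simp [quad_lin, qa, qb, hab]
    rw [eMat_mulVec, eMat_mulVec, q0, qb, QuadraticMap.polar_add_left, QuadraticMap.polar_add_left,
      QuadraticMap.polar_smul_left, QuadraticMap.polar_smul_left, QuadraticMap.polar_smul_left,
      QuadraticMap.polar_smul_left, smul_eq_mul, smul_eq_mul, smul_eq_mul, smul_eq_mul]
    match_scalars
    · ring
    · linear_combination (-B b x) * hd
    · linear_combination (B a x) * hd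

/-- Pairs of determinant one. -/
theorem card_det_one :
    Nat.card {M : (F × F) × (F × F) // M.1.1 * M.2.2 - M.1.2 * M.2.1 = 1} =
      Fintype.card F * (Fintype.card F ^ 2 - 1) := by
  classical
  have e : {M : (F × F) × (F × F) // M.1.1 * M.2.2 - M.1.2 * M.2.1 = 1} ≃
      ({r : F // r ≠ 0} × F) ⊕ ({r : F // r ≠ 0} × F × F) :=
    { toFun := fun M => if h : M.1.1.1 = 0 then
          Sum.inl (⟨M.1.1.2, fun e => by simpa [h, e] using M.2⟩, M.1.2.2)
        else Sum.inr (⟨M.1.1.1, h⟩, M.1.1.2, M.1.2.1)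
      invFun := fun x => match x with
        | Sum.inl (r, d) => ⟨((0, r.1), (-r.1⁻¹, d)), by simp [r.2]⟩
        | Sum.inr (r, b, c) => ⟨((r.1, b), (c, (1 + b * c) / r.1)), by
            show r.1 * ((1 + b * c) / r.1) - b * c = 1
            rw [mul_div_cancel₀ _ r.2]; ring⟩
      left_inv := fun ⟨⟨⟨a, b⟩, ⟨c, d⟩⟩, hM⟩ => by
        by_cases h : a = 0
        · subst h
          simp only [↓reduceDIte]
          refine Subtype.ext (Prod.ext rfl (Prod.ext ?_ rfl))
          show -b⁻¹ = c
          have hb : b ≠ 0 := fun e => by simp [e] at hM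
          field_simp
          linear_combination hM
        · simp only [h, ↓reduceDIte]
          refine Subtype.ext (Prod.ext rfl (Prod.ext rfl ?_))
          show (1 + b * c) / a = d
          rw [div_eq_iff h]
          linear_combination -hM
      right_inv := fun x => by
        rcases x with ⟨r, d⟩ | ⟨r, b, c⟩
        · simp
        · simp [r.2] }
  have hne : Nat.card {r : F // r ≠ 0} = Fintype.card F - 1 := by
    rw [Nat.card_eq_fintype_card, Fintype.card_subtype_compl, Fintype.card_subtype_eq]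
  rw [Nat.card_congr e, Nat.card_sum, Nat.card_prod, Nat.card_prod, Nat.card_prod, hne,
    Nat.card_eq_fintype_card (α := F)]
  obtain ⟨p, hp⟩ : ∃ p, Fintype.card F = p + 1 :=
    ⟨_, (Nat.succ_pred_eq_of_pos Fintype.card_pos).symm⟩
  rw [hp, Nat.add_sub_cancel, show (p + 1) ^ 2 = p * p + 2 * p + 1 by ring, Nat.add_sub_cancel]
  ring

set_option maxHeartbeats 1000000 in
/-- The size of the class of long root elements. -/
theorem index_root (H : Hyp Q) (hm : 2 ≤ m) :
    (Subgroup.centralizer ({elt (fr.a 0) (fr.a 1)} : Set Om)).index * (Fintype.card F ^ 2 - 1) =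
      (fr.num 0 0 - 1) * (fr.num 1 0 - 1) := by
  classical
  have h01 := fr.ts hm
  rw [← Char.card_conjClass]
  let C := {x : Om // IsConj (elt (fr.a 0) (fr.a 1) : Om) x}
  let S := {M : (F × F) × (F × F) // M.1.1 * M.2.2 - M.1.2 * M.2.1 = 1}
  let P := Σ a : {v : V // Q v = 0 ∧ v ≠ 0}, {b : V // TS Q a.1 b}
  have hP : Nat.card P = (fr.num 0 0 - 1) * (Fintype.card F * (fr.num 1 0 - 1)) := by
    haveI : Fintype {v : V // Q v = 0 ∧ v ≠ 0} := Fintype.ofFinite _
    rw [Nat.card_sigma, Finset.sum_congr rfl (fun (v : {v : V // Q v = 0 ∧ v ≠ 0}) _ =>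
      card_partner fr H hm v.2.1 v.2.2), Finset.sum_const, Finset.card_univ, ← Nat.card_eq_fintype_card,
      card_ne_zero_sub (fun v => Q v = 0) (QuadraticMap.map_zero Q), smul_eq_mul, show fr.num 0 0 = Nat.card {v : V // Q v = 0} from (fr.num_eq_card 0 0).trans
        (Nat.card_congr (Equiv.subtypeEquivRight fun v =>
          ⟨fun h => h.2, fun h => ⟨fr.mem_W.2 fun i hi => absurd hi (Nat.not_lt_zero i), h⟩⟩))]
  have hrep : ∀ t : C, ∃ a b : V, TS Q a b ∧ t.1 = elt a b := by
    rintro ⟨t, ht⟩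
    obtain ⟨g, hg⟩ := isConj_iff.1 ht
    refine ⟨act g (fr.a 0), act g (fr.a 1), TS.map_act h01 g, ?_⟩
    show t = _
    rw [← hg, elt_conj H g h01.ok]
  choose aa bb hts hel using hrep
  have hlin : ∀ (t : C) (M : S), TS Q (M.1.1.1 • aa t + M.1.1.2 • bb t) (M.1.2.1 • aa t + M.1.2.2 • bb t) ∧
      eMat Q (M.1.1.1 • aa t + M.1.1.2 • bb t) (M.1.2.1 • aa t + M.1.2.2 • bb t) = eMat Q (aa t) (bb t) :=
    fun t M => ts_lin (hts t) M.2
  let θ : C × S → P := fun p =>
    ⟨⟨_, (hlin p.1 p.2).1.1, (hlin p.1 p.2).1.left_ne⟩, ⟨_, (hlin p.1 p.2).1⟩⟩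
  have hθ : ∀ p, eMat Q (θ p).1.1 (θ p).2.1 = omVal p.1.1 := fun p => by
    rw [hel p.1, elt_val H (hts p.1).ok]; exact (hlin p.1 p.2).2
  have hext : ∀ x y : P, x.1.1 = y.1.1 → x.2.1 = y.2.1 → x = y := by
    rintro ⟨⟨a, ha⟩, ⟨b, hb⟩⟩ ⟨⟨a', ha'⟩, ⟨b', hb'⟩⟩ (rfl : a = a') (rfl : b = b')
    rfl
  have hbij : Function.Bijective θ := by
    refine ⟨fun p p' h => ?_, fun x => ?_⟩
    · have h1 : p.1 = p'.1 := Subtype.ext (omVal_ext (by rw [← hθ p, h, hθ p']))
      obtain ⟨t, M⟩ := p
      obtain ⟨t', M'⟩ := p'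
      subst h1
      have e1 : M.1.1.1 • aa t + M.1.1.2 • bb t = M'.1.1.1 • aa t + M'.1.1.2 • bb t :=
        congrArg (fun x : P => x.1.1) h
      have e2 : M.1.2.1 • aa t + M.1.2.2 • bb t = M'.1.2.1 • aa t + M'.1.2.2 • bb t :=
        congrArg (fun x : P => x.2.1) h
      obtain ⟨a1, a2⟩ := (hts t).2.2.2 (M.1.1.1 - M'.1.1.1) (M.1.1.2 - M'.1.1.2)
        (by linear_combination (norm := module) e1)
      obtain ⟨a3, a4⟩ := (hts t).2.2.2 (M.1.2.1 - M'.1.2.1) (M.1.2.2 - M'.1.2.2)
        (by linear_combination (norm := module) e2)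
      exact Prod.ext rfl (Subtype.ext (Prod.ext (Prod.ext (sub_eq_zero.1 a1) (sub_eq_zero.1 a2))
        (Prod.ext (sub_eq_zero.1 a3) (sub_eq_zero.1 a4))))
    · obtain ⟨⟨c, hc⟩, ⟨d, hcd⟩⟩ := x
      let t : C := ⟨elt c d, isConj_root H h01 hcd⟩
      obtain ⟨qa, qb, hab, hind⟩ := hts t
      have e : eMat Q (aa t) (bb t) = eMat Q c d := by
        rw [← elt_val H (hts t).ok, ← elt_val H hcd.ok, ← hel t]
      obtain ⟨⟨α, β, hc'⟩, ⟨γ, δ, hd'⟩⟩ := span_of_eMat_eq H.nd (hts t) hcd.ok hcd.2.2.2 e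
      change c = _ at hc'
      change d = _ at hd'
      have hdet : α * δ - β * γ = 1 := by
        obtain ⟨x, hx1, hx2⟩ := exists_polar2 H.nd hind 1 0
        have h := congrArg (fun M => M *ᵥ x) e
        simp only [eMat_mulVec] at h
        rw [hc', hd'] at h
        simp only [QuadraticMap.polar_add_left, QuadraticMap.polar_smul_left,
          quad_lin, qa, qb, hab, hx1, hx2, smul_eq_mul, mul_one, mul_zero, add_zero, zero_add, one_smul,
          zero_smul, sub_zero, zero_mul] at h
        obtain ⟨-, h2⟩ := hind (α * γ - γ * α) (α * δ - γ * β - 1)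
          (by linear_combination (norm := module) -h)
        linear_combination h2
      exact ⟨(t, ⟨((α, β), (γ, δ)), hdet⟩), hext _ _ hc'.symm hd'.symm⟩
  have h := Nat.card_eq_of_bijective θ hbij
  rw [Nat.card_prod, hP, card_det_one, mul_left_comm (fr.num 0 0 - 1), mul_left_comm] at h
  exact Nat.eq_of_mul_eq_mul_left Fintype.card_pos h

end Cfsg.Agent.Lie.OrthDeg
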