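import Cfsg.Agent.Lib.Lie.OrthDeg.Basic

/-! Numbers of vectors of a given value in the perpendiculars of a frame. -/

set_option autoImplicit false
set_option linter.unusedSectionVars false
set_option quotPrecheck false

noncomputable section

namespace Cfsg.Agent.Lie.OrthDeg

open Matrix Module Cfsg.Agent.Classical Cfsg.Agent.Classical.OrthAut

universe u

variable {F : Type u} [Field F] [Fintype F] {ι : Type} [Fintype ι] [DecidableEq ι]
  {Q : QuadraticForm F (ι → F)} {m : ℕ} (fr : Frame Q m)

local notation "V" => (ι → F)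
local notation "B" => QuadraticMap.polar ⇑Q

/-- The number of vectors of value `c`. -/
def Frame.num (j : ℕ) (c : F) : ℕ := Nat.card {w : fr.W j // Q (w : V) = c}

/-- Coordinates with respect to one pair. -/
def Frame.split {j : ℕ} (hj : j < m) : fr.W j ≃ F × F × fr.W (j + 1) where
  toFun w := (B (fr.b j) (w : V), B (fr.a j) (w : V), ⟨fr.proj j w, fr.proj_mem hj w.2⟩)
  invFun p := ⟨p.1 • fr.a j + p.2.1 • fr.b j + (p.2.2 : V),
    add_mem (add_mem (Submodule.smul_mem _ _ (fr.a_mem hj le_rfl))
      (Submodule.smul_mem _ _ (fr.b_mem hj le_rfl))) (fr.W_mono (by omega) p.2.2.2)⟩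
  left_inv w := Subtype.ext (fr.decomp j w).symm
  right_inv p := by
    obtain ⟨r, s, z⟩ := p
    have ha := fr.polar_a (by omega : j < j + 1) z.2
    have hb := fr.polar_b (by omega : j < j + 1) z.2
    refine Prod.ext ?_ (Prod.ext ?_ (Subtype.ext ?_))
    · simp [QuadraticMap.polar_add_right, QuadraticMap.polar_smul_right, fr.ba hj, fr.bb hj hj, hb]
    · simp [QuadraticMap.polar_add_right, QuadraticMap.polar_smul_right, fr.ab hj, fr.aa hj hj, ha]
    · show fr.proj j _ = (z : V)
      simp only [Frame.proj, QuadraticMap.polar_add_right, QuadraticMap.polar_smul_right, fr.ab hj,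
        fr.aa hj hj, fr.ba hj, fr.bb hj hj, ha, hb, smul_eq_mul]
      module

theorem Frame.quad_split {j : ℕ} (hj : j < m) (w : fr.W j) :
    Q (w : V) = (fr.split hj w).1 * (fr.split hj w).2.1 + Q ((fr.split hj w).2.2 : V) := by
  have hp := fr.proj_mem hj w.2
  show Q (w : V) = B (fr.b j) (w : V) * B (fr.a j) (w : V) + Q (fr.proj j w)
  conv_lhs => rw [fr.decomp j w]
  simp only [quad_add, QuadraticMap.map_smul, fr.quad_a hj, fr.quad_b hj, QuadraticMap.polar_add_left,
    QuadraticMap.polar_smul_left, QuadraticMap.polar_smul_right, fr.ab hj,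
    fr.polar_a (by omega : j < j + 1) hp, fr.polar_b (by omega : j < j + 1) hp, smul_eq_mul]
  ring

theorem Frame.card_succ {j : ℕ} (hj : j < m) :
    Nat.card (fr.W j) = Fintype.card F ^ 2 * Nat.card (fr.W (j + 1)) := by
  rw [Nat.card_congr (fr.split hj), Nat.card_prod, Nat.card_prod, Nat.card_eq_fintype_card (α := F)]
  ring

theorem Frame.num_succ {j : ℕ} (hj : j < m) (c : F) :
    fr.num j c = Fintype.card F * fr.num (j + 1) c + (Fintype.card F - 1) * Nat.card (fr.W (j + 1)) := by
  classical
  let P : F × F × fr.W (j + 1) → Prop := fun p => p.1 * p.2.1 + Q (p.2.2 : V) = c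
  have h1 : fr.num j c = Nat.card {p // P p} :=
    Nat.card_congr ((fr.split hj).subtypeEquiv fun w => by simp only [P, ← fr.quad_split hj w])
  let e : {p // P p} ≃ (F × {z : fr.W (j + 1) // Q (z : V) = c}) ⊕ ({r : F // r ≠ 0} × fr.W (j + 1)) :=
    { toFun := fun p => if h : p.1.1 = 0 then
          Sum.inl (p.1.2.1, ⟨p.1.2.2, by have := p.2; simp only [P, h, zero_mul, zero_add] at this; exact this⟩)
        else Sum.inr (⟨p.1.1, h⟩, p.1.2.2)
      invFun := fun x => match x with
        | Sum.inl (s, z) => ⟨(0, s, z.1), by simp only [P, zero_mul, zero_add]; exact z.2⟩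
        | Sum.inr (r, z) => ⟨(r.1, (c - Q (z : V)) / r.1, z), by
            simp only [P]; rw [mul_div_cancel₀ _ r.2, sub_add_cancel]⟩
      left_inv := fun ⟨⟨r, s, z⟩, hp⟩ => by
        by_cases h : r = 0
        · simp [h]
        · simp only [h, ↓reduceDIte]
          refine Subtype.ext (Prod.ext rfl (Prod.ext ?_ rfl))
          show (c - Q (z : V)) / r = s
          rw [div_eq_iff h, ← hp]
          ring
      right_inv := fun x => by
        rcases x with ⟨s, z⟩ | ⟨r, z⟩
        · simp
        · simp [r.2] }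
  have hne : Nat.card {r : F // r ≠ 0} = Fintype.card F - 1 := by
    rw [Nat.card_eq_fintype_card, Fintype.card_subtype_compl, Fintype.card_subtype_eq]
  rw [h1, Nat.card_congr e, Nat.card_sum, Nat.card_prod, Nat.card_prod, hne,
    Nat.card_eq_fintype_card (α := F)]
  rfl

/-- The number of non-zero singular vectors. -/
theorem Frame.num_zero_pos (j : ℕ) : 1 ≤ fr.num j 0 := by
  haveI : Nonempty {w : fr.W j // Q (w : V) = 0} := ⟨⟨0, by simp⟩⟩
  exact Nat.card_pos

end Cfsg.Agent.Lie.OrthDeg
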