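import Cfsg.Agent.Lib.Lie.OrthDeg.Prep

/-! Diagonal elements of a frame, flips of one pair and the rank one identity. -/

set_option autoImplicit false
set_option linter.unusedSectionVars false
set_option quotPrecheck false

noncomputable section

namespace Cfsg.Agent.Lie.OrthDeg

open Matrix Module Cfsg.Agent.Classical Cfsg.Agent.Classical.OrthAut

universe u

variable {F : Type u} [Field F] [Fintype F] {ι : Type} [Fintype ι] [DecidableEq ι]
  {Q : QuadraticForm F (ι → F)} {m : ℕ} (fr : Frame Q m)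

local notation "V" => (ι → F)
local notation "B" => QuadraticMap.polar ⇑Q
local notation "Om" => Omega F ⇑Q

/-- Elements of `Ω` agree when they agree on the frame and on its kernel. -/
theorem Frame.ext_act {g h : Om} (hf : ∀ k, k < m → act g (fr.a k) = act h (fr.a k) ∧
    act g (fr.b k) = act h (fr.b k)) (hW : ∀ w ∈ fr.W m, act g w = act h w) : g = h := by
  refine act_ext fun x => ?_
  have e : x = ∑ k : Fin m, fr.coA x k • fr.a k + ∑ k : Fin m, fr.coB x k • fr.b k + fr.base x := by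
    rw [fr.base_apply, fr.comb_apply]; abel
  have key : ∀ g : Om, act g x = ∑ k : Fin m, fr.coA x k • act g (fr.a k) +
      ∑ k : Fin m, fr.coB x k • act g (fr.b k) + act g (fr.base x) := by
    intro g
    conv_lhs => rw [e]
    simp only [act, mulVec_add, mulVec_sum, mulVec_smul]
  rw [key g, key h, hW _ (base_mem fr x)]
  congr 1
  congr 1
  · exact Finset.sum_congr rfl fun k _ => by rw [(hf k k.2).1]
  · exact Finset.sum_congr rfl fun k _ => by rw [(hf k k.2).2]

/-- A diagonal element. -/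
structure Diag (g : Om) (d : ℕ → F) : Prop where
  ne : ∀ k, k < m → d k ≠ 0
  a : ∀ k, k < m → act g (fr.a k) = d k • fr.a k
  b : ∀ k, k < m → act g (fr.b k) = (d k)⁻¹ • fr.b k
  fix : ∀ w ∈ fr.W m, act g w = w

variable {fr}

theorem Diag.scales {g : Om} {d : ℕ → F} (h : Diag fr g d) {j : ℕ} (hj : j ≤ m) : fr.Scales j g :=
  fr.scales_of fun i hi => ⟨d i, (d i)⁻¹, h.ne i (by omega), inv_ne_zero (h.ne i (by omega)),
    h.a i (by omega), h.b i (by omega)⟩

theorem Diag.unique {g h : Om} {d d' : ℕ → F} (hg : Diag fr g d) (hh : Diag fr h d')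
    (e : ∀ k, k < m → d k = d' k) : g = h :=
  fr.ext_act (fun k hk => ⟨by rw [hg.a k hk, hh.a k hk, e k hk], by rw [hg.b k hk, hh.b k hk, e k hk]⟩)
    fun w hw => by rw [hg.fix w hw, hh.fix w hw]

theorem Diag.congr {g : Om} {d d' : ℕ → F} (hg : Diag fr g d) (e : ∀ k, k < m → d k = d' k) :
    Diag fr g d' :=
  ⟨fun k hk => e k hk ▸ hg.ne k hk, fun k hk => by rw [← e k hk]; exact hg.a k hk,
    fun k hk => by rw [← e k hk]; exact hg.b k hk, hg.fix⟩

theorem Diag.mul {g h : Om} {d d' : ℕ → F} (hg : Diag fr g d) (hh : Diag fr h d') :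
    Diag fr (g * h) (fun k => d k * d' k) :=
  ⟨fun k hk => mul_ne_zero (hg.ne k hk) (hh.ne k hk),
    fun k hk => by rw [act_mul, hh.a k hk, act_smul, hg.a k hk, smul_smul, mul_comm],
    fun k hk => by rw [act_mul, hh.b k hk, act_smul, hg.b k hk, smul_smul, mul_inv, mul_comm],
    fun w hw => by rw [act_mul, hh.fix w hw, hg.fix w hw]⟩

theorem Diag.commute {g h : Om} {d d' : ℕ → F} (hg : Diag fr g d) (hh : Diag fr h d') :
    g * h = h * g :=
  (hg.mul hh).unique (hh.mul hg) fun k _ => mul_comm _ _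

variable (fr)

/-- The value `s` at one index. -/
def one1 (p : ℕ) (s : F) : ℕ → F := fun k => if k = p then s else 1

/-- The value `s` at two indices. -/
def two2 (p q : ℕ) (s : F) : ℕ → F := fun k => if k = p ∨ k = q then s else 1

/-- The values `s` and `s⁻¹` at two indices. -/
def pm2 (p q : ℕ) (s : F) : ℕ → F := fun k => if k = p then s else if k = q then s⁻¹ else 1

theorem exists_two2 (H : Hyp Q) {p q : ℕ} (hp : p < m) (hq : q < m) (hpq : p ≠ q) {s : F} (hs : s ≠ 0) :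
    ∃ g : Om, Diag fr g (two2 p q s) := by
  have o := fr.orth p q hp hq hpq
  obtain ⟨g, ga, gb, gc, gd, gfix⟩ := exists_torus2 H (fr.pair p hp) (fr.pair q hq) o.1 o.2 hs
  refine ⟨g, ⟨fun k _ => ?_, fun k hk => ?_, fun k hk => ?_, fun w hw => gfix w
    ⟨fr.polar_a hp hw, fr.polar_b hp hw⟩ ⟨fr.polar_a hq hw, fr.polar_b hq hw⟩⟩⟩
  · unfold two2; split_ifs <;> simp [hs]
  all_goals
    rcases eq_or_ne k p with rfl | h1
    · simp [two2, ga, gb]
    rcases eq_or_ne k q with rfl | h2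
    · simp [two2, gc, gd]
    simp only [two2, h1, h2, or_self, ↓reduceIte, inv_one, one_smul]
  · exact gfix _ (fr.orth p k hp hk h1.symm).1 (fr.orth q k hq hk h2.symm).1
  · exact gfix _ (fr.orth p k hp hk h1.symm).2 (fr.orth q k hq hk h2.symm).2

theorem exists_pm2 (H : Hyp Q) {p q : ℕ} (hp : p < m) (hq : q < m) (hpq : p ≠ q) {s : F} (hs : s ≠ 0) :
    ∃ g : Om, Diag fr g (pm2 p q s) := by
  have o := fr.orth p q hp hq hpq
  have P' : Pair Q (fr.b q) (fr.a q) := ⟨fr.quad_b hq, fr.quad_a hq, fr.ba hq⟩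
  obtain ⟨g, ga, gb, gc, gd, gfix⟩ := exists_torus2 H (fr.pair p hp) P' o.2 o.1 hs
  refine ⟨g, ⟨fun k _ => ?_, fun k hk => ?_, fun k hk => ?_, fun w hw => gfix w
    ⟨fr.polar_a hp hw, fr.polar_b hp hw⟩ ⟨fr.polar_b hq hw, fr.polar_a hq hw⟩⟩⟩
  · unfold pm2; split_ifs <;> simp [hs]
  all_goals
    rcases eq_or_ne k p with rfl | h1
    · simp [pm2, ga, gb]
    rcases eq_or_ne k q with rfl | h2
    · simp [pm2, hpq.symm, gc, gd]
    simp only [pm2, h1, h2, ↓reduceIte, inv_one, one_smul]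
  · exact gfix _ (fr.orth p k hp hk h1.symm).1
      ⟨(fr.orth q k hq hk h2.symm).1.2, (fr.orth q k hq hk h2.symm).1.1⟩
  · exact gfix _ (fr.orth p k hp hk h1.symm).2
      ⟨(fr.orth q k hq hk h2.symm).2.2, (fr.orth q k hq hk h2.symm).2.1⟩

/-! ### Flips of one pair -/

/-- The element exchanging the members of one pair through a vector of the kernel. -/
def flip3 (l : ℕ) (w : V) : Om :=
  elt (fr.a l) ((Q w)⁻¹ • w) * elt (fr.b l) w * elt (fr.a l) ((Q w)⁻¹ • w)

theorem act_flip3 (H : Hyp Q) {l : ℕ} (hl : l < m) {w : V} (hw : Perp Q (fr.a l) (fr.b l) w)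
    (hw0 : Q w ≠ 0) (x : V) :
    act (flip3 fr l w) x = x - ((Q w)⁻¹ * B w x) • w - B (fr.b l) x • (fr.a l + Q w • fr.b l) -
      B (fr.a l) x • (fr.b l + (Q w)⁻¹ • fr.a l) := by
  have h1 : OK Q (fr.b l) w := ⟨fr.quad_b hl, hw.2⟩
  have h2 : OK Q (fr.a l) ((Q w)⁻¹ • w) :=
    ⟨fr.quad_a hl, by rw [QuadraticMap.polar_smul_right, hw.1, smul_zero]⟩
  have wa : B w (fr.a l) = 0 := by rw [QuadraticMap.polar_comm]; exact hw.1
  have wb : B w (fr.b l) = 0 := by rw [QuadraticMap.polar_comm]; exact hw.2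
  rw [flip3, act_mul, act_mul, act_elt H h2 x, act_elt H h1, act_elt H h2]
  simp only [QuadraticMap.polar_add_right, QuadraticMap.polar_sub_right, QuadraticMap.polar_smul_left,
    QuadraticMap.polar_smul_right, QuadraticMap.map_smul, fr.aa hl hl, fr.bb hl hl, fr.ab hl, fr.ba hl,
    hw.1, hw.2, wa, wb, polar_self2, smul_eq_mul]
  match_scalars <;> field_simp <;> ring

theorem flip3_fixes (H : Hyp Q) {l : ℕ} (hl : l < m) {w : V} (hw : w ∈ fr.W m) (hw0 : Q w ≠ 0) {k : ℕ}
    (hk : k < m) (hkl : k ≠ l) :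
    act (flip3 fr l w) (fr.a k) = fr.a k ∧ act (flip3 fr l w) (fr.b k) = fr.b k := by
  have hp : Perp Q (fr.a l) (fr.b l) w := ⟨fr.polar_a hl hw, fr.polar_b hl hw⟩
  have o := fr.orth l k hl hk hkl.symm
  rw [act_flip3 fr H hl hp hw0, act_flip3 fr H hl hp hw0, o.1.1, o.1.2, o.2.1, o.2.2,
    QuadraticMap.polar_comm _ w, fr.polar_a hk hw, QuadraticMap.polar_comm _ w, fr.polar_b hk hw]
  simp

theorem flip3_a (H : Hyp Q) {l : ℕ} (hl : l < m) {w : V} (hw : w ∈ fr.W m) (hw0 : Q w ≠ 0) :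
    act (flip3 fr l w) (fr.a l) = (-Q w) • fr.b l ∧
      act (flip3 fr l w) (fr.b l) = (-(Q w)⁻¹) • fr.a l := by
  have hp : Perp Q (fr.a l) (fr.b l) w := ⟨fr.polar_a hl hw, fr.polar_b hl hw⟩
  rw [act_flip3 fr H hl hp hw0, act_flip3 fr H hl hp hw0, fr.aa hl hl, fr.ba hl, fr.ab hl, fr.bb hl hl,
    QuadraticMap.polar_comm _ w, fr.polar_a hl hw, QuadraticMap.polar_comm _ w, fr.polar_b hl hw]
  constructor <;> module

theorem flip3_kernel (H : Hyp Q) {l : ℕ} (hl : l < m) {w x : V} (hw : w ∈ fr.W m) (hx : x ∈ fr.W m)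
    (hw0 : Q w ≠ 0) : act (flip3 fr l w) x = x - ((Q w)⁻¹ * B w x) • w := by
  rw [act_flip3 fr H hl ⟨fr.polar_a hl hw, fr.polar_b hl hw⟩ hw0, fr.polar_a hl hx, fr.polar_b hl hx]
  simp

/-- Two flips scale a pair by a square. -/
theorem diag_flips (H : Hyp Q) {l : ℕ} (hl : l < m) {w : V} (hw : w ∈ fr.W m) (hw0 : Q w ≠ 0) {s : F}
    (hs : s ≠ 0) : Diag fr (flip3 fr l (s⁻¹ • w) * flip3 fr l w) (one1 l (s * s)) := by
  have hw' : s⁻¹ • w ∈ fr.W m := Submodule.smul_mem _ _ hw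
  have hq : Q (s⁻¹ • w) = s⁻¹ * s⁻¹ * Q w := by rw [QuadraticMap.map_smul, smul_eq_mul]
  have hw0' : Q (s⁻¹ • w) ≠ 0 := by rw [hq]; simp [hs, hw0]
  refine ⟨fun k _ => ?_, fun k hk => ?_, fun k hk => ?_, fun x hx => ?_⟩
  · unfold one1; split_ifs <;> simp [hs]
  · rcases eq_or_ne k l with rfl | h
    · rw [act_mul, (flip3_a fr H hk hw hw0).1, act_smul, (flip3_a fr H hk hw' hw0').2, smul_smul,
        one1, if_pos rfl, hq]
      congr 1
      field_simp
    · rw [act_mul, (flip3_fixes fr H hl hw hw0 hk h).1, (flip3_fixes fr H hl hw' hw0' hk h).1, one1,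
        if_neg h, one_smul]
  · rcases eq_or_ne k l with rfl | h
    · rw [act_mul, (flip3_a fr H hk hw hw0).2, act_smul, (flip3_a fr H hk hw' hw0').1, smul_smul,
        one1, if_pos rfl, hq]
      congr 1
      field_simp
    · rw [act_mul, (flip3_fixes fr H hl hw hw0 hk h).2, (flip3_fixes fr H hl hw' hw0' hk h).2, one1,
        if_neg h, inv_one, one_smul]
  · have hx1 : x - ((Q w)⁻¹ * B w x) • w ∈ fr.W m := sub_mem hx (Submodule.smul_mem _ _ hw)
    rw [act_mul, flip3_kernel fr H hl hw hx hw0, flip3_kernel fr H hl hw' hx1 hw0', hq,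
      QuadraticMap.polar_smul_left, QuadraticMap.polar_sub_right, QuadraticMap.polar_smul_right, polar_self2]
    simp only [smul_eq_mul]
    match_scalars <;> field_simp <;> ring

/-! ### Rotations -/

theorem sw_b' (H : Hyp Q) {j : ℕ} (hj : j + 1 < m) : act (sw fr j) (fr.b (j + 1)) = -fr.b j := by
  have o := fr.orth j (j + 1) (by omega) hj (by omega)
  have o' := fr.orth (j + 1) j hj (by omega) (by omega)
  simp [act_sw fr H hj, act_elt H (ok_sw₁ fr H hj), act_elt H (ok_sw₂ fr H hj),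
    QuadraticMap.polar_add_right, QuadraticMap.polar_sub_right, QuadraticMap.polar_neg_right,
    QuadraticMap.polar_neg_left, QuadraticMap.polar_smul_right, fr.aa (by omega : j < m) (by omega : j < m),
    fr.aa hj hj, fr.bb hj hj, fr.bb (by omega : j < m) (by omega : j < m), fr.ab (by omega : j < m),
    fr.ba (by omega : j < m), fr.ab hj, fr.ba hj, o.1.1, o.1.2, o.2.1, o.2.2, o'.1.1, o'.1.2, o'.2.1,
    o'.2.2, fr.quad_b hj, fr.quad_b (by omega : j < m)]

theorem sw_out (H : Hyp Q) {j : ℕ} (hj : j + 1 < m) {k : ℕ} (hk : k < m) (h1 : k ≠ j) (h2 : k ≠ j + 1) :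
    act (sw fr j) (fr.a k) = fr.a k ∧ act (sw fr j) (fr.b k) = fr.b k := by
  rcases Nat.lt_or_ge k j with h | h
  · exact sw_fixes fr H hj k h
  · exact ⟨sw_fix fr H hj (fr.a_mem hk (by omega)), sw_fix fr H hj (fr.b_mem hk (by omega))⟩

theorem sw_kernel (H : Hyp Q) {j : ℕ} (hj : j + 1 < m) {w : V} (hw : w ∈ fr.W m) :
    act (sw fr j) w = w := sw_fix fr H hj (fr.W_mono (by omega) hw)

/-- Rotations permute diagonal elements. -/
theorem sw_diag (H : Hyp Q) {j : ℕ} (hj : j + 1 < m) {g : Om} {d : ℕ → F} (h : Diag fr g d) :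
    Diag fr (sw fr j * g * (sw fr j)⁻¹) (fun k => d (Equiv.swap j (j + 1) k)) := by
  have hj' : j < m := by omega
  set σ := sw fr j
  have key : ∀ {x y : V} {c : F}, act σ x = y → act g x = c • x → act (σ * g * σ⁻¹) y = c • y := by
    intro x y c h1 h2
    rw [act_mul, act_mul, ← h1, act_inv_cancel, h2, act_smul]
  have keyn : ∀ {x y : V} {c : F}, act σ x = -y → act g x = c • x → act (σ * g * σ⁻¹) y = c • y := by
    intro x y c h1 h2
    have h3 : act σ (-x) = y := by rw [← neg_one_smul F x, act_smul, h1, neg_one_smul, neg_neg]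
    exact key h3 (by rw [← neg_one_smul F x, act_smul, h2, smul_smul, smul_smul, mul_comm])
  refine ⟨fun k hk => h.ne _ ?_, fun k hk => ?_, fun k hk => ?_, fun w hw => ?_⟩
  · rw [Equiv.swap_apply_def]; split_ifs <;> omega
  · rcases eq_or_ne k j with rfl | h1
    · rw [Equiv.swap_apply_left]; exact keyn (sw_a' fr H hj) (h.a _ hj)
    rcases eq_or_ne k (j + 1) with rfl | h2
    · rw [Equiv.swap_apply_right]; exact key (sw_a fr H hj) (h.a _ hj')
    rw [Equiv.swap_apply_of_ne_of_ne h1 h2]; exact key (sw_out fr H hj hk h1 h2).1 (h.a k hk)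
  · rcases eq_or_ne k j with rfl | h1
    · rw [Equiv.swap_apply_left]; exact keyn (sw_b' fr H hj) (h.b _ hj)
    rcases eq_or_ne k (j + 1) with rfl | h2
    · rw [Equiv.swap_apply_right]; exact key (sw_b fr H hj) (h.b _ hj')
    rw [Equiv.swap_apply_of_ne_of_ne h1 h2]; exact key (sw_out fr H hj hk h1 h2).2 (h.b k hk)
  · have := key (c := 1) (sw_kernel fr H hj hw) (by rw [one_smul]; exact h.fix w hw)
    rwa [one_smul] at this

theorem exists_one1 (H : Hyp Q) {w : V} (hw : w ∈ fr.W m) (hw0 : Q w ≠ 0) {s : F} (hs : s ≠ 0) :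
    ∀ l, l < m → ∃ g : Om, Diag fr g (one1 l (s * s)) :=
  fun l hl => ⟨_, diag_flips fr H hl hw hw0 hs⟩

/-- The square of a rotation. -/
theorem sw_sq (H : Hyp Q) {j : ℕ} (hj : j + 1 < m) :
    Diag fr (sw fr j * sw fr j) (pm2 j (j + 1) (-1 : F)) := by
  have hn : ∀ x : V, act (sw fr j) (-x) = -act (sw fr j) x := fun x => by
    rw [← neg_one_smul F x, act_smul, neg_one_smul]
  refine ⟨fun k _ => ?_, fun k hk => ?_, fun k hk => ?_, fun w hw => ?_⟩
  · unfold pm2; split_ifs <;> simp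
  · rw [act_mul]
    rcases eq_or_ne k j with rfl | h1
    · rw [sw_a fr H hj, sw_a' fr H hj]; simp [pm2]
    rcases eq_or_ne k (j + 1) with rfl | h2
    · rw [sw_a' fr H hj, hn, sw_a fr H hj]; simp [pm2]
    rw [(sw_out fr H hj hk h1 h2).1, (sw_out fr H hj hk h1 h2).1]; simp [pm2, h1, h2]
  · rw [act_mul]
    rcases eq_or_ne k j with rfl | h1
    · rw [sw_b fr H hj, sw_b' fr H hj]; simp [pm2]
    rcases eq_or_ne k (j + 1) with rfl | h2
    · rw [sw_b' fr H hj, hn, sw_b fr H hj]; simp [pm2]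
    rw [(sw_out fr H hj hk h1 h2).2, (sw_out fr H hj hk h1 h2).2]; simp [pm2, h1, h2]
  · rw [act_mul, sw_kernel fr H hj hw, sw_kernel fr H hj hw]

/-- The rank one identity. -/
theorem bruhat (H : Hyp Q) {j : ℕ} (hj : j + 1 < m) {r : F} (hr : r ≠ 0) {h : Om}
    (hh : Diag fr h (pm2 j (j + 1) (-r))) :
    sw fr j * (elt (fr.a j) (r • fr.b (j + 1)) : Om) * sw fr j =
      (elt (fr.a j) ((-r⁻¹) • fr.b (j + 1)) : Om) * sw fr j * h *
        (elt (fr.a j) ((-r⁻¹) • fr.b (j + 1)) : Om) := by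
  have hj' : j < m := by omega
  have o := fr.orth j (j + 1) hj' hj (by omega)
  have hok : ∀ c : F, OK Q (fr.a j) (c • fr.b (j + 1)) := fun c =>
    ⟨fr.quad_a hj', by rw [QuadraticMap.polar_smul_right, o.2.1, smul_zero]⟩
  have hu : ∀ (c : F) (x : V), act (elt (fr.a j) (c • fr.b (j + 1)) : Om) x =
      x + (B (fr.a j) x * c) • fr.b (j + 1) - (c * B (fr.b (j + 1)) x) • fr.a j := by
    intro c x
    rw [act_elt H (hok c), QuadraticMap.map_smul, fr.quad_b hj, QuadraticMap.polar_smul_left, smul_smul]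
    simp
  have hn : ∀ x : V, act (sw fr j) (-x) = -act (sw fr j) x := fun x => by
    rw [← neg_one_smul F x, act_smul, neg_one_smul]
  have hne : (fun k => pm2 j (j + 1) (-r) k) (j + 1) = (-r)⁻¹ := by simp [pm2]
  refine fr.ext_act (fun k hk => ?_) fun w hw => ?_
  · rcases eq_or_ne k j with rfl | h1
    · constructor
      all_goals
        simp only [act_mul, hu, act_smul, act_add, act_sub, hn, sw_a fr H hj, sw_a' fr H hj, sw_b fr H hj,
          sw_b' fr H hj, hh.a k hk, hh.b k hk, hh.a (k + 1) hj, hh.b (k + 1) hj, pm2,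
          QuadraticMap.polar_add_right, QuadraticMap.polar_sub_right, QuadraticMap.polar_smul_right,
          QuadraticMap.polar_neg_right, fr.aa hk hk, fr.ab hk, fr.ba hj, fr.bb hj hj, o.1.1, o.2.1,
          QuadraticMap.polar_comm _ (fr.b (k + 1)) (fr.a k), QuadraticMap.polar_comm _ (fr.b (k + 1)) (fr.b k),
          fr.bb hk hj, smul_eq_mul, ↓reduceIte, if_neg (Nat.succ_ne_self k)]
        match_scalars <;> field_simp <;> ring
    rcases eq_or_ne k (j + 1) with rfl | h2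
    · constructor
      all_goals
        simp only [act_mul, hu, act_smul, act_add, act_sub, hn, sw_a fr H hj, sw_a' fr H hj, sw_b fr H hj,
          sw_b' fr H hj, hh.a j hj', hh.b j hj', hh.a (j + 1) hj, hh.b (j + 1) hj, pm2,
          QuadraticMap.polar_add_right, QuadraticMap.polar_sub_right, QuadraticMap.polar_smul_right,
          QuadraticMap.polar_neg_right, fr.aa hj' hj', fr.ab hj', fr.ba hj, fr.bb hj hj, o.1.1, o.2.1,
          QuadraticMap.polar_comm _ (fr.b (j + 1)) (fr.a j), QuadraticMap.polar_comm _ (fr.b (j + 1)) (fr.b j),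
          fr.bb hj' hj, smul_eq_mul, ↓reduceIte, if_neg (Nat.succ_ne_self j)]
        match_scalars <;> field_simp <;> ring
    have p1 := fr.orth j k hj' hk h1.symm
    have p2 := fr.orth (j + 1) k hj hk h2.symm
    have e1 := sw_out fr H hj hk h1 h2
    constructor
    · simp [-neg_smul, act_mul, hu, e1.1, hh.a k hk, pm2, h1, h2, p1.1.1, p2.1.2]
    · simp [-neg_smul, act_mul, hu, e1.2, hh.b k hk, pm2, h1, h2, p1.2.1, p2.2.2]
  · simp [-neg_smul, act_mul, hu, sw_kernel fr H hj hw, hh.fix w hw, fr.polar_a hj' hw, fr.polar_b hj hw]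

end Cfsg.Agent.Lie.OrthDeg
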