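import Cfsg.Agent.Lib.Lie.OrthDeg.RankOne

/-! A vector fixed by two opposite radicals is fixed by the whole group. -/

set_option autoImplicit false
set_option linter.unusedSectionVars false
set_option quotPrecheck false

noncomputable section

namespace Cfsg.Agent.Lie.OrthDeg

open Matrix Module Cfsg.Agent.Classical Cfsg.Agent.Classical.OrthAut

universe u v

variable {F : Type u} [Field F] [Fintype F] {ι : Type} [Fintype ι] [DecidableEq ι]
  {Q : QuadraticForm F (ι → F)} {m : ℕ}
variable {E : Type v} [AddCommGroup E] [Module ℂ E] [FiniteDimensional ℂ E]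

local notation "V" => (ι → F)
local notation "B" => QuadraticMap.polar ⇑Q
local notation "Om" => Omega F ⇑Q

variable (ρ : Representation ℂ (Omega F ⇑Q) E) (fr : Frame Q m)

/-- The two radicals of the first pair generate. -/
theorem fixed_all (H : Hyp Q) (hm : 2 ≤ m) (hF : 3 ≤ Fintype.card F) {v : E}
    (ha : ∀ w, B (fr.a 0) w = 0 → op ρ (fr.a 0) w v = v) (hb : ∀ w ∈ fr.W 1, op ρ (fr.b 0) w v = v)
    (g : Om) : ρ g v = v := by
  classical
  have h0 : 0 < m := by omega
  have h1 : 1 < m := by omega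
  let S : Subgroup Om :=
    { carrier := {g | ρ g v = v}
      one_mem' := by simp
      mul_mem' := fun {x y} hx hy => by
        show ρ (x * y) v = v
        rw [rho_mul, show ρ y v = v from hy, show ρ x v = v from hx]
      inv_mem' := fun {x} hx => by
        show ρ x⁻¹ v = v
        conv_lhs => rw [← show ρ x v = v from hx]
        exact rho_cancel ρ x v }
  have hea : ∀ w, B (fr.a 0) w = 0 → (elt (fr.a 0) w : Om) ∈ S := fun w hw => ha w hw
  have heb : ∀ w ∈ fr.W 1, (elt (fr.b 0) w : Om) ∈ S := fun w hw => hb w hw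
  have hW1 : ∀ w ∈ fr.W 1, Perp Q (fr.a 0) (fr.b 0) w := fun w hw =>
    ⟨fr.polar_a Nat.one_pos hw, fr.polar_b Nat.one_pos hw⟩
  let wc : F → V := fun c => c • fr.a 1 + fr.b 1
  have hwc : ∀ c, wc c ∈ fr.W 1 ∧ Q (wc c) = c := fun c =>
    ⟨add_mem (Submodule.smul_mem _ _ (fr.a_mem h1 le_rfl)) (fr.b_mem h1 le_rfl), by
      simp only [wc, quad_add, QuadraticMap.map_smul, fr.quad_a h1, fr.quad_b h1,
        QuadraticMap.polar_smul_left, fr.ab h1, smul_eq_mul]
      ring⟩
  -- multiples of the partner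
  have hB0 : ∀ β : F, β ≠ 0 → ∃ g ∈ S, act g (fr.a 0) = β • fr.b 0 := by
    intro β hβ
    obtain ⟨hw, hq⟩ := hwc (-β)
    have hq0 : Q (wc (-β)) ≠ 0 := by rw [hq]; exact neg_ne_zero.2 hβ
    refine ⟨_, S.mul_mem (hea ((Q (wc (-β)))⁻¹ • wc (-β)) (by
      rw [QuadraticMap.polar_smul_right, (hW1 _ hw).1, smul_zero])) (heb _ hw), ?_⟩
    rw [act_flip H (fr.pair 0 h0) (hW1 _ hw) hq0, hq, neg_neg]
  have hA0 : ∀ α : F, α ≠ 0 → ∃ g ∈ S, act g (fr.a 0) = α • fr.a 0 := by
    intro α hα
    obtain ⟨g, hg, hga⟩ := hB0 1 one_ne_zero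
    obtain ⟨hw, hq⟩ := hwc (-α)
    have hq0 : Q (wc (-α)) ≠ 0 := by rw [hq]; exact neg_ne_zero.2 hα
    have P : Pair Q (fr.b 0) (fr.a 0) := ⟨fr.quad_b h0, fr.quad_a h0, fr.ba h0⟩
    have hp : Perp Q (fr.b 0) (fr.a 0) (wc (-α)) := ⟨(hW1 _ hw).2, (hW1 _ hw).1⟩
    refine ⟨_, S.mul_mem (S.mul_mem (heb _ (Submodule.smul_mem _ (Q (wc (-α)))⁻¹ hw))
      (hea _ (hW1 _ hw).1)) hg, ?_⟩
    rw [act_mul, hga, one_smul, act_flip H P hp hq0, hq, neg_neg]
  -- transitivity
  have htr : ∀ x : V, Q x = 0 → x ≠ 0 → ∃ g ∈ S, act g (fr.a 0) = x := by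
    have step : ∀ x : V, Q x = 0 → B (fr.a 0) x ≠ 0 → ∃ g ∈ S, act g (fr.a 0) = x := by
      intro x hx hβ
      set β := B (fr.a 0) x
      set z := fr.proj 0 x
      have hz : z ∈ fr.W 1 := fr.proj_mem h0 (fr.mem_W.2 fun i hi => absurd hi (Nat.not_lt_zero i))
      obtain ⟨g, hg, hga⟩ := hB0 β hβ
      have hok : OK Q (fr.a 0) (β⁻¹ • z) :=
        ⟨fr.quad_a h0, by rw [QuadraticMap.polar_smul_right, (hW1 z hz).1, smul_zero]⟩
      refine ⟨_, S.mul_mem (hea _ hok.2) hg, ?_⟩
      have hd := fr.decomp 0 x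
      have hq : Q z = -(B (fr.b 0) x * β) := by
        have := hx
        rw [hd] at this
        simp only [quad_add, QuadraticMap.map_smul, fr.quad_a h0, fr.quad_b h0, QuadraticMap.polar_add_left,
          QuadraticMap.polar_smul_left, QuadraticMap.polar_smul_right, fr.ab h0, smul_eq_mul,
          show B (fr.a 0) (fr.proj 0 x) = 0 from (hW1 z hz).1,
          show B (fr.b 0) (fr.proj 0 x) = 0 from (hW1 z hz).2] at this
        linear_combination this
      rw [act_mul, hga, act_smul, act_elt H hok]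
      conv_rhs => rw [hd]
      rw [fr.ab h0, QuadraticMap.polar_smul_left, QuadraticMap.polar_comm _ z, (hW1 z hz).2,
        QuadraticMap.map_smul, hq]
      simp only [smul_eq_mul]
      match_scalars <;> field_simp <;> ring
    intro x hx hx0
    by_cases hβ : B (fr.a 0) x = 0
    swap
    · exact step x hx hβ
    set z := fr.proj 0 x
    have hz : z ∈ fr.W 1 := fr.proj_mem h0 (fr.mem_W.2 fun i hi => absurd hi (Nat.not_lt_zero i))
    have hd := fr.decomp 0 x
    rw [hβ, zero_smul, add_zero] at hd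
    by_cases hz0 : z = 0
    · rw [show fr.proj 0 x = 0 from hz0, add_zero] at hd
      have hα : B (fr.b 0) x ≠ 0 := fun e => hx0 (by rw [hd, e, zero_smul])
      obtain ⟨g, hg, hga⟩ := hA0 _ hα
      exact ⟨g, hg, hga.trans hd.symm⟩
    obtain ⟨w₁, hw₁, hw₁z⟩ : ∃ w ∈ fr.W 1, B w z ≠ 0 := by
      by_contra hcon
      push Not at hcon
      exact hz0 (fr.nondeg H (by omega) hz fun w hw => by rw [QuadraticMap.polar_comm]; exact hcon w hw)
    obtain ⟨t, ht, htne⟩ : ∃ t : F, t ≠ 0 ∧ B w₁ z + t * Q w₁ * B (fr.b 0) x ≠ 0 := by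
      obtain ⟨s, hs0, hs1⟩ : ∃ s : F, s ≠ 0 ∧ s ≠ 1 := by
        by_contra hcon
        push Not at hcon
        have hsub : (Finset.univ : Finset F) ⊆ ({0, 1} : Finset F) := fun y _ => by
          rcases eq_or_ne y 0 with h | h
          · simp [h]
          · simp [hcon y h]
        have := (Finset.card_le_card hsub).trans Finset.card_le_two
        rw [Finset.card_univ] at this
        omega
      by_cases e : B w₁ z + 1 * Q w₁ * B (fr.b 0) x = 0
      · refine ⟨s, hs0, fun e' => ?_⟩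
        have h3 : (s - 1) * (Q w₁ * B (fr.b 0) x) = 0 := by linear_combination e' - e
        have h4 := (mul_eq_zero.1 h3).resolve_left (sub_ne_zero.2 hs1)
        exact hw₁z (by linear_combination e - h4)
      · exact ⟨1, one_ne_zero, e⟩
    have hok : OK Q (fr.b 0) (t • w₁) :=
      ⟨fr.quad_b h0, by rw [QuadraticMap.polar_smul_right, (hW1 _ hw₁).2, smul_zero]⟩
    set k : Om := elt (fr.b 0) (t • w₁)
    have hk : k ∈ S := heb _ (Submodule.smul_mem _ _ hw₁)
    have hwx : B w₁ x = B w₁ z := by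
      conv_lhs => rw [hd]
      rw [QuadraticMap.polar_add_right, QuadraticMap.polar_smul_right,
        QuadraticMap.polar_comm _ w₁ (fr.a 0), (hW1 _ hw₁).1, smul_zero, zero_add]
    have hβ' : B (fr.a 0) (act k x) ≠ 0 := by
      rw [act_elt H hok, QuadraticMap.polar_sub_right, QuadraticMap.polar_sub_right,
        QuadraticMap.polar_add_right, hβ, QuadraticMap.polar_smul_right, QuadraticMap.polar_smul_right,
        QuadraticMap.polar_smul_right, QuadraticMap.polar_smul_right, (hW1 _ hw₁).1, fr.ab h0,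
        QuadraticMap.polar_smul_left, hwx, QuadraticMap.map_smul]
      simp only [smul_eq_mul, mul_zero, mul_one, add_zero, zero_sub]
      intro e
      have e2 : t * (B w₁ z + t * Q w₁ * B (fr.b 0) x) = 0 := by linear_combination -e
      exact htne ((mul_eq_zero.1 e2).resolve_left ht)
    obtain ⟨g, hg, hga⟩ := step _ (by rw [act_quad, hx]) hβ'
    exact ⟨_, S.mul_mem (S.inv_mem hk) hg, by rw [act_mul, hga, act_inv_cancel]⟩
  -- all root elements
  have hroot : ∀ a b : V, TS Q a b → (elt a b : Om) ∈ S := by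
    intro a b hab
    obtain ⟨g, hg, hga⟩ := htr a hab.1 hab.left_ne
    have hb' : B (fr.a 0) (act g⁻¹ b) = 0 := by
      rw [show fr.a 0 = act g⁻¹ a by rw [← hga, act_inv_cancel], act_polar, hab.2.2.1]
    have e := elt_conj H g (e := fr.a 0) (w := act g⁻¹ b) ⟨fr.quad_a h0, hb'⟩
    rw [hga, act_inv_cancel'] at e
    rw [← e]
    have h2 := hea (act g⁻¹ b) hb'
    revert h2
    generalize (elt (fr.a 0) (act g⁻¹ b) : Om) = k
    intro h2
    exact S.mul_mem (S.mul_mem hg h2) (S.inv_mem hg)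
  have key : ∀ s : isometryGroup F ⇑Q, s ∈ sR Q → ∀ hs : s ∈ Omega F ⇑Q, (⟨s, hs⟩ : Om) ∈ S := by
    intro s hs
    induction hs using Subgroup.closure_induction with
    | one => intro _; exact S.one_mem
    | mem x hx =>
      intro hxm
      obtain ⟨a, b, hab, hval⟩ := hx
      rw [show (⟨x, hxm⟩ : Om) = elt a b from omVal_ext (by rw [elt_val H hab.ok]; exact hval)]
      exact hroot a b hab
    | mul x y hx hy ihx ihy =>
      intro _
      exact S.mul_mem (ihx (sR_le_omega H.nd H.tri hx)) (ihy (sR_le_omega H.nd H.tri hy))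
    | inv x hx ih =>
      intro _
      exact S.inv_mem (ih (sR_le_omega H.nd H.tri hx))
  exact key g (OrthGen.omega_le_sR H.nd H.tri g.2) g.2

/-- Rotations carry the last lower radical to the first one. -/
theorem lower_fixed (H : Hyp Q) {v : E} {z₀ : V} (hz₀ : z₀ ∈ fr.W m) (hz₀q : Q z₀ ≠ 0)
    (ha : ∀ i, i < m → ∀ w ∈ fr.W (i + 1), op ρ (fr.a i) w v = v)
    (hs : ∀ i, i + 1 < m → ρ (sw fr i) v = v) (hb : ∀ z ∈ fr.W m, op ρ (fr.b (m - 1)) z v = v) :
    ∀ d i, i + d + 1 = m → ∀ w ∈ fr.W (i + 1), op ρ (fr.b i) w v = v := by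
  have hconj : ∀ {g : Om} {e w : V}, OK Q e w → ρ g v = v → op ρ e w v = v →
      op ρ (act g e) (act g w) v = v := fun {g e w} hok hg h => by
    have h2 := op_conj ρ H g hok v
    rwa [h, hg] at h2
  intro d
  induction d with
  | zero =>
    intro i hi w hw
    obtain rfl : i = m - 1 := by omega
    exact hb w (by rwa [show m - 1 + 1 = m by omega] at hw)
  | succ d ih =>
    intro i hi w hw
    have hi1 : i + 1 < m := by omega
    have hi0 : i < m := by omega
    have o := fr.orth (i + 1) i hi1 hi0 (by omega)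
    have o' := fr.orth i (i + 1) hi0 hi1 (by omega)
    have hok : ∀ x ∈ fr.W (i + 1), OK Q (fr.b i) x := fun x hx =>
      ⟨fr.quad_b hi0, fr.polar_b (Nat.lt_succ_self i) hx⟩
    have hA : ∀ r : F, op ρ (fr.b i) (r • fr.a (i + 1)) v = v := by
      intro r
      have h1 := hconj (g := sw fr i) (ok_up fr H hi1 r) (hs i hi1)
        (ha i hi0 _ (Submodule.smul_mem _ _ (fr.b_mem hi1 le_rfl)))
      rw [sw_a fr H hi1, act_smul, sw_b' fr H hi1, smul_neg] at h1
      rw [op, elt_swap H (fr.quad_b hi0) (by rw [QuadraticMap.map_smul, fr.quad_a hi1, smul_zero])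
          (by rw [QuadraticMap.polar_smul_right, o'.1.2, smul_zero]),
        elt_smul_left H ⟨fr.quad_a hi1, by rw [QuadraticMap.polar_neg_right, o.2.1, neg_zero]⟩, smul_neg]
      exact h1
    have hBf : ∀ s : F, op ρ (fr.b i) (s • fr.b (i + 1)) v = v := by
      intro s
      have hn : ρ (flip3 fr (i + 1) z₀) v = v := by
        rw [flip3, rho_mul, rho_mul]
        have e1 : ρ (elt (fr.a (i + 1)) ((Q z₀)⁻¹ • z₀)) v = v :=
          ha (i + 1) hi1 _ (Submodule.smul_mem _ _ (fr.W_mono (by omega) hz₀))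
        have e2 : ρ (elt (fr.b (i + 1)) z₀) v = v := ih (i + 1) (by omega) _ (fr.W_mono (by omega) hz₀)
        rw [e1, e2, e1]
      have h1 := hconj (hok _ (Submodule.smul_mem _ (-(s / Q z₀)) (fr.a_mem hi1 le_rfl))) hn (hA (-(s / Q z₀)))
      rwa [(flip3_fixes fr H hi1 hz₀ hz₀q hi0 (by omega)).2, act_smul, (flip3_a fr H hi1 hz₀ hz₀q).1,
        smul_smul, show -(s / Q z₀) * -Q z₀ = s by field_simp] at h1
    have hp := fr.proj_mem hi1 hw
    have hC : op ρ (fr.b i) (fr.proj (i + 1) w) v = v := by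
      have hok' : OK Q (fr.b (i + 1)) (-fr.proj (i + 1) w) :=
        ⟨fr.quad_b hi1, by rw [QuadraticMap.polar_neg_right, fr.polar_b (Nat.lt_succ_self _) hp, neg_zero]⟩
      have h1 := hconj (g := sw fr i) hok' (hs i hi1) (ih (i + 1) (by omega) _ (neg_mem hp))
      rw [sw_b' fr H hi1, sw_fix fr H hi1 (neg_mem hp), ← neg_one_smul F (fr.b i),
        op_smul_left ρ H (hok _ (fr.W_mono (by omega) (neg_mem hp))), neg_one_smul, neg_neg] at h1
      exact h1
    have hr := Submodule.smul_mem (fr.W (i + 1)) (B (fr.b (i + 1)) w) (fr.a_mem hi1 le_rfl)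
    have hs' := Submodule.smul_mem (fr.W (i + 1)) (B (fr.a (i + 1)) w) (fr.b_mem hi1 le_rfl)
    rw [fr.decomp (i + 1) w, op_add ρ H (hok _ (add_mem hr hs')) (hok _ (fr.W_mono (by omega) hp)),
      Module.End.mul_apply, hC, op_add ρ H (hok _ hr) (hok _ hs'), Module.End.mul_apply, hBf, hA]

/-- An irreducible non-trivial representation has no fixed vector. -/
theorem eq_zero_of_fixed [ρ.IsIrreducible] {g₀ : Om} (hg₀ : ρ g₀ ≠ 1) {v : E} (hv : ∀ g : Om, ρ g v = v) :
    v = 0 := by
  let W : Subrepresentation ρ :=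
    { toSubmodule :=
        { carrier := {u | ∀ g : Om, ρ g u = u}
          add_mem' := fun hx hy g => by rw [map_add, hx g, hy g]
          zero_mem' := fun g => map_zero _
          smul_mem' := fun c u hu g => by rw [map_smul, hu g] }
      apply_mem_toSubmodule := fun g u hu => by
        intro h
        rw [hu g, hu h] }
  haveI : IsSimpleOrder (Subrepresentation ρ) := ‹ρ.IsIrreducible›
  rcases eq_bot_or_eq_top W with hW | hW
  · have h : v ∈ W.toSubmodule := hv
    rw [hW] at h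
    exact h
  · refine absurd (LinearMap.ext fun u => ?_) hg₀
    have h : u ∈ W.toSubmodule := by rw [hW]; trivial
    exact h g₀

end Cfsg.Agent.Lie.OrthDeg
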