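import Cfsg.Agent.Lib.Lie.OrthDeg.Basic
import Cfsg.Agent.Lib.Classical.SLGroup

/-! The special linear group acting on the two halves of a frame. -/

set_option autoImplicit false
set_option linter.unusedSectionVars false
set_option quotPrecheck false

noncomputable section

namespace Cfsg.Agent.Lie.OrthDeg

open Matrix Module Cfsg.Agent.Classical Cfsg.Agent.Classical.OrthAut

universe u

variable {F : Type u} [Field F] [Fintype F] {ι : Type} [Fintype ι] [DecidableEq ι]
  {Q : QuadraticForm F (ι → F)} {m : ℕ} (fr : Frame Q m)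

local notation "V" => (ι → F)
local notation "B" => QuadraticMap.polar ⇑Q
local notation "Om" => Omega F ⇑Q
local notation "SLm" => Matrix.SpecialLinearGroup (Fin m) F

/-- Coordinates along the first half. -/
def Frame.coA : V →ₗ[F] (Fin m → F) :=
  LinearMap.pi fun i => QuadraticMap.polarBilin Q (fr.b i)

/-- Coordinates along the second half. -/
def Frame.coB : V →ₗ[F] (Fin m → F) :=
  LinearMap.pi fun i => QuadraticMap.polarBilin Q (fr.a i)

/-- The vector with given coordinates. -/
def Frame.comb : (Fin m → F) × (Fin m → F) →ₗ[F] V :=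
  (Fintype.linearCombination F fun i : Fin m => fr.a i).coprod
    (Fintype.linearCombination F fun i : Fin m => fr.b i)

theorem Frame.coA_apply (x : V) (i : Fin m) : fr.coA x i = B (fr.b i) x := rfl
theorem Frame.coB_apply (x : V) (i : Fin m) : fr.coB x i = B (fr.a i) x := rfl

theorem Frame.comb_apply (u v : Fin m → F) :
    fr.comb (u, v) = ∑ i : Fin m, u i • fr.a i + ∑ i : Fin m, v i • fr.b i := rfl

theorem Frame.polar_sum (x : V) {κ : Type} [Fintype κ] (c : κ → F) (z : κ → V) :
    B x (∑ i, c i • z i) = ∑ i, c i * B x (z i) := by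
  rw [← QuadraticMap.polarBilin_apply_apply, map_sum]
  simp [smul_eq_mul]

theorem Frame.coA_comb (u v : Fin m → F) : fr.coA (fr.comb (u, v)) = u := by
  funext i
  rw [fr.coA_apply, fr.comb_apply, QuadraticMap.polar_add_right, Frame.polar_sum, Frame.polar_sum,
    Finset.sum_eq_single i (fun k _ hk => by
      rw [(fr.orth i k i.2 k.2 (fun e => hk (Fin.ext e.symm))).1.2, mul_zero])
      (fun h => absurd (Finset.mem_univ i) h),
    fr.ba i.2, mul_one, Finset.sum_eq_zero (fun k _ => by rw [fr.bb i.2 k.2, mul_zero]), add_zero]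

theorem Frame.coB_comb (u v : Fin m → F) : fr.coB (fr.comb (u, v)) = v := by
  funext i
  rw [fr.coB_apply, fr.comb_apply, QuadraticMap.polar_add_right, Frame.polar_sum, Frame.polar_sum,
    Finset.sum_eq_zero (fun k _ => by rw [fr.aa i.2 k.2, mul_zero]), zero_add,
    Finset.sum_eq_single i (fun k _ hk => by
      rw [(fr.orth i k i.2 k.2 (fun e => hk (Fin.ext e.symm))).2.1, mul_zero])
      (fun h => absurd (Finset.mem_univ i) h),
    fr.ab i.2, mul_one]

/-- The component in the last perpendicular. -/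
def Frame.base : V →ₗ[F] V := LinearMap.id - fr.comb.comp (fr.coA.prod fr.coB)

theorem Frame.base_apply (x : V) : fr.base x = x - fr.comb (fr.coA x, fr.coB x) := rfl

theorem Frame.coA_base (x : V) : fr.coA (fr.base x) = 0 := by
  rw [fr.base_apply, map_sub, fr.coA_comb, sub_self]

theorem Frame.coB_base (x : V) : fr.coB (fr.base x) = 0 := by
  rw [fr.base_apply, map_sub, fr.coB_comb, sub_self]

theorem Frame.base_base (x : V) : fr.base (fr.base x) = fr.base x := by
  rw [fr.base_apply (fr.base x), fr.coA_base, fr.coB_base,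
    show ((0 : Fin m → F), (0 : Fin m → F)) = 0 from rfl, map_zero, sub_zero]

theorem Frame.base_comb (u v : Fin m → F) : fr.base (fr.comb (u, v)) = 0 := by
  rw [fr.base_apply, fr.coA_comb, fr.coB_comb, sub_self]

theorem quad_sum_zero {κ : Type} (s : Finset κ) (c : κ → F) (z : κ → V) (hq : ∀ i ∈ s, Q (z i) = 0)
    (hB : ∀ i ∈ s, ∀ k ∈ s, B (z i) (z k) = 0) : Q (∑ i ∈ s, c i • z i) = 0 := by
  classical
  induction s using Finset.induction with
  | empty => simp
  | insert a s ha ih =>
    rw [Finset.sum_insert ha, quad_add, ih (fun i hi => hq i (Finset.mem_insert_of_mem hi))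
      (fun i hi k hk => hB i (Finset.mem_insert_of_mem hi) k (Finset.mem_insert_of_mem hk)),
      QuadraticMap.map_smul, hq a (Finset.mem_insert_self a s), smul_zero, zero_add, zero_add,
      ← QuadraticMap.polarBilin_apply_apply, map_sum]
    refine Finset.sum_eq_zero fun k hk => ?_
    simp [hB a (Finset.mem_insert_self a s) k (Finset.mem_insert_of_mem hk)]

theorem Frame.quad_comb (u v : Fin m → F) : Q (fr.comb (u, v)) = u ⬝ᵥ v := by
  rw [fr.comb_apply, quad_add,
    quad_sum_zero _ u _ (fun i _ => fr.quad_a i.2) (fun i _ k _ => fr.aa i.2 k.2),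
    quad_sum_zero _ v _ (fun i _ => fr.quad_b i.2) (fun i _ k _ => fr.bb i.2 k.2), zero_add, zero_add,
    Frame.polar_sum, dotProduct]
  refine Finset.sum_congr rfl fun i _ => ?_
  rw [QuadraticMap.polar_comm, ← fr.coA_apply,
    show ∑ k : Fin m, u k • fr.a k = fr.comb (u, 0) by simp [fr.comb_apply], fr.coA_comb, mul_comm]

theorem Frame.polar_comb_base (u v : Fin m → F) {z : V} (hA : fr.coA z = 0) (hB : fr.coB z = 0) :
    B (fr.comb (u, v)) z = 0 := by
  rw [fr.comb_apply, QuadraticMap.polar_comm, QuadraticMap.polar_add_right, Frame.polar_sum,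
    Frame.polar_sum]
  have e1 : ∀ i : Fin m, B z (fr.a i) = 0 := fun i => by
    rw [QuadraticMap.polar_comm]; exact congrFun hB i
  have e2 : ∀ i : Fin m, B z (fr.b i) = 0 := fun i => by
    rw [QuadraticMap.polar_comm]; exact congrFun hA i
  simp [e1, e2]

theorem Frame.quad_split_all (x : V) : Q x = fr.coA x ⬝ᵥ fr.coB x + Q (fr.base x) := by
  have e : x = fr.comb (fr.coA x, fr.coB x) + fr.base x := by rw [fr.base_apply]; abel
  conv_lhs => rw [e, quad_add, fr.quad_comb, fr.polar_comb_base _ _ (fr.coA_base x) (fr.coB_base x),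
    add_zero]

/-- The linear map attached to a matrix. -/
def Frame.leviLin (M : SLm) : V →ₗ[F] V :=
  fr.comb.comp ((((M : Matrix (Fin m) (Fin m) F).mulVecLin).comp fr.coA).prod
    (((((M⁻¹ : SLm) : Matrix (Fin m) (Fin m) F)ᵀ).mulVecLin).comp fr.coB)) + fr.base

theorem Frame.leviLin_apply (M : SLm) (x : V) :
    fr.leviLin M x = fr.comb ((M : Matrix (Fin m) (Fin m) F) *ᵥ fr.coA x,
      ((M⁻¹ : SLm) : Matrix (Fin m) (Fin m) F)ᵀ *ᵥ fr.coB x) + fr.base x := rfl

theorem Frame.leviLin_mul (M N : SLm) : fr.leviLin (M * N) = fr.leviLin M * fr.leviLin N := by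
  refine LinearMap.ext fun x => ?_
  rw [Module.End.mul_apply, fr.leviLin_apply, fr.leviLin_apply M, fr.leviLin_apply N, map_add, map_add,
    map_add, fr.coA_comb, fr.coB_comb, fr.coA_base, fr.coB_base, fr.base_comb, fr.base_base,
    add_zero, add_zero, zero_add, Matrix.mulVec_mulVec, Matrix.mulVec_mulVec, _root_.mul_inv_rev,
    Matrix.SpecialLinearGroup.coe_mul, Matrix.SpecialLinearGroup.coe_mul, Matrix.transpose_mul]

theorem Frame.leviLin_one : fr.leviLin 1 = 1 := by
  refine LinearMap.ext fun x => ?_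
  rw [fr.leviLin_apply, inv_one]
  simp [fr.base_apply]

/-- The matrices of the maps. -/
def Frame.leviMat : SLm →* Matrix ι ι F where
  toFun M := LinearMap.toMatrix' (fr.leviLin M)
  map_one' := by rw [fr.leviLin_one, Module.End.one_eq_id, LinearMap.toMatrix'_id]
  map_mul' M N := by rw [fr.leviLin_mul, LinearMap.toMatrix'_mul]

theorem Frame.leviMat_mulVec (M : SLm) (x : V) : fr.leviMat M *ᵥ x = fr.leviLin M x := by
  show LinearMap.toMatrix' (fr.leviLin M) *ᵥ x = _
  rw [LinearMap.toMatrix'_mulVec]

/-- The isometries attached to matrices. -/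
def Frame.leviIso : SLm →* isometryGroup F ⇑Q :=
  fr.leviMat.toHomUnits.codRestrict _ fun M u v => by
    show Q (fr.leviMat M *ᵥ u) = Q u
    rw [fr.leviMat_mulVec, fr.quad_split_all, fr.quad_split_all u, fr.leviLin_apply, map_add, map_add,
      map_add, fr.coA_comb, fr.coB_comb, fr.coA_base, fr.coB_base, fr.base_comb, fr.base_base, add_zero,
      add_zero, zero_add]
    congr 1
    rw [Matrix.dotProduct_mulVec, Matrix.vecMul_transpose, Matrix.mulVec_mulVec,
      ← Matrix.SpecialLinearGroup.coe_mul, inv_mul_cancel, Matrix.SpecialLinearGroup.coe_one,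
      Matrix.one_mulVec]

theorem Frame.leviIso_mem (hm : 3 ≤ m) (M : SLm) : fr.leviIso M ∈ Omega F ⇑Q := by
  have hM : M ∈ commutator SLm := by
    rw [Cfsg.Agent.Classical.SL_commutator_eq_top_of_three_le (by simpa using hm)]
    exact Subgroup.mem_top M
  have : fr.leviIso M ∈ (commutator SLm).map fr.leviIso := ⟨M, hM, rfl⟩
  rw [commutator_def, Subgroup.map_commutator] at this
  exact Subgroup.commutator_mono le_top le_top this

/-- The elements of `Ω` attached to matrices. -/
def Frame.levi (hm : 3 ≤ m) : SLm →* Om := fr.leviIso.codRestrict _ (fr.leviIso_mem hm)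

theorem Frame.act_levi (hm : 3 ≤ m) (M : SLm) (x : V) : act (fr.levi hm M) x = fr.leviLin M x :=
  fr.leviMat_mulVec M x

end Cfsg.Agent.Lie.OrthDeg
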