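import Cfsg.Agent.Lib.Lie.OrthDeg.Levels
import Cfsg.Agent.Lib.Lie.OrthDeg.Levi
import Cfsg.Agent.Lib.Lie.RepDegSLMain

/-! The fixed space of the radical of the stabiliser of half a frame. -/

set_option autoImplicit false
set_option linter.unusedSectionVars false
set_option quotPrecheck false

noncomputable section

namespace Cfsg.Agent.Lie.OrthDeg

open Matrix Module Cfsg.Agent.Classical Cfsg.Agent.Classical.OrthAut

universe u v

variable {F : Type u} [Field F] [Fintype F] {ι : Type} [Fintype ι] [DecidableEq ι]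
  {Q : QuadraticForm F (ι → F)} {m : ℕ}
variable {E : Type v} [AddCommGroup E] [Module ℂ E] [FiniteDimensional ℂ E]

local notation "V" => (ι → F)
local notation "B" => QuadraticMap.polar ⇑Q
local notation "Om" => Omega F ⇑Q
local notation "SLm" => Matrix.SpecialLinearGroup (Fin m) F

variable (ρ : Representation ℂ (Omega F ⇑Q) E) (ψ : AddChar F ℂ) (fr : Frame Q m)

/-- The fixed space of the root elements inside the perpendicular of the first halves. -/
def Fx : Submodule ℂ E where
  carrier := {u | ∀ c : Fin m → F, ∀ w, fr.coB w = 0 → op ρ (fr.comb (c, 0)) w u = u}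
  add_mem' := fun hu hv c w hw => by rw [map_add, hu c w hw, hv c w hw]
  zero_mem' := fun c w hw => map_zero _
  smul_mem' := fun r u hu c w hw => by rw [map_smul, hu c w hw]

theorem ok_half {c : Fin m → F} {w : V} (hw : fr.coB w = 0) : OK Q (fr.comb (c, 0)) w := by
  refine ⟨by rw [fr.quad_comb, dotProduct_zero], ?_⟩
  rw [QuadraticMap.polar_comm, fr.comb_apply]
  simp only [Pi.zero_apply, zero_smul, Finset.sum_const_zero, add_zero, Frame.polar_sum]
  refine Finset.sum_eq_zero fun i _ => ?_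
  rw [QuadraticMap.polar_comm, show B (fr.a i) w = 0 from congrFun hw i, mul_zero]

theorem half_decomp {w : V} (hw : fr.coB w = 0) :
    w = ∑ k : Fin m, fr.coA w k • fr.a k + fr.base w := by
  rw [fr.base_apply, hw, fr.comb_apply]
  simp

theorem base_mem (w : V) : fr.base w ∈ fr.W m :=
  fr.mem_W.2 fun i hi =>
    ⟨congrFun (fr.coB_base w) ⟨i, hi⟩, congrFun (fr.coA_base w) ⟨i, hi⟩⟩

theorem coB_of_mem {w : V} (hw : w ∈ fr.W m) : fr.coB w = 0 :=
  funext fun i => fr.polar_a i.2 hw

theorem coB_a {k : ℕ} (hk : k < m) : fr.coB (fr.a k) = 0 := funext fun i => fr.aa i.2 hk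

theorem coB_half (c : Fin m → F) : fr.coB (fr.comb (c, 0)) = 0 := fr.coB_comb c 0

/-- It suffices to look at pairs of frame vectors and the kernel. -/
theorem mem_Fx (H : Hyp Q) {u : E}
    (h1 : ∀ i k, i < k → k < m → ∀ r : F, op ρ (fr.a i) (r • fr.a k) u = u)
    (h2 : ∀ i, i < m → ∀ z ∈ fr.W m, op ρ (fr.a i) z u = u) : u ∈ Fx ρ fr := by
  classical
  have hall : ∀ i k, i < m → k < m → ∀ r : F, op ρ (fr.a i) (r • fr.a k) u = u := by
    intro i k hi hk r
    rcases lt_trichotomy i k with h | rfl | h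
    · exact h1 i k h hk r
    · rw [op, elt_self H (fr.quad_a hi), map_one, Module.End.one_apply]
    · have h0 : B (fr.a k) (fr.a i) = 0 := fr.aa hk hi
      rw [op, elt_swap H (fr.quad_a hi) (by rw [QuadraticMap.map_smul, fr.quad_a hk, smul_zero])
          (by rw [QuadraticMap.polar_smul_right, fr.aa hi hk, smul_zero]),
        elt_smul_left H ⟨fr.quad_a hk, by rw [QuadraticMap.polar_neg_right, h0, neg_zero]⟩,
        smul_neg, ← neg_smul]
      exact h1 k i h hi (-r)
  have hgen : ∀ i, i < m → ∀ w, fr.coB w = 0 → op ρ (fr.a i) w u = u := by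
    intro i hi w hw
    have hokA : ∀ x : V, fr.coB x = 0 → OK Q (fr.a i) x := fun x hx =>
      ⟨fr.quad_a hi, congrFun hx ⟨i, hi⟩⟩
    have hsum : ∀ s : Finset (Fin m), fr.coB (∑ k ∈ s, fr.coA w k • fr.a k) = 0 ∧
        op ρ (fr.a i) (∑ k ∈ s, fr.coA w k • fr.a k) u = u := by
      intro s
      induction s using Finset.induction with
      | empty => simp [op_zero ρ H (fr.quad_a hi)]
      | insert a s ha ih =>
        have e : fr.coB (fr.coA w a • fr.a a) = 0 := by rw [map_smul, coB_a fr a.2, smul_zero]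
        rw [Finset.sum_insert ha]
        refine ⟨by rw [map_add, e, ih.1, add_zero], ?_⟩
        rw [op_add ρ H (hokA _ e) (hokA _ ih.1), Module.End.mul_apply, ih.2, hall i a hi a.2]
    rw [half_decomp fr hw, op_add ρ H (hokA _ (hsum _).1) (hokA _ (fr.coB_base w)), Module.End.mul_apply,
      h2 i hi _ (base_mem fr w), (hsum _).2]
  intro c
  suffices hs : ∀ s : Finset (Fin m), ∀ w, fr.coB w = 0 →
      op ρ (∑ k ∈ s, c k • fr.a k) w u = u by
    intro w hw
    rw [fr.comb_apply]
    simpa using hs Finset.univ w hw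
  intro s
  induction s using Finset.induction with
  | empty =>
    intro w hw
    have h0 : OK Q (0 : V) w := ⟨QuadraticMap.map_zero _, QuadraticMap.polar_zero_left _ _⟩
    have : (elt (0 : V) w : Om) = 1 := act_ext fun z => by
      rw [act_elt H h0, act_one]; simp
    rw [Finset.sum_empty, op, this, map_one, Module.End.one_apply]
  | insert a s ha ih =>
    intro w hw
    rw [Finset.sum_insert ha]
    have hx : ∀ v, fr.coB v = 0 → OK Q (fr.a a) v := fun v hv => ⟨fr.quad_a a.2, congrFun hv a⟩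
    have hsum : ∑ k ∈ s, c k • fr.a k = fr.comb ((fun k => if k ∈ s then c k else 0), 0) := by
      simp [fr.comb_apply, ite_smul, Finset.sum_ite_mem]
    have hx' : OK Q (∑ k ∈ s, c k • fr.a k) w := by rw [hsum]; exact ok_half fr hw
    have hxc : fr.coB (∑ k ∈ s, c k • fr.a k) = 0 := by rw [hsum]; exact coB_half fr _
    have hxx : B (c a • fr.a a) (∑ k ∈ s, c k • fr.a k) = 0 := by
      rw [QuadraticMap.polar_smul_left, (hx _ hxc).2, smul_zero]
    have hw2 : fr.coB ((-Q w) • ∑ k ∈ s, c k • fr.a k) = 0 := by rw [map_smul, hxc, smul_zero]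
    rw [op, elt_add_left H (OK.smul_left' (hx w hw) _) hx' hxx, map_mul, map_mul, Module.End.mul_apply,
      Module.End.mul_apply]
    have e1 : ∀ v, fr.coB v = 0 → ρ (elt (c a • fr.a a) v) u = u := fun v hv => by
      show op ρ (c a • fr.a a) v u = u
      rw [op_smul_left ρ H (hx v hv)]
      exact hgen a a.2 _ (by rw [map_smul, hv, smul_zero])
    rw [e1 _ hw2, show ρ (elt (∑ k ∈ s, c k • fr.a k) w) u = u from ih w hw, e1 w hw]

theorem act_levi_half (hm : 3 ≤ m) (M : SLm) (c : Fin m → F) :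
    act (fr.levi hm M) (fr.comb (c, 0)) = fr.comb ((M : Matrix (Fin m) (Fin m) F) *ᵥ c, 0) := by
  rw [fr.act_levi, fr.leviLin_apply, fr.coA_comb, fr.coB_comb, fr.base_comb, mulVec_zero, add_zero]

theorem coB_levi (hm : 3 ≤ m) (M : SLm) {w : V} (hw : fr.coB w = 0) :
    fr.coB (act (fr.levi hm M) w) = 0 := by
  rw [fr.act_levi, fr.leviLin_apply, map_add, fr.coB_comb, fr.coB_base, add_zero, hw, mulVec_zero]

theorem levi_map_Fx (H : Hyp Q) (hm : 3 ≤ m) (M : SLm) {u : E} (hu : u ∈ Fx ρ fr) :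
    ρ (fr.levi hm M) u ∈ Fx ρ fr := by
  intro c w hw
  obtain ⟨c', hc'⟩ : ∃ c', act (fr.levi hm M) (fr.comb (c', 0)) = fr.comb (c, 0) :=
    ⟨((M⁻¹ : SLm) : Matrix (Fin m) (Fin m) F) *ᵥ c, by
      rw [act_levi_half, Matrix.mulVec_mulVec, ← Matrix.SpecialLinearGroup.coe_mul, mul_inv_cancel,
        Matrix.SpecialLinearGroup.coe_one, Matrix.one_mulVec]⟩
  have hw' : fr.coB (act (fr.levi hm M)⁻¹ w) = 0 := by
    rw [← map_inv]; exact coB_levi fr hm _ hw
  have h := op_conj ρ H (fr.levi hm M) (ok_half fr (c := c') hw') u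
  rwa [hu c' _ hw', hc', act_inv_cancel'] at h

/-- The special linear group on the fixed space. -/
def halfRep (H : Hyp Q) (hm : 3 ≤ m) : Representation ℂ SLm (Fx ρ fr) where
  toFun M := (ρ (fr.levi hm M)).restrict fun _ hu => levi_map_Fx ρ fr H hm M hu
  map_one' := LinearMap.ext fun u => Subtype.ext (by
    rw [Module.End.one_apply, LinearMap.coe_restrict_apply, map_one, map_one, Module.End.one_apply])
  map_mul' M N := LinearMap.ext fun u => Subtype.ext (by
    rw [Module.End.mul_apply, LinearMap.coe_restrict_apply, LinearMap.coe_restrict_apply,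
      LinearMap.coe_restrict_apply, map_mul, map_mul, Module.End.mul_apply])

theorem levi_transvection (H : Hyp Q) (hm : 3 ≤ m) {i k : Fin m} (hik : i ≠ k) (t : F) :
    fr.levi hm ⟨Matrix.transvection i k (-t), Matrix.det_transvection_of_ne i k hik _⟩ =
      elt (fr.a i) (t • fr.b k) := by
  classical
  have hne : (i : ℕ) ≠ k := fun e => hik (Fin.ext e)
  have hok : OK Q (fr.a i) (t • fr.b k) :=
    ⟨fr.quad_a i.2, by rw [QuadraticMap.polar_smul_right, (fr.orth i k i.2 k.2 hne).2.1, smul_zero]⟩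
  refine act_ext fun x => ?_
  let M₁ : SLm := ⟨Matrix.transvection i k (-t), Matrix.det_transvection_of_ne i k hik _⟩
  let M₂ : SLm := ⟨Matrix.transvection i k t, Matrix.det_transvection_of_ne i k hik _⟩
  show act (fr.levi hm M₁) x = _
  have hinv : M₁⁻¹ = M₂ := by
    refine inv_eq_of_mul_eq_one_right (Subtype.ext ?_)
    show Matrix.transvection i k (-t) * Matrix.transvection i k t = 1
    simp [Matrix.transvection_mul_transvection_same, hik]
  rw [fr.act_levi, fr.leviLin_apply, hinv, act_elt H hok, QuadraticMap.map_smul, fr.quad_b k.2,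
    smul_zero, zero_mul, zero_smul, sub_zero]
  have e1 : (Matrix.transvection i k (-t) : Matrix (Fin m) (Fin m) F) *ᵥ fr.coA x =
      fr.coA x + Pi.single i (-t * B (fr.b k) x) := by
    rw [Matrix.transvection, Matrix.add_mulVec, Matrix.one_mulVec, Matrix.single_mulVec]
    rfl
  have e2 : (Matrix.transvection i k t : Matrix (Fin m) (Fin m) F)ᵀ *ᵥ fr.coB x =
      fr.coB x + Pi.single k (t * B (fr.a i) x) := by
    rw [Matrix.transvection, Matrix.transpose_add, Matrix.transpose_one, Matrix.transpose_single, Matrix.add_mulVec, Matrix.one_mulVec, Matrix.single_mulVec]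
    rfl
  show fr.comb ((Matrix.transvection i k (-t) : Matrix (Fin m) (Fin m) F) *ᵥ fr.coA x,
    (Matrix.transvection i k t : Matrix (Fin m) (Fin m) F)ᵀ *ᵥ fr.coB x) + fr.base x = _
  rw [e1, e2, ← Prod.mk_add_mk, map_add, fr.base_apply]
  have e3 : fr.comb (Pi.single i (-t * B (fr.b k) x), Pi.single k (t * B (fr.a i) x)) =
      (-t * B (fr.b k) x) • fr.a i + (t * B (fr.a i) x) • fr.b k := by
    simp [fr.comb_apply, Pi.single_apply, ite_smul]
  rw [e3, QuadraticMap.polar_smul_left, smul_eq_mul]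
  module

/-- Root elements of the frame vectors preserve the fixed space. -/
theorem op_map_Fx (H : Hyp Q) {j : ℕ} (hjm : j < m) {w : V} (hw : w ∈ fr.W (j + 1)) {v : E}
    (hv : v ∈ Fx ρ fr) : op ρ (fr.a j) w v ∈ Fx ρ fr := by
  intro c x hx
  have hok : OK Q (fr.a j) w := fr.ok hjm hw
  have hinv : (elt (fr.a j) w : Om)⁻¹ = elt (fr.a j) (-w) := by
    refine inv_eq_of_mul_eq_one_right ?_
    rw [← elt_add H hok (fr.ok hjm (neg_mem hw)), add_neg_cancel, elt_zero H (fr.quad_a hjm)]
  have ea : fr.a j = fr.comb (Pi.single (⟨j, hjm⟩ : Fin m) 1, 0) := by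
    simp [fr.comb_apply, Pi.single_apply, ite_smul]
  have e1 : act (elt (fr.a j) w : Om)⁻¹ (fr.comb (c, 0)) =
      fr.comb (c + B w (fr.comb (c, 0)) • Pi.single (⟨j, hjm⟩ : Fin m) 1, 0) := by
    rw [hinv, act_elt H (fr.ok hjm (neg_mem hw)),
      show B (fr.a j) (fr.comb (c, 0)) = 0 from congrFun (coB_half fr c) ⟨j, hjm⟩,
      QuadraticMap.polar_neg_left,
      show (c + B w (fr.comb (c, 0)) • Pi.single (⟨j, hjm⟩ : Fin m) 1, (0 : Fin m → F)) =
        (c, 0) + B w (fr.comb (c, 0)) • (Pi.single (⟨j, hjm⟩ : Fin m) 1, 0) by simp,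
      map_add, map_smul, ← ea]
    module
  have e2 : fr.coB (act (elt (fr.a j) w : Om)⁻¹ x) = 0 := by
    rw [hinv, act_elt H (fr.ok hjm (neg_mem hw)), show B (fr.a j) x = 0 from congrFun hx ⟨j, hjm⟩]
    simp [map_sub, map_smul, hx, coB_a fr hjm]
  have h := op_conj ρ H (elt (fr.a j) w) (ok_half fr (c := c + B w (fr.comb (c, 0)) •
    Pi.single (⟨j, hjm⟩ : Fin m) 1) e2) v
  rwa [hv _ _ e2, ← e1, act_inv_cancel', act_inv_cancel'] at h

variable (hψ : ψ ≠ 1)
include hψ

/-- The Levi bound on the last common fixed space. -/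
theorem last_Fx (H : Hyp Q) {j₀ : ℕ} (hm : j₀ + 3 = m) {c : F} (T : Thin ρ ψ fr c)
    (hok : RepDeg.Ok j₀ (Fintype.card F)) {u : E} (hu : u ∈ Eig ρ ψ fr j₀ (fr.a (j₀ + 2))) (hu0 : u ≠ 0)
    (h1 : ∀ r : F, op ρ (fr.a (j₀ + 1)) (r • fr.a (j₀ + 2)) u = u)
    (h2 : ∀ z ∈ fr.W m, op ρ (fr.a (j₀ + 1)) z u = u ∧ op ρ (fr.a (j₀ + 2)) z u = u) :
    m - 1 ≤ finrank ℂ ↥(Fx ρ fr ⊓ Cs ρ fr (m - 1)) := by
  classical
  subst hm
  have hm3 : 3 ≤ j₀ + 3 := by omega
  have hFx : u ∈ Fx ρ fr := by
    refine mem_Fx ρ fr H (fun i k hik hk r => ?_) (fun i hi z hz => ?_)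
    · rcases lt_trichotomy i j₀ with h | rfl | h
      · exact hu.1 i h _ (Submodule.smul_mem _ r (fr.a_mem hk (by omega)))
      · rw [hu.2 _ (Submodule.smul_mem _ r (fr.a_mem hk (by omega))), QuadraticMap.polar_smul_right,
          fr.aa (by omega) hk, smul_zero, AddChar.map_zero_eq_one, one_smul]
      · obtain rfl : i = j₀ + 1 := by omega
        obtain rfl : k = j₀ + 2 := by omega
        exact h1 r
    · rcases lt_trichotomy i j₀ with h | rfl | h
      · exact hu.1 i h _ (fr.W_mono (by omega) hz)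
      · rw [hu.2 _ (fr.W_mono (by omega) hz), fr.polar_a (by omega) hz, AddChar.map_zero_eq_one, one_smul]
      · obtain rfl | rfl : i = j₀ + 1 ∨ i = j₀ + 2 := by omega
        · exact (h2 z hz).1
        · exact (h2 z hz).2
  obtain ⟨t, ht⟩ : ∃ t : F, ψ t ≠ 1 := by
    by_contra hcon
    push Not at hcon
    exact hψ (DFunLike.ext _ _ fun x => by rw [hcon x]; rfl)
  let i₁ : Fin (j₀ + 3) := ⟨j₀, by omega⟩
  let k₁ : Fin (j₀ + 3) := ⟨j₀ + 2, by omega⟩
  have hik : i₁ ≠ k₁ := fun e => by simp [i₁, k₁, Fin.ext_iff] at e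
  have hnt : halfRep ρ fr H hm3 ⟨Matrix.transvection i₁ k₁ (-t), Matrix.det_transvection_of_ne i₁ k₁ hik _⟩
      ≠ 1 := by
    intro e
    have h := congrArg Subtype.val (LinearMap.congr_fun e ⟨u, hFx⟩)
    change ρ (fr.levi hm3 _) u = u at h
    rw [levi_transvection fr H hm3 hik] at h
    have h' := hu.2 _ (Submodule.smul_mem _ t (fr.b_mem (i := j₀ + 2) (j := j₀ + 1) (by omega) (by omega)))
    rw [QuadraticMap.polar_smul_right, fr.ab (by omega : j₀ + 2 < j₀ + 3), smul_eq_mul, mul_one] at h'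
    rw [show op ρ (fr.a j₀) (t • fr.b (j₀ + 2)) u = u from h] at h'
    have h3 : (ψ t - 1) • u = 0 := by rw [sub_smul, one_smul, ← h', sub_self]
    exact (sub_ne_zero.2 ht) ((smul_eq_zero.1 h3).resolve_right hu0)
  have hlow := RepDeg.low_any (RepDeg.low j₀) hok (halfRep ρ fr H hm3) hnt
  set q := Fintype.card F
  have hstep : ∀ j, j ≤ j₀ + 2 → finrank ℂ (Fx ρ fr) + j ≤
      (∑ i ∈ Finset.range j, q ^ (j₀ + 2 - i)) + finrank ℂ ↥(Fx ρ fr ⊓ Cs ρ fr j) := by
    intro j
    induction j with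
    | zero =>
      intro _
      rw [Cs_zero, inf_top_eq, Finset.sum_range_zero, zero_add, add_zero]
    | succ j ih =>
      intro hj
      have hjm : j < j₀ + 3 := by omega
      have ea : fr.comb (Pi.single (⟨j, hjm⟩ : Fin (j₀ + 3)) 1, 0) = fr.a j := by
        simp [fr.comb_apply, Pi.single_apply, ite_smul]
      let S : Finset (Fin (j₀ + 3) → F) :=
        Finset.univ.filter fun d => (∀ p : Fin (j₀ + 3), (p : ℕ) ≤ j → d p = 0) ∧ d ≠ 0
      have hS : S.card + 1 ≤ q ^ (j₀ + 2 - j) := by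
        have hinj : Set.InjOn (fun (d : Fin (j₀ + 3) → F) (p : Fin (j₀ + 2 - j)) =>
            d ⟨j + 1 + p, by omega⟩) (↑(insert (0 : Fin (j₀ + 3) → F) S) : Set (Fin (j₀ + 3) → F)) := by
          intro d hd d' hd' e
          have hz : ∀ f ∈ insert (0 : Fin (j₀ + 3) → F) S, ∀ p : Fin (j₀ + 3), (p : ℕ) ≤ j → f p = 0 := by
            intro f hf p hp
            rcases Finset.mem_insert.1 hf with rfl | hf
            · rfl
            · exact (Finset.mem_filter.1 hf).2.1 p hp
          funext p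
          rcases Nat.lt_or_ge j (p : ℕ) with h | h
          · have := congrFun e ⟨p - (j + 1), by omega⟩
            simp only at this
            rwa [show (⟨j + 1 + (p - (j + 1)), by omega⟩ : Fin (j₀ + 3)) = p from
              Fin.ext (by simp only; omega)] at this
          · rw [hz d (Finset.mem_coe.1 hd) p h, hz d' (Finset.mem_coe.1 hd') p h]
        have := Finset.card_le_card_of_injOn _ (fun _ _ => Finset.mem_univ _) hinj
        rwa [Finset.card_insert_of_notMem (by simp [S]), Finset.card_univ, Fintype.card_fun,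
          Fintype.card_fin] at this
      have hW : ∀ d ∈ S, fr.comb (d, 0) ∈ fr.W (j + 1) ∧ fr.comb (d, 0) ≠ 0 := by
        intro d hd
        obtain ⟨h0, hd0⟩ := (Finset.mem_filter.1 hd).2
        refine ⟨fr.mem_W.2 fun i hi => ⟨?_, ?_⟩, fun e => hd0 ?_⟩
        · exact congrFun (coB_half fr d) ⟨i, by omega⟩
        · have := congrFun (fr.coA_comb d 0) ⟨i, by omega⟩
          rw [fr.coA_apply, h0 _ (show i ≤ j by omega)] at this
          exact this
        · rw [← fr.coA_comb d 0, e, map_zero]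
      set T₀ : Finset V := S.image fun d => fr.comb (d, 0) with hT₀
      have hle := finrank_le_sum ρ ψ fr hψ H hjm (Fx ρ fr ⊓ Cs ρ fr j) inf_le_right
        (fun w hw v hv => ⟨op_map_Fx ρ fr H hjm hw hv.1,
          map_Cs_elt ρ fr H (by omega) (fr.a_mem hjm (le_refl j)) (fr.W_mono (by omega) hw) (fr.ok hjm hw) hv.2⟩)
        T₀ ?_
      · have hb : ∀ y ∈ T₀, finrank ℂ (Eig ρ ψ fr j y) ≤ 1 := by
          intro y hy
          obtain ⟨d, hd, rfl⟩ := Finset.mem_image.1 hy
          exact T.le_one j hjm _ (hW d hd).1 (hW d hd).2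
        have hT := Finset.sum_le_sum hb
        rw [Finset.sum_const, smul_eq_mul, mul_one] at hT
        have hc : T₀.card ≤ S.card := Finset.card_image_le
        rw [inf_assoc, inf_eq_right.2 (Cs_mono ρ fr (show j ≤ j + 1 by omega))] at hle
        rw [Finset.sum_range_succ]
        have := ih (by omega)

        omega
      intro y hy hy0 hne
      obtain ⟨v, ⟨hv1, hv2⟩, hv0⟩ := (Submodule.ne_bot_iff _).1 hne
      have hperp : ∀ w ∈ fr.W (j + 1), fr.coB w = 0 → B y w = 0 := by
        intro w hw hwB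
        refine eq_zero_of_char ψ hψ fun r => ?_
        have h := hv2.2 _ (Submodule.smul_mem _ r hw)
        have h' := hv1.1 (Pi.single ⟨j, hjm⟩ 1) (r • w) (by rw [map_smul, hwB, smul_zero])
        rw [ea, h, QuadraticMap.polar_smul_right, smul_eq_mul] at h'
        have h'' : (ψ (r * B y w) - 1) • v = 0 := by rw [sub_smul, one_smul, h', sub_self]
        exact sub_eq_zero.1 ((smul_eq_zero.1 h'').resolve_right hv0)
      have hcoB : fr.coB y = 0 := funext fun p => by
        rcases Nat.lt_or_ge (p : ℕ) (j + 1) with h | h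
        · exact fr.polar_a h hy
        · rw [fr.coB_apply, QuadraticMap.polar_comm]
          exact hperp _ (fr.a_mem p.2 h) (coB_a fr p.2)
      have hyd := half_decomp fr hcoB
      have hbase : fr.base y = 0 := fr.nondeg H le_rfl (base_mem fr y) fun z hz => by
        have h0 := hperp z (fr.W_mono (by omega) hz) (coB_of_mem fr hz)
        rw [hyd, QuadraticMap.polar_add_left, QuadraticMap.polar_comm _ (∑ k, _ • _), Frame.polar_sum,
          Finset.sum_eq_zero (fun p _ => by
            rw [QuadraticMap.polar_comm, fr.polar_a p.2 hz, mul_zero]), zero_add] at h0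
        exact h0
      have hy' : fr.comb (fr.coA y, 0) = y := by
        conv_rhs => rw [hyd, hbase, add_zero]
        simp [fr.comb_apply]
      refine Finset.mem_image.2 ⟨fr.coA y, Finset.mem_filter.2 ⟨Finset.mem_univ _, fun p hp => ?_,
        fun e => hy0 ?_⟩, hy'⟩
      · exact fr.polar_b (by omega) hy
      · rw [← hy', e]
        exact map_zero fr.comb
  have h3 := hstep (j₀ + 2) le_rfl
  have h4 : ∑ i ∈ Finset.range (j₀ + 2), q ^ (j₀ + 2 - i) + 1 = MinIndex.B q (j₀ + 3) := by
    rw [MinIndex.B, Finset.sum_range_succ' (fun i => q ^ i), pow_zero]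
    congr 1
    rw [← Finset.sum_range_reflect (fun i => q ^ (i + 1))]
    refine Finset.sum_congr rfl fun i hi => ?_
    congr 1
    have := Finset.mem_range.1 hi
    omega
  rw [show j₀ + 3 - 1 = j₀ + 2 by omega]
  omega

/-- The Levi bound, forgetting the fixed space. -/
theorem last_Cs (H : Hyp Q) {j₀ : ℕ} (hm : j₀ + 3 = m) {c : F} (T : Thin ρ ψ fr c)
    (hok : RepDeg.Ok j₀ (Fintype.card F)) {u : E} (hu : u ∈ Eig ρ ψ fr j₀ (fr.a (j₀ + 2))) (hu0 : u ≠ 0)
    (h1 : ∀ r : F, op ρ (fr.a (j₀ + 1)) (r • fr.a (j₀ + 2)) u = u)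
    (h2 : ∀ z ∈ fr.W m, op ρ (fr.a (j₀ + 1)) z u = u ∧ op ρ (fr.a (j₀ + 2)) z u = u) :
    m - 1 ≤ finrank ℂ (Cs ρ fr (m - 1)) :=
  (last_Fx ρ ψ fr hψ H hm T hok hu hu0 h1 h2).trans (Submodule.finrank_mono inf_le_right)

end Cfsg.Agent.Lie.OrthDeg
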