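import Cfsg.Agent.Lib.Lie.OrthDeg.Class

/-! Independence of the fixed spaces of orthogonal root groups. -/

set_option autoImplicit false
set_option linter.unusedSectionVars false
set_option quotPrecheck false

noncomputable section

namespace Cfsg.Agent.Lie.OrthDeg

open Matrix Module Cfsg.Agent.Classical Cfsg.Agent.Classical.OrthAut

universe u v

variable {F : Type u} [Field F] [Fintype F] {ι : Type} [Fintype ι] [DecidableEq ι]
  {Q : QuadraticForm F (ι → F)} {m : ℕ}
variable {E : Type v} [AddCommGroup E] [Module ℂ E] [FiniteDimensional ℂ E]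

local notation "V" => (ι → F)
local notation "B" => QuadraticMap.polar ⇑Q
local notation "Om" => Omega F ⇑Q

variable (ρ : Representation ℂ (Omega F ⇑Q) E) (ψ : AddChar F ℂ) (fr : Frame Q m)

theorem fix_a0 (H : Hyp Q) (hm : 0 < m) {u : E} (hu : u ∈ Cs ρ fr 1) {w : V}
    (hw : B (fr.a 0) w = 0) : op ρ (fr.a 0) w u = u := by
  have hp := fr.proj_mem hm (x := w) (fr.mem_W.2 fun i hi => absurd hi (Nat.not_lt_zero i))
  have h := fr.decomp 0 w
  rw [hw, zero_smul, add_zero] at h
  have hok : OK Q (fr.a 0) (B (fr.b 0) w • fr.a 0) :=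
    ⟨fr.quad_a hm, by rw [QuadraticMap.polar_smul_right, fr.aa hm hm, smul_zero]⟩
  rw [h, op_add ρ H hok (fr.ok hm hp), Module.End.mul_apply, hu 0 (by omega) _ hp, op,
    elt_self H (fr.quad_a hm), map_one, Module.End.one_apply]

/-- The projection kills the fixed space of an orthogonal root group. -/
theorem prj_zero_fix (H : Hyp Q) (hm : 3 ≤ m) (h2 : Cs ρ fr 2 = ⊥) {c : V} (hc0 : B (fr.a 0) c = 0)
    (hcq : Q c = 0) (hcv : fr.proj 0 c ≠ 0) {u : E}
    (hu : ∀ w, B c w = 0 → op ρ c w u = u) : prj ρ ψ fr 0 0 u = 0 := by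
  have hm0 : 0 < m := by omega
  set v := fr.proj 0 c with hv
  set r := B (fr.b 0) c
  have hc : c = v + r • fr.a 0 := by
    have h := fr.decomp 0 c
    rw [hc0, zero_smul, add_zero] at h
    rw [add_comm]; exact h
  have hvW : v ∈ fr.W 1 := fr.proj_mem hm0 (fr.mem_W.2 fun i hi => absurd hi (Nat.not_lt_zero i))
  have hva : B (fr.a 0) v = 0 := fr.polar_a (Nat.lt_succ_self 0) hvW
  have hvq : Q v = 0 := by
    rw [hc, quad_add_smul, fr.quad_a hm0, QuadraticMap.polar_comm _ v, hva] at hcq
    linear_combination hcq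
  set x := prj ρ ψ fr 0 0 u with hx
  have hxC : x ∈ Cs ρ fr 1 := by
    rw [← Eig_zero ρ ψ fr 0]
    exact prj_mem ρ ψ fr H hm0 0 (by rw [Cs_zero]; exact Submodule.mem_top)
  have hxv : ∀ w ∈ fr.W 1, B v w = 0 → op ρ v w x = x := by
    intro w hw hvw
    have hwa : B (fr.a 0) w = 0 := fr.polar_a (Nat.lt_succ_self 0) hw
    have hok : OK Q v w := ⟨hvq, hvw⟩
    have hok' : OK Q (r • fr.a 0) w := OK.smul_left' ⟨fr.quad_a hm0, hwa⟩ r
    have hcw : B c w = 0 := by
      rw [hc, QuadraticMap.polar_add_left, QuadraticMap.polar_smul_left, hvw, hwa, smul_zero, add_zero]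
    have h := hu w hcw
    rw [op, hc, elt_add_left H hok hok' (by rw [QuadraticMap.polar_smul_right, QuadraticMap.polar_comm,
      hva, smul_zero]), map_mul, map_mul, Module.End.mul_apply, Module.End.mul_apply] at h
    have e1 : ρ (elt (r • fr.a 0) w) = op ρ (fr.a 0) (r • w) := by
      rw [← op_smul_left ρ H ⟨fr.quad_a hm0, hwa⟩]; rfl
    have e2 : ρ (elt v ((-Q w) • r • fr.a 0)) = op ρ (fr.a 0) ((Q w * r) • v) := by
      rw [smul_smul, elt_swap H hvq (by rw [QuadraticMap.map_smul, fr.quad_a hm0, smul_zero])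
        (by rw [QuadraticMap.polar_smul_right, QuadraticMap.polar_comm, hva, smul_zero]),
        elt_smul_left H ⟨fr.quad_a hm0, by rw [QuadraticMap.polar_neg_right, hva, neg_zero]⟩, op,
        show (-Q w * r) • -v = (Q w * r) • v by module]
    rw [e1, e2] at h
    have h' := congrArg (prj ρ ψ fr 0 0) h
    have hf := fr.fixes_elt H hvW hw hok
    have h3 := prj_map ρ ψ fr H hm0 hf.scales (hf 0 (by omega)).1 0
      (op ρ (fr.a 0) (r • w) (op ρ (fr.a 0) ((Q w * r) • v) u))
    rw [act_zero] at h3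
    rw [← h3, prj_comm ρ ψ fr H hm0 0 (Submodule.smul_mem _ _ hw),
      prj_comm ρ ψ fr H hm0 0 (Submodule.smul_mem _ _ hvW)] at h'
    simpa [x, op] using h'
  -- the statement at a vector of the next pair, then transport
  let P : V → Prop := fun y => Q y = 0 → ∀ x ∈ Cs ρ fr 1, (∀ w ∈ fr.W 1, B y w = 0 → op ρ y w x = x) → x = 0
  have hbase : P (fr.a 1) := fun _ x hx hxy => by
    have : x ∈ Cs ρ fr 2 := fun i hi w hw => by
      rcases Nat.lt_or_ge i 1 with h | h
      · exact hx i h w hw
      · obtain rfl : i = 1 := by omega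
        exact hxy w (fr.W_mono (by omega) hw) (fr.polar_a (by omega : 1 < 1 + 1) hw)
    rw [h2, Submodule.mem_bot] at this
    exact this
  have hst : fr.Stable 0 P := by
    refine ⟨fun g hg hga y hy hP hgq x hx hxy => ?_⟩
    have hyq : Q y = 0 := by rwa [act_quad] at hgq
    have hga' : act g⁻¹ (fr.a 0) = fr.a 0 := by conv_lhs => rw [← hga, act_inv_cancel]
    have h1 : ρ g⁻¹ x ∈ Cs ρ fr 1 := map_Cs ρ fr H (by omega) hg.inv hx
    have h3 := hP hyq (ρ g⁻¹ x) h1 fun w hw hyw => by
      have hgyw : B (act g y) (act g w) = 0 := by rw [act_polar, hyw]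
      have hok : OK Q (act g y) (act g w) → op ρ y w (ρ g⁻¹ x) = ρ g⁻¹ x := fun hok => by
        have h := op_conj ρ H g⁻¹ hok x
        rwa [act_inv_cancel, act_inv_cancel, hxy _ ((hg 0 (by omega)).2 w hw) hgyw] at h
      exact hok ⟨by rw [act_quad, hyq], hgyw⟩
    exact rho_injective ρ g⁻¹ (by rw [h3, map_zero])
  have hW2 : fr.W 2 ≠ ⊥ := fun e => by
    have h2m := fr.a_mem (by omega : 2 < m) (le_refl 2)
    rw [e, Submodule.mem_bot] at h2m
    have := fr.ba (by omega : 2 < m)
    simp [h2m] at this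
  have ha1 : fr.a 1 ≠ 0 := fun e => by
    have := fr.ba (by omega : 1 < m)
    simp [e] at this
  exact (hst.all H hm (by omega) hW2 (fr.a_mem (by omega) le_rfl) ha1 hbase hvW hcv
    (by rw [hvq, fr.quad_a (by omega : 1 < m)])) hvq x hxC hxv

include ψ in
/-- Over the field of two elements three pairs give seven independent copies. -/
theorem seven_le (H : Hyp Q) (hm : 3 ≤ m) (hF : Fintype.card F = 2) (h2 : Cs ρ fr 2 = ⊥) :
    7 * finrank ℂ (Cs ρ fr 1) ≤ finrank ℂ E := by
  classical
  have hm0 : 0 < m := by omega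
  let cv : (Fin 3 → F) → V := fun d => ∑ i : Fin 3, d i • fr.a i
  let T := {d : Fin 3 → F // d ≠ 0}
  have hcoef : ∀ d (i : Fin 3), B (fr.b i) (cv d) = d i := by
    intro d i
    simp only [cv, ← QuadraticMap.polarBilin_apply_apply, map_sum]
    rw [Finset.sum_eq_single i (fun k _ hk => by
      simp [(fr.orth i k (by omega) (by omega) (fun e => hk (Fin.ext e.symm))).1.2])
      (fun h => absurd (Finset.mem_univ i) h)]
    simp [fr.ba (by omega : (i : ℕ) < m)]
  have hq : ∀ d, Q (cv d) = 0 := fun d => by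
    simp only [cv, Fin.sum_univ_three, quad_add, QuadraticMap.map_smul, QuadraticMap.polar_add_left,
      QuadraticMap.polar_smul_left, QuadraticMap.polar_smul_right, fr.quad_a (by omega : 0 < m),
      fr.quad_a (by omega : 1 < m), fr.quad_a (by omega : 2 < m), fr.aa (by omega : 0 < m) (by omega : 1 < m),
      fr.aa (by omega : 0 < m) (by omega : 2 < m), fr.aa (by omega : 1 < m) (by omega : 2 < m),
      Fin.val_zero, Fin.val_one, Fin.val_two]
    simp
  have horth : ∀ d d', B (cv d) (cv d') = 0 := fun d d' => by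
    simp only [cv, ← QuadraticMap.polarBilin_apply_apply, map_sum, LinearMap.sum_apply]
    exact Finset.sum_eq_zero fun i _ => Finset.sum_eq_zero fun k _ => by
      simp [fr.aa (by omega : (i : ℕ) < m) (by omega : (k : ℕ) < m),
        fr.aa (by omega : (k : ℕ) < m) (by omega : (i : ℕ) < m)]
  have hne : ∀ d : T, cv d.1 ≠ 0 := fun d e => d.2 (funext fun i => by
    rw [← hcoef d.1 i, e, QuadraticMap.polar_zero_right]; rfl)
  have hex : ∀ d : T, ∃ g : Om, act g (fr.a 0) = cv d.1 := fun d => by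
    have h01 := fr.ts (by omega : 2 ≤ m)
    obtain ⟨g, hg, hga⟩ := exists_move H.nd H.tri h01.left_ne h01.1 (hne d) (hq d.1)
    exact ⟨⟨g, sR_le_omega H.nd H.tri hg⟩, hga⟩
  choose gg hgg using hex
  let f : (T → Cs ρ fr 1) →ₗ[ℂ] E :=
    { toFun := fun v => ∑ d : T, ρ (gg d) (v d : E)
      map_add' := fun v w => by simp [Finset.sum_add_distrib]
      map_smul' := fun c v => by simp [Finset.smul_sum] }
  have hT : Fintype.card T = 7 := by
    show Fintype.card {d : Fin 3 → F // d ≠ 0} = 7
    rw [Fintype.card_subtype_compl, Fintype.card_subtype_eq, Fintype.card_fun, hF, Fintype.card_fin]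
    rfl
  have h01 : ∀ r : F, r = 0 ∨ r = 1 := fun r => by
    by_contra hr
    push Not at hr
    have := Finset.card_le_univ ({0, 1, r} : Finset F)
    rw [Finset.card_insert_of_notMem (by simp [Ne.symm hr.1]), Finset.card_insert_of_notMem
      (by simp [Ne.symm hr.2]), Finset.card_singleton, hF] at this
    omega
  have hinj : Function.Injective f := by
    rw [← LinearMap.ker_eq_bot, Submodule.eq_bot_iff]
    intro v hv
    refine funext fun d => Subtype.ext ?_
    have h := congrArg (fun x => prj ρ ψ fr 0 0 (ρ (gg d)⁻¹ x)) (LinearMap.mem_ker.1 hv)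
    simp only [f, LinearMap.coe_mk, AddHom.coe_mk, map_sum, map_zero] at h
    rw [Finset.sum_eq_single d (fun l _ hld => ?_) (fun h => absurd (Finset.mem_univ d) h),
      rho_cancel, prj_self ρ ψ fr (by rw [Eig_zero]; exact (v d).2)] at h
    · exact h
    · set g := (gg d)⁻¹ * gg l
      rw [show ρ (gg d)⁻¹ (ρ (gg l) (v l : E)) = ρ g (v l : E) by rw [map_mul, Module.End.mul_apply]]
      have ha : act g (fr.a 0) = act (gg d)⁻¹ (cv l.1) := by rw [act_mul, hgg]
      have hd : act (gg d)⁻¹ (cv d.1) = fr.a 0 := by rw [← hgg, act_inv_cancel]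
      refine prj_zero_fix ρ ψ fr H hm h2 (c := act g (fr.a 0)) ?_
        (by rw [act_quad, fr.quad_a hm0]) (fun hp => hld ?_) (fun w hw => ?_)
      · rw [ha, ← hd, act_polar]; exact horth _ _
      · have hdec := fr.decomp 0 (act g (fr.a 0))
        have h0 : B (fr.a 0) (act g (fr.a 0)) = 0 := by rw [ha, ← hd, act_polar]; exact horth _ _
        rw [h0, zero_smul, add_zero, hp, add_zero] at hdec
        rcases h01 (B (fr.b 0) (act g (fr.a 0))) with hr | hr
        · rw [hr, zero_smul, ha] at hdec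
          exact absurd (by rw [← act_inv_cancel' (gg d) (cv l.1), hdec, act_zero]) (hne l)
        · rw [hr, one_smul, ha, ← hd] at hdec
          have := congrArg (act (gg d)) hdec
          rw [act_inv_cancel', act_inv_cancel'] at this
          exact Subtype.ext (funext fun i => by rw [← hcoef l.1 i, this, hcoef])
      · obtain ⟨w', rfl⟩ : ∃ w', act g w' = w := ⟨act g⁻¹ w, act_inv_cancel' g w⟩
        rw [act_polar] at hw
        rw [op_conj ρ H g ⟨fr.quad_a hm0, hw⟩, fix_a0 ρ fr H hm0 (v l).2 hw]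
  have h := LinearMap.finrank_le_finrank_of_injective hinj
  rwa [Module.finrank_pi_fintype, Finset.sum_const, Finset.card_univ, hT, smul_eq_mul] at h

end Cfsg.Agent.Lie.OrthDeg
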