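import Cfsg.Agent.Lib.Lie.OrthDeg.Spec

/-! Characters of further root groups on one-dimensional eigenspaces. -/

set_option autoImplicit false
set_option linter.unusedSectionVars false
set_option quotPrecheck false

noncomputable section

namespace Cfsg.Agent.Lie.OrthDeg

open Matrix Module Cfsg.Agent.Classical Cfsg.Agent.Classical.OrthAut

universe u v

variable {F : Type u} [Field F] [Fintype F] {ι : Type} [Fintype ι] [DecidableEq ι]
  {Q : QuadraticForm F (ι → F)} {m : ℕ}
variable {E : Type v} [AddCommGroup E] [Module ℂ E] [FiniteDimensional ℂ E]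

local notation "V" => (ι → F)
local notation "B" => QuadraticMap.polar ⇑Q
local notation "Om" => Omega F ⇑Q

variable (ρ : Representation ℂ (Omega F ⇑Q) E) (ψ : AddChar F ℂ) (fr : Frame Q m)

/-- `p` and `w` define a root element fixing the character `y` at level `j`. -/
structure Sit (j : ℕ) (y p w : V) : Prop where
  pW : p ∈ fr.W (j + 1)
  pq : Q p = 0
  py : B p y = 0
  wW : w ∈ fr.W (j + 1)
  wy : B y w = 0
  wp : B p w = 0

/-- The root element of `p` and `w` is trivial on the eigenspace. -/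
def Trivial' (j : ℕ) (y p w : V) : Prop := ∀ u ∈ Eig ρ ψ fr j y, op ρ p w u = u

variable {fr}
variable {j : ℕ} {y p : ι → F}

theorem Sit.ok {w : V} (h : Sit fr j y p w) : OK Q p w := ⟨h.pq, h.wp⟩

theorem Sit.add {w w' : V} (h : Sit fr j y p w) (h' : Sit fr j y p w') : Sit fr j y p (w + w') :=
  ⟨h.pW, h.pq, h.py, add_mem h.wW h'.wW, by rw [QuadraticMap.polar_add_right, h.wy, h'.wy, add_zero],
    by rw [QuadraticMap.polar_add_right, h.wp, h'.wp, add_zero]⟩

theorem Sit.smul {w : V} (h : Sit fr j y p w) (c : F) : Sit fr j y p (c • w) :=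
  ⟨h.pW, h.pq, h.py, Submodule.smul_mem _ _ h.wW,
    by rw [QuadraticMap.polar_smul_right, h.wy, smul_zero],
    by rw [QuadraticMap.polar_smul_right, h.wp, smul_zero]⟩

theorem Sit.zero {w : V} (h : Sit fr j y p w) : Sit fr j y p 0 := by
  simpa using h.smul 0

theorem op_mem (H : Hyp Q) (hj : j < m) (hy : y ∈ fr.W (j + 1)) {w : V} (h : Sit fr j y p w) {u : E}
    (hu : u ∈ Eig ρ ψ fr j y) : op ρ p w u ∈ Eig ρ ψ fr j y := by
  have hf := fr.fixes_elt H h.pW h.wW h.ok
  have := map_Eig ρ ψ fr H hj hf.scales one_ne_zero (by rw [one_smul]; exact (hf j (by omega)).1) hu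
  have e : act (elt p w : Om) y = y := by
    rw [act_elt H h.ok, h.py, QuadraticMap.polar_comm _ w, h.wy]
    simp
  rwa [inv_one, one_smul, e] at this

theorem exists_scalar (h1 : finrank ℂ (Eig ρ ψ fr j y) = 1) {u₀ : E} (hu₀ : u₀ ∈ Eig ρ ψ fr j y)
    (hne : u₀ ≠ 0) {v : E} (hv : v ∈ Eig ρ ψ fr j y) : ∃ c : ℂ, c • u₀ = v := by
  obtain ⟨c, hc⟩ := (finrank_eq_one_iff_of_nonzero' (⟨u₀, hu₀⟩ : Eig ρ ψ fr j y)
    (fun h => hne (congrArg Subtype.val h))).1 h1 ⟨v, hv⟩
  exact ⟨c, congrArg Subtype.val hc⟩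

theorem Trivial'.add (H : Hyp Q) {w w' : V} (h : Sit fr j y p w) (h' : Sit fr j y p w')
    (t : Trivial' ρ ψ fr j y p w) (t' : Trivial' ρ ψ fr j y p w') :
    Trivial' ρ ψ fr j y p (w + w') := fun u hu => by
  rw [op_add ρ H h.ok h'.ok, Module.End.mul_apply, t' u hu, t u hu]

/-- Conjugation inside the stabiliser does not change the scalar. -/
theorem invariance (H : Hyp Q) (hj : j < m) (hy : y ∈ fr.W (j + 1)) (h1 : finrank ℂ (Eig ρ ψ fr j y) = 1)
    {w w' : V} (h : Sit fr j y p w) {g : Om} (hg : fr.Scales (j + 1) g) {c : F} (hc : c ≠ 0)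
    (hca : act g (fr.a j) = c • fr.a j) (hgy : c⁻¹ • act g y = y)
    (hconj : op ρ (act g p) (act g w) = op ρ p w') {u : E} (hu : u ∈ Eig ρ ψ fr j y) :
    op ρ p w' u = op ρ p w u := by
  rcases eq_or_ne u 0 with rfl | hu0
  · rw [map_zero, map_zero]
  have hgu : ρ g u ∈ Eig ρ ψ fr j y := by
    have := map_Eig ρ ψ fr H hj hg hc hca hu
    rwa [hgy] at this
  obtain ⟨a, ha⟩ := exists_scalar ρ ψ h1 hu hu0 hgu
  obtain ⟨b, hb⟩ := exists_scalar ρ ψ h1 hu hu0 (op_mem ρ ψ H hj hy h hu)
  have h2 := op_conj ρ H g h.ok u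
  rw [hconj, ← ha, ← hb, map_smul, map_smul, ← ha, smul_smul] at h2
  have ha0 : a ≠ 0 := fun e => hu0 (rho_injective ρ g (by rw [← ha, e, zero_smul, map_zero]))
  rw [← hb]
  have h3 := congrArg (a⁻¹ • ·) h2
  simp only [smul_smul, inv_mul_cancel₀ ha0, one_smul] at h3
  rw [h3]
  congr 1
  field_simp

/-- Root elements moved by a commuting root element. -/
theorem trivial_of_elt (H : Hyp Q) (hj : j < m) (hy : y ∈ fr.W (j + 1))
    (h1 : finrank ℂ (Eig ρ ψ fr j y) = 1) {u' v' x : V} (hu' : u' ∈ fr.W (j + 1)) (hv' : v' ∈ fr.W (j + 1))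
    (hok : OK Q u' v') (huy : B u' y = 0) (hvy : B v' y = 0) (hup : B u' p = 0) (hvp : B v' p = 0)
    (hx : Sit fr j y p x) :
    Trivial' ρ ψ fr j y p (B u' x • v' - B v' x • u' - (Q v' * B u' x) • u') := by
  intro u hu
  set d := B u' x • v' - B v' x • u' - (Q v' * B u' x) • u'
  have hd : Sit fr j y p d := by
    refine ⟨hx.pW, hx.pq, hx.py, ?_, ?_, ?_⟩
    · exact sub_mem (sub_mem (Submodule.smul_mem _ _ hv') (Submodule.smul_mem _ _ hu'))
        (Submodule.smul_mem _ _ hu')
    · simp [d, QuadraticMap.polar_sub_right, QuadraticMap.polar_smul_right,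
        QuadraticMap.polar_comm _ y v', hvy, QuadraticMap.polar_comm _ y u', huy]
    · simp [d, QuadraticMap.polar_sub_right, QuadraticMap.polar_smul_right,
        QuadraticMap.polar_comm _ p v', hvp, QuadraticMap.polar_comm _ p u', hup]
  let g : Om := elt u' v'
  have hf := fr.fixes_elt H hu' hv' hok
  have hgy : act g y = y := by rw [act_elt H hok, huy, hvy]; simp
  have hgp : act g p = p := by rw [act_elt H hok, hup, hvp]; simp
  have hgx : act g x = x + d := by rw [act_elt H hok]; simp only [d]; abel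
  have h2 := invariance ρ ψ H hj hy h1 (w' := x + d) hx hf.scales one_ne_zero
    (by rw [one_smul]; exact (hf j (by omega)).1) (by rw [inv_one, one_smul, hgy]) (by rw [hgp, hgx]) hu
  rw [op_add ρ H hx.ok hd.ok, Module.End.mul_apply] at h2
  exact rho_injective ρ (elt p x) h2

/-- Enough room in the perpendicular of one further pair kills everything. -/
theorem trivial_of_room (H : Hyp Q) (hj : j < m) (hy : y ∈ fr.W (j + 1))
    (h1 : finrank ℂ (Eig ρ ψ fr j y) = 1) {l : ℕ} (hl : l < m) (hjl : j + 1 ≤ l)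
    (hpa : B (fr.a l) p = 0) (hpb : B (fr.b l) p = 0) (hya : B (fr.a l) y = 0) (hyb : B (fr.b l) y = 0)
    {s t : V} (hs : Sit fr j y p s) (ht : Sit fr j y p t) (hsl : Perp Q (fr.a l) (fr.b l) s)
    (htl : Perp Q (fr.a l) (fr.b l) t) (hst : B s t ≠ 0) {w : V} (hw : Sit fr j y p w) :
    Trivial' ρ ψ fr j y p w := by
  have haW := fr.a_mem hl hjl
  have hbW := fr.b_mem hl hjl
  have ha : Sit fr j y p (fr.a l) :=
    ⟨hw.pW, hw.pq, hw.py, haW, by rw [QuadraticMap.polar_comm]; exact hya,
      by rw [QuadraticMap.polar_comm]; exact hpa⟩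
  have hb : Sit fr j y p (fr.b l) :=
    ⟨hw.pW, hw.pq, hw.py, hbW, by rw [QuadraticMap.polar_comm]; exact hyb,
      by rw [QuadraticMap.polar_comm]; exact hpb⟩
  have sy : B s y = 0 := by rw [QuadraticMap.polar_comm]; exact hs.wy
  have sp : B s p = 0 := by rw [QuadraticMap.polar_comm]; exact hs.wp
  have mult : ∀ e, (e = fr.a l ∨ e = fr.b l) → ∀ c : F, Trivial' ρ ψ fr j y p (c • e) := by
    intro e he c
    have heW : e ∈ fr.W (j + 1) := by rcases he with rfl | rfl <;> assumption
    have he0 : Q e = 0 := by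
      rcases he with rfl | rfl
      · exact fr.quad_a hl
      · exact fr.quad_b hl
    have hes : B e s = 0 := by
      rcases he with rfl | rfl
      · exact hsl.1
      · exact hsl.2
    have het : B e t = 0 := by
      rcases he with rfl | rfl
      · exact htl.1
      · exact htl.2
    have hey : B e y = 0 := by rcases he with rfl | rfl <;> assumption
    have hep : B e p = 0 := by rcases he with rfl | rfl <;> assumption
    have := trivial_of_elt ρ ψ H hj hy h1 (u' := e) (v' := s) heW hs.wW ⟨he0, hes⟩ hey sy hep sp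
      (ht.smul (-c / B s t))
    have e1 : B e ((-c / B s t) • t) • s - B s ((-c / B s t) • t) • e -
        (Q s * B e ((-c / B s t) • t)) • e = c • e := by
      rw [QuadraticMap.polar_smul_right, QuadraticMap.polar_smul_right, het]
      simp only [smul_eq_mul, mul_zero, zero_smul, sub_zero, zero_sub, ← neg_smul]
      congr 1
      field_simp
    rwa [e1] at this
  set ca := B (fr.b l) w
  set cb := B (fr.a l) w
  set w0 := w - ca • fr.a l - cb • fr.b l with hw0
  have h0 : Sit fr j y p w0 := by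
    have := (hw.add (ha.smul (-ca))).add (hb.smul (-cb))
    convert this using 1
    rw [hw0]; module
  have h0a : B (fr.a l) w0 = 0 := by
    simp [hw0, cb, QuadraticMap.polar_sub_right, QuadraticMap.polar_smul_right, fr.aa hl hl, fr.ab hl]
  have h0b : B (fr.b l) w0 = 0 := by
    simp [hw0, ca, QuadraticMap.polar_sub_right, QuadraticMap.polar_smul_right, fr.bb hl hl, fr.ba hl]
  have t0 : Trivial' ρ ψ fr j y p w0 := by
    have h0y : B w0 y = 0 := by rw [QuadraticMap.polar_comm]; exact h0.wy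
    have h0p : B w0 p = 0 := by rw [QuadraticMap.polar_comm]; exact h0.wp
    have := trivial_of_elt ρ ψ H hj hy h1 (u' := fr.b l) (v' := w0) hbW h0.wW ⟨fr.quad_b hl, h0b⟩ hyb h0y
      hpb h0p ha
    rw [fr.ba hl, QuadraticMap.polar_comm _ w0, h0a, one_smul, zero_smul, sub_zero, mul_one] at this
    have h5 := this.add ρ ψ H ((h0.add (hb.smul (-Q w0))) |> fun s => by
      convert s using 1; module) (hb.smul (Q w0)) (mult _ (Or.inr rfl) _)
    convert h5 using 1
    module
  have h6 := ((t0.add ρ ψ H h0 (ha.smul ca) (mult _ (Or.inl rfl) _)).add ρ ψ H (h0.add (ha.smul ca))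
    (hb.smul cb) (mult _ (Or.inr rfl) _))
  convert h6 using 1
  rw [hw0]; module

/-- With at least four field elements a torus kills everything. -/
theorem trivial_of_torus (H : Hyp Q) (hj : j < m) (hy : y ∈ fr.W (j + 1)) (hF : 4 ≤ Fintype.card F)
    (h1 : finrank ℂ (Eig ρ ψ fr j y) = 1) {l : ℕ} (hl : l < m) (hlj : j + 1 ≤ l) (hp : p = fr.a l)
    (hyb : B (fr.b l) y = 0) {w : V} (hw : Sit fr j y p w) : Trivial' ρ ψ fr j y p w := by
  classical
  obtain ⟨s, hs0, hs⟩ : ∃ s : F, s ≠ 0 ∧ s * s ≠ 1 := by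
    by_contra hcon
    push Not at hcon
    have hsub : (Finset.univ : Finset F) ⊆ ({0, 1, -1} : Finset F) := fun x _ => by
      rcases eq_or_ne x 0 with h | h
      · simp [h]
      · rcases mul_self_eq_one_iff.1 (hcon x h) with h | h <;> simp [h]
    have := (Finset.card_le_card hsub).trans Finset.card_le_three
    rw [Finset.card_univ] at this
    omega
  obtain ⟨g₁, h₁, -, -, i₁⟩ := exists_torus_elt H.nd (fr.pair l hl) hs0
  have hmem : g₁ * g₁ ∈ Omega F ⇑Q := by
    rw [omega_eq_ker H.nd H.gen, MonoidHom.mem_ker, map_mul, i₁ H.gen]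
    simp only [Prod.mk_mul_mk, one_mul, Int.units_mul_self]
    rfl
  let g : Om := ⟨g₁ * g₁, hmem⟩
  have hval : ∀ x, act g x = ogVal g₁ *ᵥ (ogVal g₁ *ᵥ x) := fun x => by
    rw [Matrix.mulVec_mulVec, ← ogVal_mul]; rfl
  have hfix : ∀ x, Perp Q (fr.a l) (fr.b l) x → act g x = x := fun x hx => by
    have e : ogVal g₁ *ᵥ x = x := by rw [h₁, hx.1, hx.2]; simp
    rw [hval, e, e]
  have hga : act g (fr.a l) = (s * s) • fr.a l := by
    have e : ogVal g₁ *ᵥ fr.a l = s • fr.a l := by
      rw [h₁, fr.ba hl, fr.aa hl hl]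
      module
    rw [hval, e, mulVec_smul, e, smul_smul]
  have hf : fr.Fixes (j + 1) g := fun i hi =>
    ⟨hfix _ (fr.orth l i hl (by omega) (by omega)).1, hfix _ (fr.orth l i hl (by omega) (by omega)).2⟩
  have hgy : act g y = y := hfix y ⟨by rw [← hp]; exact hw.py, hyb⟩
  have haS : Sit fr j y p (fr.a l) :=
    ⟨hw.pW, hw.pq, hw.py, fr.a_mem hl hlj, by rw [QuadraticMap.polar_comm, ← hp]; exact hw.py,
      by rw [hp]; exact fr.aa hl hl⟩
  set c := B (fr.b l) w
  set w0 := w - c • fr.a l with hw0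
  have h0 : Sit fr j y p w0 := by
    have := hw.add (haS.smul (-c))
    convert this using 1
    rw [hw0]; module
  have hw0p : Perp Q (fr.a l) (fr.b l) w0 := by
    constructor
    · rw [← hp]; exact h0.wp
    · simp [hw0, c, QuadraticMap.polar_sub_right, QuadraticMap.polar_smul_right, fr.ba hl]
  have hr : s * s - 1 ≠ 0 := sub_ne_zero.2 hs
  have key : ∀ v, Sit fr j y p v → Perp Q (fr.a l) (fr.b l) v → Trivial' ρ ψ fr j y p ((s * s - 1) • v) := by
    intro v hv hvp u hu
    have h2 := invariance ρ ψ H hj hy h1 (w' := (s * s) • v) hv hf.scales one_ne_zero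
      (by rw [one_smul]; exact (hf j (by omega)).1) (by rw [inv_one, one_smul, hgy])
      (by rw [hfix v hvp, hp, hga, op_smul_left ρ H (hp ▸ hv.ok)]) hu
    rw [show (s * s) • v = v + (s * s - 1) • v by module, op_add ρ H hv.ok (hv.smul _).ok,
      Module.End.mul_apply] at h2
    exact rho_injective ρ (elt p v) h2
  have t0 : Trivial' ρ ψ fr j y p w0 := by
    have h3 := key _ (h0.smul (s * s - 1)⁻¹)
      ⟨by rw [QuadraticMap.polar_smul_right, hw0p.1, smul_zero],
        by rw [QuadraticMap.polar_smul_right, hw0p.2, smul_zero]⟩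
    rwa [smul_smul, mul_inv_cancel₀ hr, one_smul] at h3
  have ta : Trivial' ρ ψ fr j y p (c • fr.a l) := fun u _ => by
    rw [hp, op, elt_self H (fr.quad_a hl), map_one, Module.End.one_apply]
  have h6 := t0.add ρ ψ H h0 (haS.smul c) ta
  convert h6 using 1
  rw [hw0]; module

end Cfsg.Agent.Lie.OrthDeg
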