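import Cfsg.Agent.Lib.Lie.OrthDeg.Swap
import Cfsg.Agent.Lib.Lie.OrthDeg.Count

/-! The characters occurring at each level of a frame when the degree is small. -/

set_option autoImplicit false
set_option linter.unusedSectionVars false
set_option quotPrecheck false

noncomputable section

namespace Cfsg.Agent.Lie.OrthDeg

open Matrix Module Cfsg.Agent.Classical Cfsg.Agent.Classical.OrthAut

universe u v

variable {F : Type u} [Field F] [Fintype F] {ι : Type} [Fintype ι] [DecidableEq ι]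
  {Q : QuadraticForm F (ι → F)} {m : ℕ}
variable {E : Type v} [AddCommGroup E] [Module ℂ E] [FiniteDimensional ℂ E]

local notation "V" => (ι → F)
local notation "B" => QuadraticMap.polar ⇑Q
local notation "Om" => Omega F ⇑Q

variable (ρ : Representation ℂ (Omega F ⇑Q) E) (ψ : AddChar F ℂ) (fr : Frame Q m)

/-- The non-zero vectors of a given value at a level. -/
def Frame.vals (j : ℕ) (c : F) : Finset V :=
  (Set.toFinite {y : V | y ∈ fr.W (j + 1) ∧ y ≠ 0 ∧ Q y = c}).toFinset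

theorem Frame.mem_vals {j : ℕ} {c : F} {y : V} :
    y ∈ fr.vals j c ↔ y ∈ fr.W (j + 1) ∧ y ≠ 0 ∧ Q y = c := by simp [Frame.vals]

theorem Frame.card_vals (j : ℕ) (c : F) [Decidable (c = 0)] :
    (fr.vals j c).card + (if c = 0 then 1 else 0) = fr.num (j + 1) c := by
  classical
  have h1 : fr.num (j + 1) c =
      ((Set.toFinite {y : V | y ∈ fr.W (j + 1) ∧ Q y = c}).toFinset).card := by
    rw [← Nat.card_eq_card_finite_toFinset, Frame.num]
    exact Nat.card_congr (Equiv.subtypeSubtypeEquivSubtypeInter (fun y : V => y ∈ fr.W (j + 1))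
      (fun y : V => Q y = c))
  rw [h1]
  split
  · next hc =>
    subst hc
    rw [← Finset.card_insert_of_notMem (a := (0 : V)) (fun h => ((fr.mem_vals).1 h).2.1 rfl)]
    congr 1
    ext y
    rcases eq_or_ne y 0 with rfl | hy <;> simp_all [Frame.mem_vals]
  · next hc =>
    rw [add_zero]
    congr 1
    ext y
    simp only [Frame.mem_vals, Set.Finite.mem_toFinset, Set.mem_setOf_eq]
    refine ⟨fun h => ⟨h.1, h.2.2⟩, fun h => ⟨h.1, fun e => hc ?_, h.2⟩⟩
    rw [← h.2, e, QuadraticMap.map_zero]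

/-- Only the value `c` occurs, with multiplicity at most one. -/
structure Thin (c : F) : Prop where
  le_one : ∀ j, j < m → ∀ y ∈ fr.W (j + 1), y ≠ 0 → finrank ℂ (Eig ρ ψ fr j y) ≤ 1
  only : ∀ j, j < m → ∀ y ∈ fr.W (j + 1), y ≠ 0 → Q y ≠ c → Eig ρ ψ fr j y = ⊥

theorem trivial_le_one {j : ℕ} {y p w : V} (h : finrank ℂ (Eig ρ ψ fr j y) ≤ 1)
    (ht : finrank ℂ (Eig ρ ψ fr j y) = 1 → Trivial' ρ ψ fr j y p w) : Trivial' ρ ψ fr j y p w := by
  intro u hu
  rcases Nat.lt_or_ge (finrank ℂ (Eig ρ ψ fr j y)) 1 with h0 | h1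
  · have : Eig ρ ψ fr j y = ⊥ := Submodule.finrank_eq_zero.1 (by omega)
    rw [this, Submodule.mem_bot] at hu
    rw [hu, map_zero]
  · exact ht (le_antisymm h h1) u hu

/-- The torus of two neighbouring pairs fixes the character of the second. -/
theorem trivial_of_self (H : Hyp Q) (hF : 3 ≤ Fintype.card F) {j : ℕ} (hj : j + 1 < m) {r : F}
    (h1 : finrank ℂ (Eig ρ ψ fr j (r • fr.a (j + 1))) = 1) {w : V} (hw : w ∈ fr.W (j + 2)) :
    Trivial' ρ ψ fr j (r • fr.a (j + 1)) (fr.a (j + 1)) w := by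
  classical
  obtain ⟨ε, hε, hε1⟩ : ∃ ε : F, ε ≠ 0 ∧ ε ≠ 1 := by
    by_contra hcon
    push Not at hcon
    have hsub : (Finset.univ : Finset F) ⊆ ({0, 1} : Finset F) := fun x _ => by
      rcases eq_or_ne x 0 with h | h
      · simp [h]
      · simp [hcon x h]
    have := (Finset.card_le_card hsub).trans Finset.card_le_two
    rw [Finset.card_univ] at this
    omega
  have hjm : j < m := by omega
  have o := fr.orth (j + 1) j hj hjm (by omega)
  obtain ⟨g, ga, gb, gc, gd, gfix⟩ := exists_torus2 H (fr.pair (j + 1) hj) (fr.pair j hjm) o.1 o.2 hε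
  have hsc : fr.Scales (j + 1) g := fr.scales_of fun i hi => by
    rcases eq_or_ne i j with rfl | hij
    · exact ⟨ε, ε⁻¹, hε, inv_ne_zero hε, gc, gd⟩
    · have p1 := fr.orth (j + 1) i hj (by omega) (by omega)
      have p2 := fr.orth j i hjm (by omega) hij.symm
      exact ⟨1, 1, one_ne_zero, one_ne_zero, by rw [one_smul]; exact gfix _ p1.1 p2.1,
        by rw [one_smul]; exact gfix _ p1.2 p2.2⟩
  have haW := fr.a_mem hj (le_refl (j + 1))
  have hpa : ∀ v ∈ fr.W (j + 2), Sit fr j (r • fr.a (j + 1)) (fr.a (j + 1)) v := fun v hv =>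
    ⟨haW, fr.quad_a hj, by rw [QuadraticMap.polar_smul_right, fr.aa hj hj, smul_zero],
      fr.W_mono (by omega) hv,
      by rw [QuadraticMap.polar_smul_left, fr.polar_a (by omega : j + 1 < j + 2) hv, smul_zero],
      fr.polar_a (by omega : j + 1 < j + 2) hv⟩
  have hfix : ∀ v ∈ fr.W (j + 2), act g v = v := fun v hv =>
    gfix v ⟨fr.polar_a (by omega) hv, fr.polar_b (by omega) hv⟩
      ⟨fr.polar_a (by omega) hv, fr.polar_b (by omega) hv⟩
  intro u hu
  have hsm : (ε - 1)⁻¹ • w ∈ fr.W (j + 2) := Submodule.smul_mem _ _ hw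
  have h2 := invariance ρ ψ H hjm (Submodule.smul_mem _ _ haW) h1 (w' := ε • ((ε - 1)⁻¹ • w))
    (hpa _ hsm) hsc hε gc
    (by rw [act_smul, ga, smul_smul, smul_smul]; congr 1; field_simp)
    (by rw [ga, hfix _ hsm, op_smul_left ρ H (fr.ok hj hsm)]) hu
  have hsum : ε • ((ε - 1)⁻¹ • w) = (ε - 1)⁻¹ • w + w := by
    have e : ε - 1 ≠ 0 := sub_ne_zero.2 hε1
    match_scalars
    field_simp
    ring
  rw [hsum, op_add ρ H (fr.ok hj hsm) (fr.ok hj hw), Module.End.mul_apply] at h2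
  exact rho_injective ρ (elt (fr.a (j + 1)) ((ε - 1)⁻¹ • w)) h2

variable (hψ : ψ ≠ 1)
include hψ

/-- A bound on the multiplicities of a value propagates upwards. -/
theorem finrank_le_all (H : Hyp Q) (c : F) (d : ℕ)
    (h : ∀ y ∈ fr.W 1, y ≠ 0 → Q y = c → finrank ℂ (Eig ρ ψ fr 0 y) ≤ d) :
    ∀ j, j < m → ∀ y ∈ fr.W (j + 1), y ≠ 0 → Q y = c → finrank ℂ (Eig ρ ψ fr j y) ≤ d := by
  intro j
  induction j with
  | zero => exact fun _ => h
  | succ j ih =>
    intro hj y hy hy0 hq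
    exact (finrank_up ρ ψ fr hψ H hj hy hy0).trans (ih (by omega) (-y)
      (neg_mem (fr.W_mono (by omega) hy)) (neg_ne_zero.2 hy0) (by rw [QuadraticMap.map_neg, hq]))

/-- Equal lower bounds for a set of values add up. -/
theorem card_mul_le (H : Hyp Q) {j : ℕ} (hj : j < m) (c : F) (d : ℕ)
    (h : ∀ y ∈ fr.vals j c, d ≤ finrank ℂ (Eig ρ ψ fr j y)) :
    (fr.vals j c).card * d + finrank ℂ (Cs ρ fr (j + 1)) ≤ finrank ℂ (Cs ρ fr j) := by
  refine le_trans ?_ (sum_finrank_le ρ ψ fr hψ H hj (fr.vals j c)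
    fun y hy => ⟨((fr.mem_vals).1 hy).1, ((fr.mem_vals).1 hy).2.1⟩)
  have := Finset.sum_le_sum h
  rw [Finset.sum_const, smul_eq_mul] at this
  omega

/-- A small degree leaves one value and multiplicity one. -/
theorem exists_thin (H : Hyp Q) (hm : 3 ≤ m) (hx : fr.W 2 ≠ ⊥) {g₀ : Om} (hg₀ : ρ g₀ ≠ 1) (M : ℕ)
    (hM : ∀ c : F, M ≤ (fr.vals 0 c).card) (hk : finrank ℂ E < 2 * M) :
    ∃ c : F, (4 ≤ Fintype.card F → c = 0) ∧ Thin ρ ψ fr c ∧
      ∀ y ∈ fr.vals 0 c, finrank ℂ (Eig ρ ψ fr 0 y) = 1 := by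
  classical
  obtain ⟨y₀, hy₀, hy₀0, hne⟩ := exists_top ρ ψ fr hψ H (by omega) hg₀
  have hd : 1 ≤ finrank ℂ (Eig ρ ψ fr 0 y₀) :=
    Submodule.one_le_finrank_iff.2 hne
  have hE : finrank ℂ (Cs ρ fr 0) = finrank ℂ E := by rw [Cs_zero, finrank_top]
  have hconst : ∀ y ∈ fr.W 1, y ≠ 0 → ∀ z ∈ fr.W 1, z ≠ 0 → Q z = Q y →
      finrank ℂ (Eig ρ ψ fr 0 z) = finrank ℂ (Eig ρ ψ fr 0 y) := fun y hy hy0 z hz hz0 hq =>
    finrank_Eig_const ρ ψ fr H hm (by omega) hx hy hy0 hz hz0 hq
  have hone : ∀ y ∈ fr.W 1, y ≠ 0 → finrank ℂ (Eig ρ ψ fr 0 y) ≤ 1 := by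
    intro y hy hy0
    by_contra hcon
    have h2 := card_mul_le ρ ψ fr hψ H (by omega : 0 < m) (Q y) 2 fun z hz => by
      obtain ⟨h1, h2, h3⟩ := (fr.mem_vals).1 hz
      rw [hconst y hy hy0 z h1 h2 h3]
      omega
    have := hM (Q y)
    omega
  have honly : ∀ y ∈ fr.W 1, y ≠ 0 → Q y ≠ Q y₀ → Eig ρ ψ fr 0 y = ⊥ := by
    intro y hy hy0 hq
    by_contra hcon
    have hd' : 1 ≤ finrank ℂ (Eig ρ ψ fr 0 y) := Submodule.one_le_finrank_iff.2 hcon
    have hdisj : Disjoint (fr.vals 0 (Q y)) (fr.vals 0 (Q y₀)) :=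
      Finset.disjoint_left.2 fun z h1 h2 => hq (((fr.mem_vals).1 h1).2.2.symm.trans ((fr.mem_vals).1 h2).2.2)
    have h2 := sum_finrank_le ρ ψ fr hψ H (by omega : 0 < m) (fr.vals 0 (Q y) ∪ fr.vals 0 (Q y₀))
      fun z hz => by
        rcases Finset.mem_union.1 hz with hz | hz <;>
          exact ⟨((fr.mem_vals).1 hz).1, ((fr.mem_vals).1 hz).2.1⟩
    rw [Finset.sum_union hdisj] at h2
    have e1 : ∀ (x : V), x ∈ fr.W 1 → x ≠ 0 → 1 ≤ finrank ℂ (Eig ρ ψ fr 0 x) →
        (fr.vals 0 (Q x)).card ≤ ∑ z ∈ fr.vals 0 (Q x), finrank ℂ (Eig ρ ψ fr 0 z) := by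
      intro x hx' hx0 hx1
      rw [Finset.card_eq_sum_ones]
      refine Finset.sum_le_sum fun z hz => ?_
      obtain ⟨a1, a2, a3⟩ := (fr.mem_vals).1 hz
      rw [hconst x hx' hx0 z a1 a2 a3]
      exact hx1
    have := e1 y hy hy0 hd'
    have := e1 y₀ hy₀ hy₀0 hd
    have := hM (Q y)
    have := hM (Q y₀)
    omega
  refine ⟨Q y₀, fun h4 => ?_, ⟨fun j hj y hy hy0 => ?_, fun j hj y hy hy0 hq => ?_⟩, fun y hy => ?_⟩
  · by_contra hc0
    obtain ⟨s, hs0, hs⟩ : ∃ s : F, s ≠ 0 ∧ s * s ≠ 1 := by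
      by_contra hcon
      push Not at hcon
      have hsub : (Finset.univ : Finset F) ⊆ ({0, 1, -1} : Finset F) := fun x _ => by
        rcases eq_or_ne x 0 with h | h
        · simp [h]
        · rcases mul_self_eq_one_iff.1 (hcon x h) with h | h <;> simp [h]
      have := (Finset.card_le_card hsub).trans Finset.card_le_three
      rw [Finset.card_univ] at this
      omega
    have h0 : 0 < m := by omega
    have h1 : 1 < m := by omega
    have o := fr.orth 0 1 h0 h1 (by omega)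
    obtain ⟨g, ga, gb, -, -, -⟩ := exists_torus2 H (fr.pair 0 h0) (fr.pair 1 h1) o.1 o.2 hs0
    have hsc : fr.Scales 1 g := fr.scales_of fun i hi => by
      obtain rfl : i = 0 := by omega
      exact ⟨s, s⁻¹, hs0, inv_ne_zero hs0, ga, gb⟩
    have hle := finrank_Eig_map ρ ψ fr H h0 hsc hs0 ga y₀
    have hW : s⁻¹ • act g y₀ ∈ fr.W 1 := Submodule.smul_mem _ _ ((hsc 0 (by omega)).2 y₀ hy₀)
    have hQ : Q (s⁻¹ • act g y₀) = s⁻¹ * s⁻¹ * Q y₀ := by
      rw [QuadraticMap.map_smul, act_quad, smul_eq_mul]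
    have hne0 : s⁻¹ • act g y₀ ≠ 0 := fun e => hc0 (by
      have := hQ
      rw [e, QuadraticMap.map_zero] at this
      simpa [hs0] using this.symm)
    have := honly _ hW hne0 (fun e => by
      rw [hQ] at e
      refine hs ?_
      have := mul_right_cancel₀ hc0 (e.trans (one_mul _).symm)
      field_simp at this
      linear_combination -this)
    rw [this, finrank_bot] at hle
    omega
  · exact finrank_le_all ρ ψ fr hψ H (Q y) 1 (fun z hz hz0 _ => hone z hz hz0) j hj y hy hy0 rfl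
  · refine Submodule.finrank_eq_zero.1 (Nat.le_zero.1 ?_)
    exact finrank_le_all ρ ψ fr hψ H (Q y) 0 (fun z hz hz0 hzq => by
      rw [honly z hz hz0 (hzq ▸ hq), finrank_bot]) j hj y hy hy0 rfl
  · obtain ⟨h1, h2, h3⟩ := (fr.mem_vals).1 hy
    have := hone y h1 h2
    rw [hconst y₀ hy₀ hy₀0 y h1 h2 h3] at this ⊢
    omega

/-- Counting the levels. -/
theorem sum_levels_le (H : Hyp Q) (c : F) (J : ℕ) (hJ : J ≤ m)
    (h : ∀ j, j < J → ∀ y ∈ fr.vals j c, Eig ρ ψ fr j y ≠ ⊥) :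
    ∑ j ∈ Finset.range J, (fr.vals j c).card + finrank ℂ (Cs ρ fr J) ≤ finrank ℂ E := by
  induction J with
  | zero => rw [Finset.sum_range_zero, Cs_zero, finrank_top, zero_add]
  | succ J ih =>
    have h1 := card_mul_le ρ ψ fr hψ H (by omega : J < m) c 1
      fun y hy => Submodule.one_le_finrank_iff.2 (h J (by omega) y hy)
    rw [Finset.sum_range_succ]
    have := ih (by omega) fun j hj => h j (by omega)
    omega

/-- One step down, one vector. -/
theorem Eig_ne_bot_down (H : Hyp Q) {c : F} (T : Thin ρ ψ fr c) {j : ℕ} (hj : j + 1 < m) {y : V}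
    (hy : y ∈ fr.W (j + 2)) (hy0 : y ≠ 0) (hne : Eig ρ ψ fr j y ≠ ⊥)
    (h1 : finrank ℂ (Eig ρ ψ fr j y) = 1 → ∀ w ∈ fr.W (j + 2), B w y = 0 →
      Trivial' ρ ψ fr j y (fr.a (j + 1)) w)
    (h2 : c = 0 → ∀ r : F, r ≠ 0 → finrank ℂ (Eig ρ ψ fr j (r • fr.a (j + 1))) = 1 →
      ∀ w ∈ fr.W (j + 2), Trivial' ρ ψ fr j (r • fr.a (j + 1)) (fr.a (j + 1)) w) :
    Eig ρ ψ fr (j + 1) y ≠ ⊥ := by
  obtain ⟨u, hu, hu0⟩ := (Submodule.ne_bot_iff _).1 hne
  refine Eig_down ρ ψ fr hψ H hj hy hy0 hu hu0 (fun w hw hwy => ?_) (fun r hr w hw v hv => ?_)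
  · exact h1 (le_antisymm (T.le_one j (by omega) y (fr.W_mono (by omega) hy) hy0)
      (Submodule.one_le_finrank_iff.2 hne)) w hw hwy u hu
  · have haW := Submodule.smul_mem _ r (fr.a_mem hj (le_refl (j + 1)))
    have ha0 : r • fr.a (j + 1) ≠ 0 := fun e => hr (by
      have := congrArg (B (fr.b (j + 1))) e
      simpa [QuadraticMap.polar_smul_right, fr.ba hj] using this)
    have hq : Q (r • fr.a (j + 1)) = 0 := by rw [QuadraticMap.map_smul, fr.quad_a hj, smul_zero]
    rcases eq_or_ne c 0 with hc | hc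
    · exact trivial_le_one ρ ψ fr (T.le_one j (by omega) _ haW ha0) (fun e => h2 hc r hr e w hw) v hv
    · rw [T.only j (by omega) _ haW ha0 (by rw [hq]; exact hc.symm), Submodule.mem_bot] at hv
      rw [hv, map_zero]

/-- All singular characters occur at all levels when the torus is large. -/
theorem levels_torus (H : Hyp Q) (hF : 4 ≤ Fintype.card F) (T : Thin ρ ψ fr (0 : F))
    (h0 : ∀ y ∈ fr.vals 0 (0 : F), Eig ρ ψ fr 0 y ≠ ⊥) :
    ∀ j, j < m → ∀ y ∈ fr.vals j (0 : F), Eig ρ ψ fr j y ≠ ⊥ := by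
  intro j
  induction j with
  | zero => exact fun _ => h0
  | succ j ih =>
    intro hj y hy
    obtain ⟨hyW, hy0, hyq⟩ := (fr.mem_vals).1 hy
    have hjm : j < m := by omega
    refine Eig_ne_bot_down ρ ψ fr hψ H T hj hyW hy0
      (ih hjm y ((fr.mem_vals).2 ⟨fr.W_mono (by omega) hyW, hy0, hyq⟩)) (fun e w hw hwy => ?_)
      (fun _ r hr e w hw => trivial_of_self ρ ψ fr H (by omega) hj e hw)
    exact trivial_of_torus ρ ψ H hjm (fr.W_mono (by omega) hyW) hF e hj le_rfl rfl
      (fr.polar_b (by omega : j + 1 < j + 2) hyW)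
      ⟨fr.a_mem hj le_rfl, fr.quad_a hj, fr.polar_a (by omega : j + 1 < j + 2) hyW,
        fr.W_mono (by omega) hw, by rw [QuadraticMap.polar_comm]; exact hwy,
        fr.polar_a (by omega : j + 1 < j + 2) hw⟩

/-- The last step of the descent over an anisotropic kernel. -/
theorem trivial_last (H : Hyp Q) (hani : ∀ z ∈ fr.W m, Q z = 0 → z = 0) (T : Thin ρ ψ fr (0 : F))
    {j : ℕ} (hj : j + 3 = m) (h1 : finrank ℂ (Eig ρ ψ fr j (fr.a (j + 2))) = 1) {w : V}
    (hw : w ∈ fr.W (j + 2)) (hwy : B w (fr.a (j + 2)) = 0) :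
    Trivial' ρ ψ fr j (fr.a (j + 2)) (fr.a (j + 1)) w := by
  classical
  letI := Fintype.ofFinite (fr.W (j + 2))
  intro u hu
  rcases eq_or_ne u 0 with rfl | hu0
  · rw [map_zero]
  set cc := fr.a (j + 2) with hcc
  have hc : cc ∈ fr.W (j + 2) := fr.a_mem (by omega) le_rfl
  have hd : fr.b (j + 2) ∈ fr.W (j + 2) := fr.b_mem (by omega) le_rfl
  have hcd : B cc (fr.b (j + 2)) = 1 := fr.ab (by omega)
  have haW := fr.a_mem (by omega : j + 1 < m) (le_refl (j + 1))
  have hsit : ∀ v ∈ fr.W (j + 2), B cc v = 0 → Sit fr j cc (fr.a (j + 1)) v := fun v hv hcv =>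
    ⟨haW, fr.quad_a (by omega), fr.aa (by omega) (by omega), fr.W_mono (by omega) hv, hcv,
      fr.polar_a (by omega : j + 1 < j + 2) hv⟩
  obtain ⟨ζ, hζ, hζne⟩ : ∃ ζ ∈ fr.W (j + 2), prj ρ ψ fr (j + 1) ζ u ≠ 0 := by
    by_contra hcon
    push Not at hcon
    exact hu0 (eq_zero_of_prj ρ ψ fr hψ H (by omega) hcon)
  have hscal : ∀ v ∈ fr.W (j + 2), B cc v = 0 → op ρ (fr.a (j + 1)) v u = ψ (B ζ v) • u := by
    intro v hv hcv
    obtain ⟨s, hs⟩ := exists_scalar ρ ψ h1 hu hu0
      (op_mem ρ ψ H (by omega) (fr.W_mono (by omega) hc) (hsit v hv hcv) hu)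
    rw [← hs]
    congr 1
    by_contra hne
    exact hζne (prj_ne_char ρ ψ fr hψ H (by omega) hv hs.symm (Ne.symm hne))
  have hsing : ∀ t : F, Q (ζ + t • cc) = 0 := by
    intro t
    obtain ⟨r, hr⟩ := exists_ext ρ ψ fr hψ H (by omega : j + 1 < m) hc hd hcd
      (add_mem hζ (Submodule.smul_mem _ t hc)) hu hu0 (fun v hv hcv => by
        rw [hscal v hv hcv, QuadraticMap.polar_add_left, QuadraticMap.polar_smul_left, hcv, smul_zero,
          add_zero])
    by_contra hq
    have hW2 : ζ + t • cc ∈ fr.W (j + 2) := add_mem hζ (Submodule.smul_mem _ t hc)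
    have hQ : Q (-(ζ + t • cc) + r • fr.a (j + 1)) = Q (ζ + t • cc) := by
      rw [quad_add, QuadraticMap.map_neg, QuadraticMap.map_smul, fr.quad_a (by omega : j + 1 < m),
        QuadraticMap.polar_neg_left, QuadraticMap.polar_smul_right,
        QuadraticMap.polar_comm _ (ζ + t • cc), fr.polar_a (by omega : j + 1 < j + 2) hW2]
      simp
    refine hr (T.only j (by omega) _ (add_mem (neg_mem (fr.W_mono (by omega) hW2))
      (Submodule.smul_mem _ _ haW)) (fun e => hq ?_) (by rw [hQ]; exact hq))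
    rw [← hQ, e, QuadraticMap.map_zero]
  have hq0 : Q ζ = 0 := by simpa using hsing 0
  have hq1 := hsing 1
  rw [one_smul, quad_add, hq0, hcc, fr.quad_a (by omega), zero_add, zero_add] at hq1
  have hp := fr.proj_mem (by omega : j + 2 < m) hζ
  have hm' : fr.W (j + 3) = fr.W m := by rw [hj]
  have hdec := fr.decomp (j + 2) ζ
  rw [QuadraticMap.polar_comm _ (fr.a (j + 2)), hq1, zero_smul, add_zero] at hdec
  have hproj : fr.proj (j + 2) ζ = 0 := by
    refine hani _ (hm' ▸ hp) ?_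
    have := hq0
    rw [hdec, quad_add, QuadraticMap.map_smul, fr.quad_a (by omega : j + 2 < m),
      QuadraticMap.polar_smul_left, fr.polar_a (by omega : j + 2 < j + 3) hp] at this
    simpa using this
  rw [hproj, add_zero] at hdec
  rw [hscal w hw (by rw [QuadraticMap.polar_comm]; exact hwy), hdec, QuadraticMap.polar_smul_left,
    QuadraticMap.polar_comm _ _ w, hwy, smul_zero, AddChar.map_zero_eq_one, one_smul]

/-- All singular characters occur at all but the last level over an anisotropic kernel. -/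
theorem levels_singular (H : Hyp Q) (hm : 3 ≤ m) (hani : ∀ z ∈ fr.W m, Q z = 0 → z = 0)
    {s t : V} (hs : s ∈ fr.W m) (ht : t ∈ fr.W m) (hst : B s t ≠ 0) (T : Thin ρ ψ fr (0 : F))
    (h0 : ∀ y ∈ fr.vals 0 (0 : F), Eig ρ ψ fr 0 y ≠ ⊥) :
    ∀ j, j + 1 < m → ∀ y ∈ fr.vals j (0 : F), Eig ρ ψ fr j y ≠ ⊥ := by
  have ha0 : ∀ i, i < m → fr.a i ≠ 0 := fun i hi e => by
    have := fr.ba hi
    simp [e] at this
  have hWne : ∀ i, i ≤ m → fr.W i ≠ ⊥ := fun i hi e => hst (by
    have : s ∈ (⊥ : Submodule F V) := e ▸ fr.W_mono hi hs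
    rw [(Submodule.mem_bot F).1 this, QuadraticMap.polar_zero_left])
  intro j
  induction j with
  | zero => exact fun _ => h0
  | succ j ih =>
    intro hj z hz
    obtain ⟨hzW, hz0, hzq⟩ := (fr.mem_vals).1 hz
    set y := fr.a (m - 1) with hy
    have hyW : y ∈ fr.W (j + 2) := fr.a_mem (by omega) (by omega)
    have hyq : Q y = 0 := fr.quad_a (by omega)
    have hy0 : y ≠ 0 := ha0 _ (by omega)
    have haW := fr.a_mem (by omega : j + 1 < m) (le_refl (j + 1))
    have hne : Eig ρ ψ fr (j + 1) y ≠ ⊥ := by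
      refine Eig_ne_bot_down ρ ψ fr hψ H T (by omega) hyW hy0
        (ih (by omega) y ((fr.mem_vals).2 ⟨fr.W_mono (by omega) hyW, hy0, hyq⟩)) (fun e w hw hwy => ?_)
        (fun _ r hr e w hw => ?_)
      · rcases Nat.lt_or_ge (j + 3) m with h | h
        · have hl : j + 2 < m := by omega
          have hsit : ∀ v ∈ fr.W (j + 2), B y v = 0 → Sit fr j y (fr.a (j + 1)) v := fun v hv hyv =>
            ⟨haW, fr.quad_a (by omega), fr.aa (by omega) (by omega), fr.W_mono (by omega) hv, hyv,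
              fr.polar_a (by omega : j + 1 < j + 2) hv⟩
          exact trivial_of_room ρ ψ H (by omega) (fr.W_mono (by omega) hyW) e hl (by omega)
            (fr.aa hl (by omega)) ((fr.orth (j + 2) (j + 1) hl (by omega) (by omega)).1.2)
            (fr.aa hl (by omega)) ((fr.orth (j + 2) (m - 1) hl (by omega) (by omega)).1.2)
            (hsit s (fr.W_mono (by omega) hs) (fr.polar_a (by omega : m - 1 < m) hs))
            (hsit t (fr.W_mono (by omega) ht) (fr.polar_a (by omega : m - 1 < m) ht))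
            ⟨fr.polar_a (by omega) hs, fr.polar_b (by omega) hs⟩
            ⟨fr.polar_a (by omega) ht, fr.polar_b (by omega) ht⟩ hst
            (hsit w hw (by rw [QuadraticMap.polar_comm]; exact hwy))
        · have hy' : y = fr.a (j + 2) := by rw [hy]; congr 1; omega
          rw [hy'] at e hwy ⊢
          exact trivial_last ρ ψ fr hψ H hani T (by omega) e hw hwy
      · have hl : m - 1 < m := by omega
        have hsit : ∀ v ∈ fr.W (j + 2), Sit fr j (r • fr.a (j + 1)) (fr.a (j + 1)) v := fun v hv =>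
          ⟨haW, fr.quad_a (by omega), by rw [QuadraticMap.polar_smul_right, fr.aa (by omega) (by omega), smul_zero],
            fr.W_mono (by omega) hv,
            by rw [QuadraticMap.polar_smul_left, fr.polar_a (by omega : j + 1 < j + 2) hv, smul_zero],
            fr.polar_a (by omega : j + 1 < j + 2) hv⟩
        have o := fr.orth (m - 1) (j + 1) hl (by omega) (by omega)
        exact trivial_of_room ρ ψ H (by omega) (Submodule.smul_mem _ _ haW) e hl (by omega)
          o.1.1 o.1.2 (by rw [QuadraticMap.polar_smul_right, o.1.1, smul_zero])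
          (by rw [QuadraticMap.polar_smul_right, o.1.2, smul_zero])
          (hsit s (fr.W_mono (by omega) hs)) (hsit t (fr.W_mono (by omega) ht))
          ⟨fr.polar_a (by omega) hs, fr.polar_b (by omega) hs⟩
          ⟨fr.polar_a (by omega) ht, fr.polar_b (by omega) ht⟩ hst (hsit w hw)
    intro hbot
    have h2 := finrank_Eig_const ρ ψ fr H hm hj (hWne _ (by omega)) hzW hz0 hyW hy0 (by rw [hyq, hzq])
    rw [hbot, finrank_bot] at h2
    exact hne (Submodule.finrank_eq_zero.1 h2)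

/-- A single non-singular value descends to all but the last two levels. -/
theorem levels_value (H : Hyp Q) (hm : 3 ≤ m) {s t : V} (hs : s ∈ fr.W m) (ht : t ∈ fr.W m)
    (hst : B s t ≠ 0) {c : F} (hc : c ≠ 0) (T : Thin ρ ψ fr c)
    (h0 : ∀ y ∈ fr.vals 0 c, Eig ρ ψ fr 0 y ≠ ⊥) :
    ∀ j, j + 2 < m → ∀ y ∈ fr.vals j c, Eig ρ ψ fr j y ≠ ⊥ := by
  have hWne : ∀ i, i ≤ m → fr.W i ≠ ⊥ := fun i hi e => hst (by
    have : s ∈ (⊥ : Submodule F V) := e ▸ fr.W_mono hi hs
    rw [(Submodule.mem_bot F).1 this, QuadraticMap.polar_zero_left])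
  intro j
  induction j with
  | zero => exact fun _ => h0
  | succ j ih =>
    intro hj z hz
    obtain ⟨hzW, hz0, hzq⟩ := (fr.mem_vals).1 hz
    have hl : j + 2 < m := by omega
    have hlast : m - 1 < m := by omega
    set y := c • fr.a (m - 1) + fr.b (m - 1) with hy
    have hyW : y ∈ fr.W (j + 2) := add_mem (Submodule.smul_mem _ _ (fr.a_mem hlast (by omega)))
      (fr.b_mem hlast (by omega))
    have hyq : Q y = c := by
      rw [hy, quad_add, QuadraticMap.map_smul, fr.quad_a hlast, fr.quad_b hlast,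
        QuadraticMap.polar_smul_left, fr.ab hlast]
      simp
    have hy0 : y ≠ 0 := fun e => hc (by rw [← hyq, e, QuadraticMap.map_zero])
    have haW := fr.a_mem (by omega : j + 1 < m) (le_refl (j + 1))
    have hperp : ∀ v ∈ fr.W m, B y v = 0 := fun v hv => by
      rw [hy, QuadraticMap.polar_add_left, QuadraticMap.polar_smul_left, fr.polar_a hlast hv,
        fr.polar_b hlast hv, smul_zero, zero_add]
    have hne : Eig ρ ψ fr (j + 1) y ≠ ⊥ := by
      refine Eig_ne_bot_down ρ ψ fr hψ H T (by omega) hyW hy0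
        (ih (by omega) y ((fr.mem_vals).2 ⟨fr.W_mono (by omega) hyW, hy0, hyq⟩)) (fun e w hw hwy => ?_)
        (fun h => absurd h hc)
      have hsit : ∀ v ∈ fr.W (j + 2), B y v = 0 → Sit fr j y (fr.a (j + 1)) v := fun v hv hyv =>
        ⟨haW, fr.quad_a (by omega), fr.polar_a (by omega : j + 1 < j + 2) hyW, fr.W_mono (by omega) hv,
          hyv, fr.polar_a (by omega : j + 1 < j + 2) hv⟩
      have o := fr.orth (j + 2) (m - 1) hl hlast (by omega)
      exact trivial_of_room ρ ψ H (by omega) (fr.W_mono (by omega) hyW) e hl (by omega)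
        (fr.aa hl (by omega)) ((fr.orth (j + 2) (j + 1) hl (by omega) (by omega)).1.2)
        (by rw [hy, QuadraticMap.polar_add_right, QuadraticMap.polar_smul_right, o.1.1, o.2.1, smul_zero,
          zero_add])
        (by rw [hy, QuadraticMap.polar_add_right, QuadraticMap.polar_smul_right, o.1.2, o.2.2, smul_zero,
          zero_add])
        (hsit s (fr.W_mono (by omega) hs) (hperp s hs)) (hsit t (fr.W_mono (by omega) ht) (hperp t ht))
        ⟨fr.polar_a (by omega) hs, fr.polar_b (by omega) hs⟩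
        ⟨fr.polar_a (by omega) ht, fr.polar_b (by omega) ht⟩ hst
        (hsit w hw (by rw [QuadraticMap.polar_comm]; exact hwy))
    intro hbot
    have h2 := finrank_Eig_const ρ ψ fr H hm (by omega) (hWne _ (by omega)) hzW hz0 hyW hy0
      (by rw [hyq, hzq])
    rw [hbot, finrank_bot] at h2
    exact hne (Submodule.finrank_eq_zero.1 h2)

end Cfsg.Agent.Lie.OrthDeg
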