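import Cfsg.Agent.Lib.Lie.OrthDeg.Prep
import Cfsg.Agent.Lib.Lie.OrthDeg.Indep

/-! The bound on degrees over a frame with an anisotropic plane as kernel. -/

set_option autoImplicit false
set_option linter.unusedSectionVars false
set_option quotPrecheck false

noncomputable section

namespace Cfsg.Agent.Lie.OrthDeg

open Matrix Module Cfsg.Agent.Classical Cfsg.Agent.Classical.OrthAut

universe u v

variable {F : Type u} [Field F] [Fintype F] {ι : Type} [Fintype ι] [DecidableEq ι]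
  {Q : QuadraticForm F (ι → F)} {m : ℕ}
variable {E : Type v} [AddCommGroup E] [Module ℂ E] [FiniteDimensional ℂ E]

local notation "V" => (ι → F)
local notation "B" => QuadraticMap.polar ⇑Q
local notation "Om" => Omega F ⇑Q

omit [Fintype F] [Fintype ι] [DecidableEq ι] in
theorem minus_small {q : ℤ} (hq : 2 ≤ q) (M : ℕ) :
    ∑ k ∈ Finset.range M, (q ^ (2 * (k + 1) + 1) + q ^ (k + 1) - q ^ (k + 1 + 1)) ≤ 2 * q ^ (2 * M + 1) := by
  induction M with
  | zero => simp; omega
  | succ M ih =>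
    rw [Finset.sum_range_succ]
    have h5 : q ^ (M + 1 + 1) = q * q ^ (M + 1) := by ring
    have h3 : 0 < q ^ (M + 1) := pow_pos (by omega) _
    have h6 : q ^ (2 * (M + 1) + 1) = q * q * q ^ (2 * M + 1) := by ring
    have h7 : 0 < q ^ (2 * M + 1) := pow_pos (by omega) _
    nlinarith [mul_le_mul_of_nonneg_right (by nlinarith : (4 : ℤ) ≤ q * q) h7.le,
      mul_le_mul_of_nonneg_right hq h3.le]

/-- The exceptional small cases. -/
theorem minus_exception (H : Hyp Q) (fr : Frame Q m) (ψ : AddChar F ℂ) (hψ : ψ ≠ 1)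
    (ρ : Representation ℂ (Omega F ⇑Q) E) [ρ.IsIrreducible] (hm : 3 ≤ m)
    (hcard : Nat.card (fr.W m) = Fintype.card F ^ 2) (h0 : fr.num m 0 = 1)
    (hN : ∀ c : F, c ≠ 0 → fr.num m c = Fintype.card F + 1)
    (T : Thin ρ ψ fr (0 : F)) (hone : ∀ y ∈ fr.vals 0 (0 : F), finrank ℂ (Eig ρ ψ fr 0 y) = 1)
    (hex : (m = 3 ∧ (Fintype.card F = 2 ∨ Fintype.card F = 4)) ∨
      (m = 4 ∧ (Fintype.card F = 2 ∨ Fintype.card F = 3)))
    (hlow : ∑ j ∈ Finset.range (m - 1), (fr.vals j (0 : F)).card + finrank ℂ (Cs ρ fr (m - 1)) ≤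
      finrank ℂ E) :
    ∑ j ∈ Finset.range (m - 1), fr.num (j + 1) 0 ≤ finrank ℂ E := by
  classical
  by_contra hk
  have hnum := fr.num_minus hcard h0 hN
  have hidx := index_root fr H (by omega : 2 ≤ m)
  set L := (Subgroup.centralizer ({elt (fr.a 0) (fr.a 1)} : Set Om)).index
  have hdvd := degree_dvd_root ρ ψ fr hψ H (by omega : 2 ≤ m) T hone (L := L) hidx
  rw [fr.card_W (m - 2) 2 (by omega), hcard] at hdvd
  have hv : ∀ j, ((fr.vals j (0 : F)).card : ℤ) = (fr.num (j + 1) 0 : ℤ) - 1 := fr.card_vals_zero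
  have e0 := (hnum m 0 (by omega)).1
  have e1 := (hnum (m - 1) 1 (by omega)).1
  have e2 := (hnum (m - 2) 2 (by omega)).1
  have hdim : ∀ b : ℕ, b < finrank ℂ E → finrank ℂ E < b + 4 →
      finrank ℂ E = b + 1 ∨ finrank ℂ E = b + 2 ∨ finrank ℂ E = b + 3 := fun b h1 h2 => by omega
  rcases hex with ⟨rfl, hq⟩ | ⟨rfl, hq⟩
  · simp only [Nat.reduceSub, Finset.sum_range_succ, Finset.range_zero, Finset.sum_empty, zero_add,
      Nat.reduceAdd] at hk hlow e1 e2 hdvd
    have v0 := hv 0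
    have v1 := hv 1
    simp only [Nat.reduceAdd] at v0 v1
    rcases hq with hq | hq <;> rw [hq] at e0 e1 e2 hdvd hidx <;> norm_num at e0 e1 e2 hdvd
    · -- the form of dimension eight over two elements
      have n0 : fr.num 0 0 = 120 := by exact_mod_cast e0
      have n1 : fr.num 1 0 = 28 := by exact_mod_cast e1
      have n2 : fr.num 2 0 = 6 := by exact_mod_cast e2
      rw [n0, n1] at hidx
      norm_num at hidx
      have hL : L = 1071 := by omega
      rw [hL] at hdvd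
      rcases (by omega : finrank ℂ E = 32 ∨ finrank ℂ E = 33) with h | h
      swap
      · rw [h] at hdvd
        norm_num at hdvd
      have hC2 : Cs ρ fr 2 = ⊥ := Submodule.finrank_eq_zero.1 (by omega)
      have h5 : 5 ≤ finrank ℂ (Cs ρ fr 1) := by
        have e := trace_op ρ ψ fr hψ H (by omega : 0 < 3) (zero_mem (fr.W 1))
        rw [sum_thin ρ ψ fr T (by omega) rfl hone (fun y => ψ (B y 0)), op_zero ρ H (fr.quad_a (by omega)),
          LinearMap.trace_one] at e
        simp only [QuadraticMap.polar_zero_right, AddChar.map_zero_eq_one, one_mul, Finset.sum_const,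
          nsmul_eq_mul, mul_one] at e
        have e' : finrank ℂ E = finrank ℂ (Cs ρ fr 1) + (fr.vals 0 (0 : F)).card := by exact_mod_cast e
        omega
      have := seven_le ρ ψ fr H (by omega) hq hC2
      omega
    · have n0 : fr.num 0 0 = 16192 := by exact_mod_cast e0
      have n1 : fr.num 1 0 = 976 := by exact_mod_cast e1
      have n2 : fr.num 2 0 = 52 := by exact_mod_cast e2
      rw [n0, n1] at hidx
      norm_num at hidx
      have hL : L = 1052415 := by omega
      rw [hL] at hdvd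
      rcases (by omega : finrank ℂ E = 1026 ∨ finrank ℂ E = 1027) with h | h <;> rw [h] at hdvd <;>
        norm_num at hdvd
  · simp only [Nat.reduceSub, Finset.sum_range_succ, Finset.range_zero, Finset.sum_empty, zero_add,
      Nat.reduceAdd] at hk hlow e1 e2 hdvd
    have e3 := (hnum 1 3 (by omega)).1
    have v0 := hv 0
    have v1 := hv 1
    have v2 := hv 2
    simp only [Nat.reduceAdd] at v0 v1 v2
    rcases hq with hq | hq <;> rw [hq] at e0 e1 e2 e3 hdvd hidx <;> norm_num at e0 e1 e2 e3 hdvd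
    · have n0 : fr.num 0 0 = 496 := by exact_mod_cast e0
      have n1 : fr.num 1 0 = 120 := by exact_mod_cast e1
      have n2 : fr.num 2 0 = 28 := by exact_mod_cast e2
      have n3 : fr.num 3 0 = 6 := by exact_mod_cast e3
      rw [n0, n1] at hidx
      norm_num at hidx
      have hL : L = 19635 := by omega
      rw [hL] at hdvd
      rcases hdim 150 (by omega) (by omega) with h | h | h <;> rw [h] at hdvd <;> norm_num at hdvd
    · have n0 : fr.num 0 0 = 19521 := by exact_mod_cast e0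
      have n1 : fr.num 1 0 = 2133 := by exact_mod_cast e1
      have n2 : fr.num 2 0 = 225 := by exact_mod_cast e2
      have n3 : fr.num 3 0 = 21 := by exact_mod_cast e3
      rw [n0, n1] at hidx
      norm_num at hidx
      have hL : L = 5202080 := by omega
      rw [hL] at hdvd
      rcases hdim 2375 (by omega) (by omega) with h | h | h <;> rw [h] at hdvd <;> norm_num at hdvd

/-- The degree bound for forms of minus type. -/
theorem minus_bound (H : Hyp Q) (fr : Frame Q m) (hm : 3 ≤ m)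
    (hani : ∀ z ∈ fr.W m, Q z = 0 → z = 0) (hcard : Nat.card (fr.W m) = Fintype.card F ^ 2)
    (hN : ∀ c : F, c ≠ 0 → fr.num m c = Fintype.card F + 1)
    (ρ : Representation ℂ (Omega F ⇑Q) E) [ρ.IsIrreducible] {g₀ : Om} (hg₀ : ρ g₀ ≠ 1) :
    (Fintype.card F ^ (m + 1) + 1) * (Fintype.card F ^ m - Fintype.card F) / (Fintype.card F ^ 2 - 1) ≤
      finrank ℂ E := by
  classical
  obtain ⟨ψ, hψ1⟩ := (AddChar.exists_apply_ne_zero (a := (1 : F))).2 one_ne_zero
  have hψ : ψ ≠ 1 := fun e => hψ1 (by rw [e]; rfl)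
  have h0 : fr.num m 0 = 1 := Nat.card_eq_one_iff_unique.2
    ⟨⟨fun x y => Subtype.ext (Subtype.ext ((hani x.1 x.1.2 x.2).trans (hani y.1 y.1.2 y.2).symm))⟩,
      ⟨⟨0, by simp⟩⟩⟩
  set q := Fintype.card F with hqdef
  have hq2 : 2 ≤ q := Fintype.one_lt_card
  have hq : (2 : ℤ) ≤ q := by exact_mod_cast hq2
  obtain ⟨s, hs, hs0⟩ : ∃ s ∈ fr.W m, s ≠ 0 := by
    by_contra hcon
    push Not at hcon
    have : Nat.card (fr.W m) = 1 := Nat.card_eq_one_iff_unique.2
      ⟨⟨fun x y => Subtype.ext ((hcon x x.2).trans (hcon y y.2).symm)⟩, ⟨0⟩⟩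
    rw [hcard] at this
    have := Nat.pow_le_pow_left hq2 2
    omega
  obtain ⟨t, ht, hst⟩ : ∃ t ∈ fr.W m, B s t ≠ 0 := by
    by_contra hcon
    push Not at hcon
    exact hs0 (fr.nondeg H le_rfl hs hcon)
  obtain ⟨M, rfl⟩ : ∃ M, m = M + 2 := ⟨m - 2, by omega⟩
  have hnum := fr.num_minus hcard h0 hN
  rw [← hqdef] at hnum
  let f : ℕ → ℤ := fun k => (q : ℤ) ^ (2 * (k + 1) + 1) + (q : ℤ) ^ (k + 1) - (q : ℤ) ^ (k + 1 + 1)
  have hfj : ∀ j, j < M + 1 → (fr.num (j + 1) 0 : ℤ) = f (M + 1 - 1 - j) := fun j hj => by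
    rw [(hnum (M + 1 - j) (j + 1) (by omega)).1]
    simp only [f]
    rw [show M + 1 - 1 - j + 1 = M + 1 - j by omega]
  have hSf : ((∑ j ∈ Finset.range (M + 1), fr.num (j + 1) 0 : ℕ) : ℤ) = ∑ k ∈ Finset.range (M + 1), f k := by
    push_cast
    exact sum_levels_eq _ f (M + 1) hfj
  set S := ∑ j ∈ Finset.range (M + 1), fr.num (j + 1) 0 with hS
  have hbound : (q ^ (M + 2 + 1) + 1) * (q ^ (M + 2) - q) / (q ^ 2 - 1) = S := by
    have h1 : (q ^ (M + 2 + 1) + 1) * (q ^ (M + 2) - q) = (q ^ 2 - 1) * S := by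
      have e1 : q ≤ q ^ (M + 2) := Nat.le_self_pow (by omega) q
      have e2 : 1 ≤ q ^ 2 := Nat.one_le_pow _ _ (by omega)
      zify [e1, e2]
      rw [hSf]
      exact (sum_minus (q : ℤ) (M + 1)).symm
    rw [h1, Nat.mul_div_cancel_left _ (by
      have := Nat.pow_le_pow_left hq2 2
      omega)]
  rw [hbound]
  by_contra hk
  have e1 := hnum (M + 1) 1 (by omega)
  -- the top level
  set Mtop := (fr.vals 0 (0 : F)).card with hMtop
  have htop : ∀ c : F, Mtop ≤ (fr.vals 0 c).card := by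
    intro c
    rcases eq_or_ne c 0 with rfl | hc
    · exact le_rfl
    zify
    rw [hMtop, fr.card_vals_zero, fr.card_vals_ne 0 hc, zero_add, e1.1, e1.2 c hc]
    have : (0 : ℤ) ≤ (q : ℤ) ^ (M + 1 + 1) := by positivity
    omega
  have hk2 : finrank ℂ E < 2 * Mtop := by
    zify
    rw [hMtop, fr.card_vals_zero, zero_add, e1.1]
    have hkS : (finrank ℂ E : ℤ) < (S : ℤ) := by exact_mod_cast Nat.lt_of_not_le hk
    rw [hSf, Finset.sum_range_succ] at hkS
    have h1 : ∑ k ∈ Finset.range M, f k ≤ 2 * (q : ℤ) ^ (2 * M + 1) := minus_small hq M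
    simp only [f] at hkS h1
    have h6 : (q : ℤ) ^ (2 * (M + 1) + 1) = (q : ℤ) * q * (q : ℤ) ^ (2 * M + 1) := by ring
    have h7 : (2 : ℤ) ≤ (q : ℤ) ^ (2 * M + 1) := le_trans hq (le_self_pow₀ (by omega) (by omega))
    have h8 : (q : ℤ) ^ (M + 1 + 1) ≤ (q : ℤ) ^ (2 * M + 1) := pow_le_pow_right₀ (by omega) (by omega)
    have h9 : 4 * (q : ℤ) ^ (2 * M + 1) ≤ (q : ℤ) * q * (q : ℤ) ^ (2 * M + 1) :=
      mul_le_mul_of_nonneg_right (by nlinarith) (by omega)
    have h10 : (1 : ℤ) ≤ (q : ℤ) ^ (M + 1) := one_le_pow₀ (by omega)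
    linarith
  have hx2 : fr.W 2 ≠ ⊥ := fun e => by
    have hs2 : s ∈ fr.W 2 := fr.W_mono (by omega) hs
    rw [e, Submodule.mem_bot] at hs2
    exact hs0 hs2
  obtain ⟨c, -, T, hone⟩ := exists_thin ρ ψ fr hψ H (by omega) hx2 hg₀ Mtop htop hk2
  have hne0 : ∀ y ∈ fr.vals 0 c, Eig ρ ψ fr 0 y ≠ ⊥ := fun y hy => by
    rw [← Submodule.one_le_finrank_iff, hone y hy]
  rcases eq_or_ne c 0 with rfl | hc
  · -- singular characters
    have hlev := levels_singular ρ ψ fr hψ H (by omega) hani hs ht hst T hne0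
    have hlow := sum_levels_le ρ ψ fr hψ H (0 : F) (M + 1) (by omega) fun j hj => hlev j (by omega)
    by_cases hex : (M + 2 = 3 ∧ (q = 2 ∨ q = 4)) ∨ (M + 2 = 4 ∧ (q = 2 ∨ q = 3))
    · exact hk (minus_exception H fr ψ hψ ρ (by omega) hcard h0 hN T hone hex hlow)
    obtain ⟨j₀, hj₀⟩ : ∃ j₀, j₀ + 3 = M + 2 := ⟨M - 1, by omega⟩
    have hya : fr.a (j₀ + 2) ∈ fr.vals j₀ (0 : F) := by
      refine (fr.mem_vals).2 ⟨fr.a_mem (by omega) (by omega), fun e => ?_, fr.quad_a (by omega)⟩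
      have := fr.ba (by omega : j₀ + 2 < M + 2)
      simp [e] at this
    obtain ⟨u, hu, hu0⟩ := (Submodule.ne_bot_iff _).1 (hlev j₀ (by omega) _ hya)
    obtain ⟨hyW, hy0, -⟩ := (fr.mem_vals).1 hya
    have hle1 := T.le_one j₀ (by omega) _ hyW hy0
    have hh1 : finrank ℂ (Eig ρ ψ fr j₀ (fr.a (j₀ + 2))) = 1 :=
      le_antisymm hle1 (Submodule.one_le_finrank_iff.2 (hlev j₀ (by omega) _ hya))
    have hd := last_Cs ρ ψ fr hψ H hj₀ T ⟨by omega, by omega⟩ hu hu0
      (fun r => trivial_last ρ ψ fr hψ H hani T hj₀ hh1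
        (Submodule.smul_mem _ _ (fr.a_mem (by omega) le_rfl))
        (by rw [QuadraticMap.polar_smul_left, fr.aa (by omega) (by omega), smul_zero]) u hu)
      (fun z hz => ⟨trivial_last ρ ψ fr hψ H hani T hj₀ hh1 (fr.W_mono (by omega) hz)
          (by rw [QuadraticMap.polar_comm]; exact fr.polar_a (by omega) hz) u hu, ?_⟩)
    · have h2 : ((∑ j ∈ Finset.range (M + 1), (fr.vals j (0 : F)).card : ℕ) : ℤ) = (S : ℤ) - (M + 1 : ℕ) := by
        push_cast
        rw [Finset.sum_congr rfl fun j _ => fr.card_vals_zero j, Finset.sum_sub_distrib, Finset.sum_const,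
          Finset.card_range, nsmul_eq_mul, mul_one, hS]
        push_cast
        ring
      rw [show M + 2 - 1 = M + 1 by omega] at hd
      omega
    · have hsit : ∀ v ∈ fr.W (j₀ + 1), B (fr.a (j₀ + 2)) v = 0 →
          Sit fr j₀ (fr.a (j₀ + 2)) (fr.a (j₀ + 2)) v := fun v hv hcv =>
        ⟨fr.a_mem (by omega) (by omega), fr.quad_a (by omega), fr.aa (by omega) (by omega), hv, hcv, hcv⟩
      have o := fr.orth (j₀ + 1) (j₀ + 2) (by omega) (by omega) (by omega)
      have hl : j₀ + 1 < M + 2 := by omega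
      exact trivial_of_room ρ ψ H (by omega) hyW hh1 hl le_rfl o.1.1 o.1.2 o.1.1 o.1.2
        (hsit s (fr.W_mono (by omega) hs) (fr.polar_a (by omega) hs))
        (hsit t (fr.W_mono (by omega) ht) (fr.polar_a (by omega) ht))
        ⟨fr.polar_a hl hs, fr.polar_b hl hs⟩ ⟨fr.polar_a hl ht, fr.polar_b hl ht⟩ hst
        (hsit z (fr.W_mono (by omega) hz) (fr.polar_a (by omega) hz)) u hu
  · -- one non-singular value
    have hlev := levels_value ρ ψ fr hψ H (by omega) hs ht hst hc T hne0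
    have hlow := sum_levels_le ρ ψ fr hψ H c M (by omega) fun j hj => hlev j (by omega)
    let g : ℕ → ℤ := fun k => (q : ℤ) ^ (2 * (k + 2) + 1) + (q : ℤ) ^ (k + 2)
    have hg : ((∑ j ∈ Finset.range M, (fr.vals j c).card : ℕ) : ℤ) = ∑ k ∈ Finset.range M, g k := by
      push_cast
      refine sum_levels_eq _ g M fun j hj => ?_
      rw [fr.card_vals_ne j hc, (hnum (M + 1 - j) (j + 1) (by omega)).2 c hc]
      simp only [g]
      rw [show M - 1 - j + 2 = M + 1 - j by omega]
    have hfg : ∑ k ∈ Finset.range (M + 1), f k ≤ ∑ k ∈ Finset.range M, g k := by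
      obtain ⟨N, rfl⟩ : ∃ N, M = N + 1 := ⟨M - 1, by omega⟩
      rw [Finset.sum_range_succ' f, Finset.sum_range_succ (fun k => g k),
        Finset.sum_range_succ (fun k => f (k + 1))]
      have hle : ∑ k ∈ Finset.range N, f (k + 1) ≤ ∑ k ∈ Finset.range N, g k :=
        Finset.sum_le_sum fun k _ => by
          simp only [f, g, show k + 1 + 1 = k + 2 from rfl]
          have : (0 : ℤ) ≤ (q : ℤ) ^ (k + 2 + 1) := by positivity
          linarith
      simp only [f, g, show N + 1 + 1 = N + 2 from rfl, zero_add] at hle ⊢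
      have h1 : (q : ℤ) ^ 3 ≤ (q : ℤ) ^ (N + 2 + 1) := pow_le_pow_right₀ (by omega) (by omega)
      have h2 : (q : ℤ) ^ 1 ≤ (q : ℤ) ^ 2 := pow_le_pow_right₀ (by omega) (by omega)
      linear_combination hle + h1 + h2
    omega

end Cfsg.Agent.Lie.OrthDeg
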