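import Cfsg.Agent.Lib.Lie.OrthDeg.PlusMain
import Cfsg.Agent.Lib.Lie.OrthDeg.MinusMain
import Cfsg.Agent.Lib.Classical.OrthGenModels
import Cfsg.Agent.Lib.Classical.OrthCount

/-! The model forms. -/

set_option autoImplicit false
set_option linter.unusedSectionVars false
set_option quotPrecheck false

noncomputable section

namespace Cfsg.Agent.Lie.OrthDeg

open Matrix Module Cfsg.Agent.Classical Cfsg.Agent.Classical.OrthAut

universe u

variable {F : Type u} [Field F] [Fintype F]

theorem hyp_plus {n : ℕ} (hn : 3 ≤ n) : Hyp (qfPlus n F) :=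
  ⟨nondegenerate_qfPlus n, tri_qfPlus hn, genQ_of_card (Or.inr (by simp; omega))⟩

theorem hyp_minus {n : ℕ} (hn : 3 ≤ n) {a b : F}
    (hab : ∀ z₁ z₂ : F, z₁ ^ 2 + a * z₁ * z₂ + b * z₂ ^ 2 = 0 → z₁ = 0 ∧ z₂ = 0) :
    Hyp (qfMinus n F a b) :=
  ⟨nondegenerate_qfMinus n hab, tri_qfMinus hn a b, genQ_of_card (Or.inr (by simp; omega))⟩

/-- The standard frame of the hyperbolic form. -/
def framePlus (n : ℕ) : Frame (qfPlus n F) n where
  a i := if h : i < n then ePlus ⟨i, h⟩ else 0
  b i := if h : i < n then fPlus ⟨i, h⟩ else 0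
  pair i hi := by simp only [hi, ↓reduceDIte]; exact pair_plus _
  orth i k hi hk hik := by
    simp only [hi, hk, ↓reduceDIte]
    exact perp_plus (fun e => hik (congrArg Fin.val e))

theorem framePlus_last (n : ℕ) :
    ∀ z ∈ (framePlus (F := F) n).W n, z = 0 := by
  intro z hz
  funext x
  rcases x with i | i
  · have h := ((framePlus (F := F) n).mem_W.1 hz i i.2).2
    simp only [framePlus, i.2, ↓reduceDIte, Fin.eta] at h
    rwa [polar_fPlus] at h
  · have h := ((framePlus (F := F) n).mem_W.1 hz i i.2).1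
    simp only [framePlus, i.2, ↓reduceDIte, Fin.eta] at h
    rwa [polar_ePlus] at h

variable {m : ℕ} {a b : F}

/-- The first half of the standard frame of the elliptic form. -/
def eMinus (j : Fin m) : (Fin m ⊕ Fin m) ⊕ Fin 2 → F := Pi.single (Sum.inl (Sum.inl j)) 1

/-- The second half of the standard frame of the elliptic form. -/
def fMinus (j : Fin m) : (Fin m ⊕ Fin m) ⊕ Fin 2 → F := Pi.single (Sum.inl (Sum.inr j)) 1

theorem polar_eMinus (j : Fin m) (x : (Fin m ⊕ Fin m) ⊕ Fin 2 → F) :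
    QuadraticMap.polar ⇑(qfMinus m F a b) (eMinus j) x = x (Sum.inl (Sum.inr j)) := by
  simp [polar_qfMinus, eMinus, Pi.single_apply]

theorem polar_fMinus (j : Fin m) (x : (Fin m ⊕ Fin m) ⊕ Fin 2 → F) :
    QuadraticMap.polar ⇑(qfMinus m F a b) (fMinus j) x = x (Sum.inl (Sum.inl j)) := by
  simp [polar_qfMinus, fMinus, Pi.single_apply]

/-- The standard frame of the elliptic form. -/
def frameMinus (m : ℕ) (a b : F) : Frame (qfMinus m F a b) m where
  a i := if h : i < m then eMinus ⟨i, h⟩ else 0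
  b i := if h : i < m then fMinus ⟨i, h⟩ else 0
  pair i hi := by
    simp only [hi, ↓reduceDIte]
    exact ⟨by simp [qfMinus_apply, quadFormMinus, eMinus, Pi.single_apply],
      by simp [qfMinus_apply, quadFormMinus, fMinus, Pi.single_apply],
      by rw [polar_eMinus, fMinus, Pi.single_eq_same]⟩
  orth i k hi hk hik := by
    simp only [hi, hk, ↓reduceDIte]
    refine ⟨⟨(polar_eMinus _ _).trans ?_, (polar_fMinus _ _).trans ?_⟩,
      (polar_eMinus _ _).trans ?_, (polar_fMinus _ _).trans ?_⟩ <;>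
      simp [eMinus, fMinus, Pi.single_apply, hik]

theorem mem_frameMinus {z : (Fin m ⊕ Fin m) ⊕ Fin 2 → F} :
    z ∈ (frameMinus m a b).W m ↔ ∀ x, z (Sum.inl x) = 0 := by
  rw [Frame.mem_W]
  constructor
  · intro h x
    rcases x with i | i
    · have h' := (h i i.2).2
      simp only [frameMinus, i.2, ↓reduceDIte, Fin.eta] at h'
      rwa [polar_fMinus] at h'
    · have h' := (h i i.2).1
      simp only [frameMinus, i.2, ↓reduceDIte, Fin.eta] at h'
      rwa [polar_eMinus] at h'
  · intro h i hi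
    simp only [frameMinus, hi, ↓reduceDIte]
    exact ⟨(polar_eMinus _ _).trans (h _), (polar_fMinus _ _).trans (h _)⟩

/-- The kernel of the standard frame is the plane. -/
def minusKernel (m : ℕ) (a b : F) : (frameMinus m a b).W m ≃ F × F where
  toFun z := (z.1 (Sum.inr 0), z.1 (Sum.inr 1))
  invFun p := ⟨Sum.elim 0 ![p.1, p.2], mem_frameMinus.2 fun _ => rfl⟩
  left_inv z := Subtype.ext (funext fun x => by
    rcases x with x | x
    · exact (mem_frameMinus.1 z.2 x).symm
    · fin_cases x <;> rfl)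
  right_inv p := rfl

theorem quad_minusKernel (z : (frameMinus m a b).W m) :
    qfMinus m F a b z.1 = binForm a b (minusKernel m a b z) := by
  rw [qfMinus_apply, binForm_apply, quadFormMinus, Finset.sum_eq_zero fun i _ => by
    rw [mem_frameMinus.1 z.2 (Sum.inl i), zero_mul], zero_add]
  rfl

theorem card_binForm
    (hab : ∀ z₁ z₂ : F, z₁ ^ 2 + a * z₁ * z₂ + b * z₂ ^ 2 = 0 → z₁ = 0 ∧ z₂ = 0) {c : F} (hc : c ≠ 0) :
    Nat.card {z : F × F // binForm a b z = c} = Fintype.card F + 1 := by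
  classical
  let mul : F × F → F × F → F × F := fun z w =>
    (z.1 * w.1 - b * z.2 * w.2, z.1 * w.2 + z.2 * w.1 + a * z.2 * w.2)
  have hmul : ∀ z w, binForm a b (mul z w) = binForm a b z * binForm a b w := fun z w => by
    simp only [binForm_apply, mul]; ring
  have hinj : ∀ z, binForm a b z ≠ 0 → Function.Injective (mul z) := by
    intro z hz u v huv
    have h1 : binForm a b (mul z (u - v)) = 0 := by
      have : mul z (u - v) = mul z u - mul z v := by
        refine Prod.ext ?_ ?_ <;> simp only [mul, Prod.fst_sub, Prod.snd_sub] <;> ring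
      rw [this, huv, sub_self, QuadraticMap.map_zero]
    rw [hmul, binForm_apply (z := u - v)] at h1
    have h2 := hab _ _ ((mul_eq_zero.1 h1).resolve_left hz)
    exact sub_eq_zero.1 (Prod.ext h2.1 h2.2)
  let N : F → ℕ := fun c => (Finset.univ.filter fun z : F × F => binForm a b z = c).card
  have hN : ∀ c, Nat.card {z : F × F // binForm a b z = c} = N c := fun c => by
    rw [Nat.card_eq_fintype_card, Fintype.card_subtype]
  have h1 : N 1 = Fintype.card F + 1 := by rw [← hN]; exact natCard_binForm_one hab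
  have h0 : N 0 ≤ 1 := Finset.card_le_one.2 fun x hx y hy => by
    rw [Finset.mem_filter, binForm_apply] at hx hy
    exact Prod.ext ((hab _ _ hx.2).1.trans (hab _ _ hy.2).1.symm) ((hab _ _ hx.2).2.trans (hab _ _ hy.2).2.symm)
  -- every fibre over a non-zero value is no larger than the fibre over one
  have hle : ∀ c, c ≠ 0 → N c ≤ N 1 := by
    intro c hc
    rcases Finset.eq_empty_or_nonempty (Finset.univ.filter fun z : F × F => binForm a b z = c) with h | ⟨z, hz⟩
    · simp only [N, h, Finset.card_empty]; omega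
    have hzc : binForm a b z = c := (Finset.mem_filter.1 hz).2
    let z' : F × F := (c⁻¹ * (z.1 + a * z.2), c⁻¹ * -z.2)
    have hz' : binForm a b z' = c⁻¹ := by
      rw [binForm_apply] at hzc ⊢
      simp only [z']
      field_simp
      linear_combination hzc
    refine Finset.card_le_card_of_injOn (mul z') (fun w hw => Finset.mem_filter.2
      ⟨Finset.mem_univ _, ?_⟩) (hinj z' (by rw [hz']; exact inv_ne_zero hc)).injOn
    rw [hmul, hz', (Finset.mem_filter.1 hw).2, inv_mul_cancel₀ hc]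
  have hsum : ∑ c : F, N c = Fintype.card F ^ 2 := by
    simp only [N]
    refine (Finset.card_eq_sum_card_fiberwise (s := (Finset.univ : Finset (F × F)))
      (f := fun z => binForm a b z) (t := (Finset.univ : Finset F)) (fun z _ => Finset.mem_univ _)).symm.trans ?_
    rw [Finset.card_univ, Fintype.card_prod, sq]
  rw [hN]
  refine le_antisymm ((hle c hc).trans h1.le) ?_
  by_contra hlt
  push Not at hlt
  rw [← Finset.add_sum_erase _ _ (Finset.mem_univ (0 : F))] at hsum
  have hcmem : c ∈ (Finset.univ : Finset F).erase 0 := Finset.mem_erase.2 ⟨hc, Finset.mem_univ c⟩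
  have hb : ∑ d ∈ (Finset.univ : Finset F).erase 0, N d <
      ∑ _d ∈ (Finset.univ : Finset F).erase 0, (Fintype.card F + 1) :=
    Finset.sum_lt_sum (fun d hd => (hle d (Finset.mem_erase.1 hd).1).trans h1.le) ⟨c, hcmem, hlt⟩
  rw [Finset.sum_const, Finset.card_erase_of_mem (Finset.mem_univ _), Finset.card_univ, smul_eq_mul] at hb
  obtain ⟨p, hp⟩ : ∃ p, Fintype.card F = p + 1 :=
    ⟨_, (Nat.succ_pred_eq_of_pos Fintype.card_pos).symm⟩
  rw [hp, Nat.add_sub_cancel] at hb
  rw [hp] at hsum
  nlinarith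

theorem frameMinus_counts
    (hab : ∀ z₁ z₂ : F, z₁ ^ 2 + a * z₁ * z₂ + b * z₂ ^ 2 = 0 → z₁ = 0 ∧ z₂ = 0) :
    (∀ z ∈ (frameMinus m a b).W m, qfMinus m F a b z = 0 → z = 0) ∧
      Nat.card ((frameMinus m a b).W m) = Fintype.card F ^ 2 ∧
      ∀ c : F, c ≠ 0 → (frameMinus m a b).num m c = Fintype.card F + 1 := by
  refine ⟨fun z hz h => ?_, ?_, fun c hc => ?_⟩
  · have h2 := quad_minusKernel ⟨z, hz⟩
    rw [h, binForm_apply] at h2
    obtain ⟨e0, e1⟩ := hab _ _ h2.symm
    funext x
    rcases x with x | x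
    · exact mem_frameMinus.1 hz x
    · fin_cases x
      · exact e0
      · exact e1
  · rw [Nat.card_congr (minusKernel m a b), Nat.card_prod, Nat.card_eq_fintype_card, sq]
  · rw [Frame.num, ← card_binForm hab hc]
    exact Nat.card_congr ((minusKernel m a b).subtypeEquiv fun z => by rw [quad_minusKernel])

theorem exists_ne_one {G : Type*} [Group G] {k : ℕ} (ρ : Representation ℂ G (Fin k → ℂ))
    (h : ρ.IsIrreducible) (hk : 2 ≤ k) : ∃ g, ρ g ≠ 1 := by
  by_contra hcon
  push Not at hcon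
  let x : Fin k → ℂ := Pi.single ⟨0, by omega⟩ 1
  have hx : x ≠ 0 := fun e => by
    have := congrFun e ⟨0, by omega⟩
    simp [x] at this
  let W : Subrepresentation ρ :=
    { toSubmodule := ℂ ∙ x
      apply_mem_toSubmodule := fun g v hv => by rw [hcon g, Module.End.one_apply]; exact hv }
  haveI : IsSimpleOrder (Subrepresentation ρ) := h
  rcases eq_bot_or_eq_top W with hW | hW
  · refine hx ((Submodule.span_singleton_eq_bot (R := ℂ)).1 ?_)
    exact congrArg Subrepresentation.toSubmodule hW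
  · have h2 : finrank ℂ (ℂ ∙ x : Submodule ℂ (Fin k → ℂ)) = finrank ℂ (Fin k → ℂ) := by
      have e : (ℂ ∙ x : Submodule ℂ (Fin k → ℂ)) = ⊤ := congrArg Subrepresentation.toSubmodule hW
      rw [e, finrank_top]
    rw [finrank_span_singleton hx, Module.finrank_fin_fun] at h2
    omega

/-- The minimal degree for the hyperbolic model. -/
theorem omega_plus_degree (n : ℕ) (hn : 4 ≤ n) (h3 : 3 < Fintype.card F) (k : ℕ)
    (ρ : Representation ℂ (Cfsg.Omega F (Cfsg.quadFormPlus n F)) (Fin k → ℂ)) (hirr : ρ.IsIrreducible)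
    (hk : 2 ≤ k) :
    (Fintype.card F ^ n - 1) * (Fintype.card F ^ (n - 1) + Fintype.card F) / (Fintype.card F ^ 2 - 1) ≤ k := by
  revert ρ
  rw [← coe_qfPlus]
  intro ρ hirr
  obtain ⟨g₀, hg₀⟩ := exists_ne_one ρ hirr hk
  have := plus_bound (hyp_plus (by omega)) (framePlus n) hn (by omega) (framePlus_last n) ρ hg₀
  rwa [Module.finrank_fin_fun] at this

/-- The minimal degree for the elliptic model. -/
theorem omega_minus_degree (n : ℕ) (hn : 4 ≤ n) (a b : F)
    (hab : ∀ z₁ z₂ : F, z₁ ^ 2 + a * z₁ * z₂ + b * z₂ ^ 2 = 0 → z₁ = 0 ∧ z₂ = 0) (k : ℕ)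
    (ρ : Representation ℂ (Cfsg.Omega F (Cfsg.quadFormMinus (n - 1) F a b)) (Fin k → ℂ))
    (hirr : ρ.IsIrreducible) (hk : 2 ≤ k) :
    (Fintype.card F ^ n + 1) * (Fintype.card F ^ (n - 1) - Fintype.card F) / (Fintype.card F ^ 2 - 1) ≤ k := by
  revert ρ
  rw [← coe_qfMinus]
  intro ρ hirr
  obtain ⟨g₀, hg₀⟩ := exists_ne_one ρ hirr hk
  obtain ⟨h1, h2, h3⟩ := frameMinus_counts (m := n - 1) hab
  have := minus_bound (hyp_minus (by omega) hab) (frameMinus (n - 1) a b) (by omega) h1 h2 h3 ρ hg₀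
  rwa [Module.finrank_fin_fun, show n - 1 + 1 = n by omega] at this

end Cfsg.Agent.Lie.OrthDeg
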