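import Cfsg.Agent.Lib.Lie.OrthDeg.FixAll

/-! The last common fixed space over a one-dimensional kernel. -/

set_option autoImplicit false
set_option linter.unusedSectionVars false
set_option quotPrecheck false

noncomputable section

namespace Cfsg.Agent.Lie.OrthDeg

open Matrix Module Cfsg.Agent.Classical Cfsg.Agent.Classical.OrthAut

universe u v

variable {F : Type u} [Field F] [Fintype F] {ι : Type} [Fintype ι] [DecidableEq ι]
  {Q : QuadraticForm F (ι → F)} {m : ℕ}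
variable {E : Type v} [AddCommGroup E] [Module ℂ E] [FiniteDimensional ℂ E]

local notation "V" => (ι → F)
local notation "B" => QuadraticMap.polar ⇑Q
local notation "Om" => Omega F ⇑Q

variable (ρ : Representation ℂ (Omega F ⇑Q) E) (ψ : AddChar F ℂ) (fr : Frame Q m)

/-- The situation left by the counting. -/
structure Ctx : Prop where
  H : Hyp Q
  hψ : ψ ≠ 1
  hm : 3 ≤ m
  hF : 5 ≤ Fintype.card F
  thin : Thin ρ ψ fr (0 : F)
  kz : ∃ z ∈ fr.W m, Q z ≠ 0
  val : ∃ ν : F, ν ≠ 0 ∧ ∀ ζ ∈ fr.W m, Q ζ ≠ ν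
  le : Cs ρ fr (m - 1) ≤ Fx ρ fr
  low : m - 1 ≤ finrank ℂ (Cs ρ fr (m - 1))
  up : finrank ℂ (Cs ρ fr (m - 1)) ≤ m - 1

/-- The frame with one pair reversed. -/
def Frame.rev (l : ℕ) : Frame Q m where
  a k := if k = l then fr.b k else fr.a k
  b k := if k = l then fr.a k else fr.b k
  pair k hk := by
    by_cases h : k = l
    · simp only [h, ↓reduceIte]
      exact ⟨fr.quad_b (h ▸ hk), fr.quad_a (h ▸ hk), fr.ba (h ▸ hk)⟩
    · simp only [h, ↓reduceIte]; exact fr.pair k hk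
  orth i k hi hk hik := by
    have o := fr.orth i k hi hk hik
    by_cases h1 : i = l <;> by_cases h2 : k = l <;> simp only [h1, h2, ↓reduceIte]
    · omega
    · subst h1; exact ⟨⟨o.1.2, o.1.1⟩, o.2.2, o.2.1⟩
    · subst h2; exact ⟨o.2, o.1⟩
    · exact o

theorem rev_W (l j : ℕ) : (fr.rev l).W j = fr.W j := by
  ext w
  rw [Frame.mem_W, Frame.mem_W]
  refine forall₂_congr fun i _ => ?_
  by_cases h : i = l <;> simp [Frame.rev, h, and_comm]

/-- The sign attached to two positions. -/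
def sgn (φ : ℕ → Bool) (p q : ℕ) : ℂ := if φ p = φ q then 1 else -1

/-- A joint eigenvector of the tori of pairs. -/
def EV (t : F) (φ : ℕ → Bool) : Prop :=
  ∃ v ∈ Cs ρ fr (m - 1), v ≠ 0 ∧ ∀ p q, p < m → q < m → p ≠ q → ∀ g : Om,
    Diag fr g (two2 p q t) → ρ g v = sgn φ p q • v

theorem two2_comm (p q : ℕ) (t : F) : two2 p q t = two2 q p t := funext fun k => by
  simp [two2, or_comm]

theorem two2_swap (p q i : ℕ) (t : F) (k : ℕ) :
    two2 p q t (Equiv.swap i (i + 1) k) = two2 (Equiv.swap i (i + 1) p) (Equiv.swap i (i + 1) q) t k := by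
  simp only [two2, Equiv.swap_apply_eq_iff]

theorem one1_swap (p i : ℕ) (t : F) (k : ℕ) :
    one1 p t (Equiv.swap i (i + 1) k) = one1 (Equiv.swap i (i + 1) p) t k := by
  simp only [one1, Equiv.swap_apply_eq_iff]

variable {ρ ψ fr} (S : Ctx ρ ψ fr)
include S

theorem Ctx.op_fix {v : E} (hv : v ∈ Cs ρ fr (m - 1)) {i : ℕ} (hi : i < m) {w : V}
    (hw : w ∈ fr.W (i + 1)) : op ρ (fr.a i) w v = v := by
  rcases Nat.lt_or_ge i (m - 1) with h | h
  · exact hv i h w hw
  · have hwm : w ∈ fr.W m := by rwa [show i + 1 = m by omega] at hw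
    have e : fr.comb (Pi.single (⟨i, hi⟩ : Fin m) 1, 0) = fr.a i := by
      simp [fr.comb_apply, Pi.single_apply, ite_smul]
    have := S.le hv (Pi.single ⟨i, hi⟩ 1) w (coB_of_mem fr hwm)
    rwa [e] at this

theorem Ctx.diag_mem {v : E} (hv : v ∈ Cs ρ fr (m - 1)) {g : Om} {d : ℕ → F} (hg : Diag fr g d) :
    ρ g v ∈ Cs ρ fr (m - 1) := map_Cs ρ fr S.H (by omega) (hg.scales (by omega)) hv

theorem Ctx.op_b_last {v : E} (hv : v ∈ Cs ρ fr (m - 1)) {z : V} (hz : z ∈ fr.W m) :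
    op ρ (fr.b (m - 1)) z v = v := by
  have hm := S.hm
  obtain ⟨z₀, hz₀, hz₀q⟩ := S.kz
  have hl : m - 1 < m := by omega
  set n := flip3 fr (m - 1) z₀ with hn
  have hsc : fr.Scales (m - 1) n :=
    Frame.Fixes.scales fun i hi => flip3_fixes fr S.H hl hz₀ hz₀q (by omega) (by omega)
  have hu : ρ n⁻¹ v ∈ Cs ρ fr (m - 1) := map_Cs ρ fr S.H (by omega) hsc.inv hv
  set z'' := z - ((Q z₀)⁻¹ * B z₀ z) • z₀ with hz''
  have hz''m : z'' ∈ fr.W m := sub_mem hz (Submodule.smul_mem _ _ hz₀)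
  have hnz : act n ((-(Q z₀)⁻¹) • z'') = (-(Q z₀)⁻¹) • z := by
    rw [act_smul, flip3_kernel fr S.H hl hz₀ hz''m hz₀q]
    congr 1
    rw [hz'', QuadraticMap.polar_sub_right, QuadraticMap.polar_smul_right, polar_self2, smul_eq_mul]
    match_scalars <;> field_simp <;> ring
  have hw : (-(Q z₀)⁻¹) • z'' ∈ fr.W m := Submodule.smul_mem _ _ hz''m
  have hwW : (-(Q z₀)⁻¹) • z'' ∈ fr.W (m - 1 + 1) := by rwa [show m - 1 + 1 = m by omega]
  have h := op_conj ρ S.H n (fr.ok hl hwW) (ρ n⁻¹ v)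
  rw [S.op_fix hu hl hwW, hnz, (flip3_a fr S.H hl hz₀ hz₀q).1,
    op_smul_left ρ S.H ⟨fr.quad_b hl, by rw [QuadraticMap.polar_smul_right, fr.polar_b hl hz, smul_zero]⟩,
    smul_smul, ← rho_mul, mul_inv_cancel, map_one, Module.End.one_apply,
    show -Q z₀ * -(Q z₀)⁻¹ = 1 by field_simp, one_smul] at h
  exact h

theorem Ctx.flip_fix {v : E} (hv : v ∈ Cs ρ fr (m - 1)) {w : V} (hw : w ∈ fr.W m) :
    ρ (flip3 fr (m - 1) w) v = v := by
  have hm := S.hm
  have h1 : op ρ (fr.a (m - 1)) ((Q w)⁻¹ • w) v = v :=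
    S.op_fix hv (by omega) (by rw [show m - 1 + 1 = m by omega]; exact Submodule.smul_mem _ _ hw)
  have h2 := S.op_b_last hv hw
  rw [flip3, rho_mul, rho_mul]
  change op ρ _ _ (op ρ _ _ (op ρ _ _ v)) = v
  rw [h1, h2, h1]

/-- The map from the last fixed space to itself attached to a rotation. -/
def Ctx.K (_S : Ctx ρ ψ fr) (i : ℕ) : Module.End ℂ E := prj ρ ψ fr i 0 * ρ (sw fr i)

theorem Ctx.K_apply (i : ℕ) (v : E) : S.K i v = prj ρ ψ fr i 0 (ρ (sw fr i) v) := rfl

theorem Ctx.top_fix {v : E} (hv : v ∈ Cs ρ fr (m - 1)) {i k : ℕ} (hi : i + 1 < m) (hik : i + 1 ≤ k)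
    (hk : k < m) {w : V} (hw : w ∈ fr.W (k + 1)) :
    op ρ (fr.a k) w (ρ (sw fr i) v) = ρ (sw fr i) v := by
  rcases eq_or_ne k (i + 1) with rfl | hne
  · have h := op_conj ρ S.H (sw fr i) (fr.ok (by omega : i < m) (fr.W_mono (by omega) hw)) v
    rwa [S.op_fix hv (by omega) (fr.W_mono (by omega) hw), sw_a fr S.H hi, sw_fix fr S.H hi hw] at h
  · have h := op_conj ρ S.H (sw fr i) (fr.ok hk hw) v
    rwa [S.op_fix hv hk hw, (sw_out fr S.H hi hk (by omega) hne).1,
      sw_fix fr S.H hi (fr.W_mono (by omega) hw)] at h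

theorem Ctx.sw_mem {v : E} (hv : v ∈ Cs ρ fr (m - 1)) {i : ℕ} (hi : i + 1 < m) :
    ρ (sw fr i) v ∈ Cs ρ fr i :=
  map_Cs ρ fr S.H (by omega) (sw_fixes fr S.H hi).scales (Cs_mono ρ fr (by omega) hv)

theorem Ctx.K_mem {v : E} (hv : v ∈ Cs ρ fr (m - 1)) {i : ℕ} (hi : i + 1 < m) :
    S.K i v ∈ Cs ρ fr (m - 1) := by
  intro k hk w hw
  rcases Nat.lt_or_ge k (i + 1) with h | h
  · have h1 : S.K i v ∈ Cs ρ fr (i + 1) := by
      rw [← Eig_zero ρ ψ fr i]
      exact prj_mem ρ ψ fr S.H (by omega) 0 (S.sw_mem hv hi)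
    exact h1 k h w hw
  · have hk' : k < m := by omega
    have hf := fr.fixes_elt S.H (fr.a_mem hk' h) (fr.W_mono (by omega : i + 1 ≤ k + 1) hw) (fr.ok hk' hw)
    have h2 := prj_map ρ ψ fr S.H (by omega : i < m) hf.scales (hf i (by omega)).1 0 (ρ (sw fr i) v)
    rw [act_zero, show ρ (elt (fr.a k) w) (ρ (sw fr i) v) = ρ (sw fr i) v from S.top_fix hv hi h hk' hw]
      at h2
    exact h2

theorem Ctx.K_map {i : ℕ} (hi : i + 1 < m) {g : Om} {d : ℕ → F} (hg : Diag fr g d) (v : E) :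
    ρ g (S.K i v) = S.K i (ρ (sw fr i * g * (sw fr i)⁻¹) v) := by
  rw [S.K_apply, S.K_apply, prj_map' ρ ψ fr S.H (by omega) (hg.scales (by omega)) (hg.ne i (by omega))
    (hg.a i (by omega)), act_zero, smul_zero, ← rho_mul, ← rho_mul]
  have e := hg.commute (sw_sq fr S.H hi)
  have e2 : g * sw fr i = sw fr i * (sw fr i * g * (sw fr i)⁻¹) := by
    rw [← mul_assoc, ← mul_assoc, ← e, ← mul_assoc, mul_inv_cancel_right]
  rw [e2]

/-- Components at a lower level lie on a line. -/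
theorem Ctx.support {v : E} (hv : v ∈ Cs ρ fr (m - 1)) {i : ℕ} (hi : i + 1 < m) {z : V}
    (hz : z ∈ fr.W (i + 1)) (hne : prj ρ ψ fr i z (ρ (sw fr i) v) ≠ 0) :
    ∃ r : F, z = r • fr.a (i + 1) := by
  obtain ⟨r, hr⟩ := rot_support ρ ψ fr S.hψ S.H hi (zero_mem _) (fun w hw => by
      rw [QuadraticMap.polar_zero_left, AddChar.map_zero_eq_one, one_smul]
      exact S.op_fix hv hi hw)
    (fun r => S.op_fix hv (by omega) (Submodule.smul_mem _ _ (fr.a_mem hi le_rfl))) hz hne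
  exact ⟨r, by rw [hr, neg_zero, zero_add]⟩

theorem Ctx.K_inj {v : E} (hv : v ∈ Cs ρ fr (m - 1)) {i : ℕ} (hi : i + 1 < m) (h0 : S.K i v = 0) :
    v = 0 := by
  have hi' : i < m := by omega
  have hsum : ∀ u ∈ Cs ρ fr (m - 1), S.K i u = 0 →
      ∑ r : F, op ρ (fr.a i) (r • fr.b (i + 1)) (ρ (sw fr i) u) = 0 := by
    intro u hu hu0
    have hwW := fr.b_mem hi (le_refl (i + 1))
    have h := char_sum_eq_zero ρ ψ fr S.hψ S.H hi' hwW 0 (ρ (sw fr i) u) fun z hz hzb => by
      by_contra hne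
      obtain ⟨r, rfl⟩ := S.support hu hi hz hne
      rw [QuadraticMap.polar_smul_left, fr.ab hi, smul_eq_mul, mul_one] at hzb
      rw [hzb, zero_smul] at hne
      exact hne hu0
    simpa using h
  refine hecke_zero ρ fr S.H hi (fun r => S.op_fix hv hi' (Submodule.smul_mem _ _ (fr.b_mem hi le_rfl)))
    (hsum v hv h0) fun s _ h hh => hsum _ (S.diag_mem hv hh) ?_
  have hh' := sw_diag fr S.H hi hh
  have h3 := S.K_map hi hh' v
  have e : sw fr i * (sw fr i * h * (sw fr i)⁻¹) * (sw fr i)⁻¹ = h := by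
    have e1 := hh.commute (sw_sq fr S.H hi)
    calc sw fr i * (sw fr i * h * (sw fr i)⁻¹) * (sw fr i)⁻¹
        = (sw fr i * sw fr i) * h * (sw fr i)⁻¹ * (sw fr i)⁻¹ := by group
      _ = h := by rw [← e1]; group
  rw [e, h0, map_zero] at h3
  exact h3.symm

theorem Ctx.K_surj {i : ℕ} (hi : i + 1 < m) {x : E} (hx : x ∈ Cs ρ fr (m - 1)) :
    ∃ y ∈ Cs ρ fr (m - 1), S.K i y = x := by
  let L : Cs ρ fr (m - 1) →ₗ[ℂ] Cs ρ fr (m - 1) := (S.K i).restrict fun u hu => S.K_mem hu hi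
  have hL : Function.Injective L := by
    rw [← LinearMap.ker_eq_bot, Submodule.eq_bot_iff]
    intro u hu
    exact Subtype.ext (S.K_inj u.2 hi (congrArg Subtype.val (LinearMap.mem_ker.1 hu)))
  obtain ⟨y, hy⟩ := LinearMap.injective_iff_surjective.1 hL ⟨x, hx⟩
  exact ⟨y, y.2, congrArg Subtype.val hy⟩

theorem Ctx.tau : ∀ d l, l + d + 1 = m → ∀ s : F, s ≠ 0 → ∀ g : Om, Diag fr g (one1 l (s * s)) →
    ∀ v ∈ Cs ρ fr (m - 1), ρ g v = v := by
  intro d
  induction d with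
  | zero =>
    intro l hl s hs g hg v hv
    obtain rfl : l = m - 1 := by omega
    obtain ⟨z₀, hz₀, hz₀q⟩ := S.kz
    rw [hg.unique (diag_flips fr S.H (by omega) hz₀ hz₀q hs) (fun k _ => rfl), rho_mul,
      S.flip_fix hv hz₀, S.flip_fix hv (Submodule.smul_mem _ _ hz₀)]
  | succ d ih =>
    intro l hl s hs g hg v hv
    have hi : l + 1 < m := by omega
    obtain ⟨y, hy, rfl⟩ := S.K_surj hi hv
    have hg' := (sw_diag fr S.H hi hg).congr (d' := one1 (l + 1) (s * s)) fun k _ => by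
      show one1 l (s * s) (Equiv.swap l (l + 1) k) = _
      rw [one1_swap, Equiv.swap_apply_left]
    rw [S.K_map hi hg, ih (l + 1) (by omega) s hs _ hg' y hy]

theorem Ctx.tau' {l : ℕ} (hl : l < m) {s : F} (hs : s ≠ 0) {g : Om} (hg : Diag fr g (one1 l (s * s)))
    {v : E} (hv : v ∈ Cs ρ fr (m - 1)) : ρ g v = v :=
  S.tau (m - 1 - l) l (by omega) s hs g hg v hv

theorem Ctx.exists_tau {l : ℕ} (hl : l < m) {s : F} (hs : s ≠ 0) : ∃ g : Om, Diag fr g (one1 l (s * s)) := by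
  obtain ⟨z₀, hz₀, hz₀q⟩ := S.kz
  exact exists_one1 fr S.H hz₀ hz₀q hs l hl

theorem Ctx.two2_mul {p q l : ℕ} (hp : p < m) (hq : q < m) (hl : l < m) (hpq : p ≠ q) (hql : q ≠ l)
    (hpl : p ≠ l) {t : F} (ht : t ≠ 0) {g h k : Om} (hg : Diag fr g (two2 p q t))
    (hh : Diag fr h (two2 q l t)) (hk : Diag fr k (two2 p l t)) {v : E} (hv : v ∈ Cs ρ fr (m - 1)) :
    ρ g (ρ h v) = ρ k v := by
  obtain ⟨τ, hτ⟩ := S.exists_tau hq ht
  have e : g * h = k * τ := (hg.mul hh).unique (hk.mul hτ) fun i _ => by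
    simp only [two2, one1]
    split_ifs <;> first | omega | ring
  rw [← rho_mul, e, rho_mul, S.tau' hq ht hτ hv]

theorem Ctx.two2_sq {p q : ℕ} (hp : p < m) (hq : q < m) (hpq : p ≠ q) {t : F} (ht : t ≠ 0) {g : Om}
    (hg : Diag fr g (two2 p q t)) {v : E} (hv : v ∈ Cs ρ fr (m - 1)) : ρ g (ρ g v) = v := by
  obtain ⟨τ₁, hτ₁⟩ := S.exists_tau hp ht
  obtain ⟨τ₂, hτ₂⟩ := S.exists_tau hq ht
  have e : g * g = τ₁ * τ₂ := (hg.mul hg).unique (hτ₁.mul hτ₂) fun i _ => by
    simp only [two2, one1]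
    split_ifs <;> first | omega | ring
  rw [← rho_mul, e, rho_mul, S.tau' hq ht hτ₂ hv, S.tau' hp ht hτ₁ hv]

theorem Ctx.EV_adj {t : F} {φ : ℕ → Bool} (h : EV ρ fr t φ) {i : ℕ} (hi : i + 1 < m) :
    EV ρ fr t (fun k => φ (Equiv.swap i (i + 1) k)) := by
  obtain ⟨v, hv, hv0, hev⟩ := h
  refine ⟨S.K i v, S.K_mem hv hi, fun e => hv0 (S.K_inj hv hi e), fun p q hp hq hpq g hg => ?_⟩
  have hlt : ∀ k, k < m → Equiv.swap i (i + 1) k < m := fun k hk => by
    rw [Equiv.swap_apply_def]; split_ifs <;> omega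
  have hg' := (sw_diag fr S.H hi hg).congr
    (d' := two2 (Equiv.swap i (i + 1) p) (Equiv.swap i (i + 1) q) t) fun k _ => two2_swap p q i t k
  rw [S.K_map hi hg, hev _ _ (hlt p hp) (hlt q hq) ((Equiv.injective _).ne hpq) _ hg', map_smul]
  rfl

theorem Ctx.EV_swap {t : F} : ∀ d a, a + d + 1 < m → ∀ φ : ℕ → Bool, EV ρ fr t φ →
    EV ρ fr t (fun k => φ (Equiv.swap a (a + d + 1) k)) := by
  intro d
  induction d with
  | zero => exact fun a ha φ h => S.EV_adj h ha
  | succ d ih =>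
    intro a ha φ h
    have h1 := S.EV_adj (ih a (by omega) _ (S.EV_adj h (i := a + d + 1) (by omega))) (i := a + d + 1) (by omega)
    convert h1 using 1
    funext k
    congr 1
    simp only [Equiv.swap_apply_def]
    split_ifs <;> omega

theorem Ctx.EV_swap' {t : F} {φ : ℕ → Bool} (h : EV ρ fr t φ) {a b : ℕ} (ha : a < m) (hb : b < m) :
    EV ρ fr t (fun k => φ (Equiv.swap a b k)) := by
  rcases lt_trichotomy a b with hab | rfl | hab
  · have := S.EV_swap (t := t) (b - a - 1) a (by omega) φ h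
    rwa [show a + (b - a - 1) + 1 = b by omega] at this
  · simpa using h
  · have := S.EV_swap (t := t) (a - b - 1) b (by omega) φ h
    rwa [show b + (a - b - 1) + 1 = a by omega, Equiv.swap_comm] at this

theorem Ctx.exists_EV {t : F} (ht : t ≠ 0) {p q : ℕ} (hp : p < m) (hq : q < m) (hpq : p ≠ q) {g : Om}
    (hg : Diag fr g (two2 p q t)) {v : E} (hv : v ∈ Cs ρ fr (m - 1)) (hne : ρ g v ≠ v) :
    ∃ φ : ℕ → Bool, EV ρ fr t φ ∧ φ p ≠ φ q := by
  classical
  have h0m : 0 < m := by omega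
  choose gg hgg using fun k : {k : ℕ // k < m ∧ k ≠ 0} => exists_two2 fr S.H h0m k.2.1 k.2.2.symm ht
  have key : ∀ n, n ≤ m → ∃ u ∈ Cs ρ fr (m - 1), u ≠ 0 ∧ ρ g u = -u ∧
      ∀ k : {k : ℕ // k < m ∧ k ≠ 0}, k.1 < n → ρ (gg k) u = u ∨ ρ (gg k) u = -u := by
    intro n
    induction n with
    | zero =>
      intro _
      refine ⟨v - ρ g v, sub_mem hv (S.diag_mem hv hg), sub_ne_zero.2 (Ne.symm hne), ?_,
        fun k hk => absurd hk (Nat.not_lt_zero _)⟩
      rw [map_sub, S.two2_sq hp hq hpq ht hg hv, neg_sub]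
    | succ n ih =>
      intro hn
      obtain ⟨u, hu, hu0, hgu, hev⟩ := ih (by omega)
      by_cases hn0 : n = 0
      · exact ⟨u, hu, hu0, hgu, fun k hk => absurd (by omega) k.2.2⟩
      set k₀ : {k : ℕ // k < m ∧ k ≠ 0} := ⟨n, by omega, hn0⟩
      set h := gg k₀
      have hsq : ρ h (ρ h u) = u := S.two2_sq h0m k₀.2.1 k₀.2.2.symm ht (hgg k₀) hu
      have hcomm : ∀ {x : Om} {d : ℕ → F}, Diag fr x d → ρ x (ρ h u) = ρ h (ρ x u) := fun hx => by
        rw [← rho_mul, ← rho_mul, hx.commute (hgg k₀)]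
      obtain ⟨σ, hσ, hs0⟩ : ∃ σ : ℂ, (σ = 1 ∨ σ = -1) ∧ u + σ • ρ h u ≠ 0 := by
        by_contra hcon
        push Not at hcon
        have h1 := hcon 1 (Or.inl rfl)
        have h2 := hcon (-1) (Or.inr rfl)
        have h3 : (2 : ℂ) • u = 0 := by linear_combination (norm := module) h1 + h2
        exact hu0 ((smul_eq_zero.1 h3).resolve_left two_ne_zero)
      refine ⟨u + σ • ρ h u, add_mem hu (Submodule.smul_mem _ _ (S.diag_mem hu (hgg k₀))), hs0, ?_,
        fun k hk => ?_⟩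
      · rw [map_add, map_smul, hcomm hg, hgu, map_neg]; module
      rcases Nat.lt_or_ge k.1 n with hlt | hge
      · rcases hev k hlt with e | e
        · left; rw [map_add, map_smul, hcomm (hgg k), e]
        · right; rw [map_add, map_smul, hcomm (hgg k), e, map_neg]; module
      · obtain rfl : k = k₀ := Subtype.ext (by simp only [k₀]; omega)
        rw [show gg k₀ = h from rfl, map_add, map_smul, hsq]
        rcases hσ with rfl | rfl
        · left; module
        · right; module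
  obtain ⟨u, hu, hu0, hgu, hev⟩ := key m le_rfl
  let φ : ℕ → Bool := fun k => if h : k < m ∧ k ≠ 0 then decide (ρ (gg ⟨k, h⟩) u = u) else true
  have hzero : ∀ k : ℕ, (hk : k < m ∧ k ≠ 0) → ∀ x : Om, Diag fr x (two2 0 k t) →
      ρ x u = sgn φ 0 k • u := by
    intro k hk x hx
    rw [hx.unique (hgg ⟨k, hk⟩) (fun _ _ => rfl)]
    have e0 : φ 0 = true := by simp [φ]
    have ek : φ k = decide (ρ (gg ⟨k, hk⟩) u = u) := dif_pos hk
    rcases hev ⟨k, hk⟩ hk.1 with e | e
    · simp [sgn, e0, ek, e]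
    · have hne' : ρ (gg ⟨k, hk⟩) u ≠ u := fun e' => hu0 (by
        have h3 : (2 : ℂ) • u = 0 := by
          rw [e'] at e
          linear_combination (norm := module) e
        exact (smul_eq_zero.1 h3).resolve_left two_ne_zero)
      rw [e]
      simp [sgn, e0, ek, hne']
  have hall : ∀ p' q', p' < m → q' < m → p' ≠ q' → ∀ x : Om, Diag fr x (two2 p' q' t) →
      ρ x u = sgn φ p' q' • u := by
    intro p' q' hp' hq' hne' x hx
    by_cases hp0 : p' = 0
    · subst hp0; exact hzero q' ⟨hq', hne'.symm⟩ x hx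
    by_cases hq0 : q' = 0
    · subst hq0
      rw [hzero p' ⟨hp', hp0⟩ x (two2_comm p' 0 t ▸ hx)]
      congr 1
      simp only [sgn]
      cases φ 0 <;> cases φ p' <;> rfl
    have h1 := hgg ⟨p', hp', hp0⟩
    have h2 := hgg ⟨q', hq', hq0⟩
    rw [← S.two2_mul hp' h0m hq' hp0 (Ne.symm hq0) hne' ht (two2_comm (0 : ℕ) p' t ▸ h1) h2 hx hu,
      hzero q' ⟨hq', hq0⟩ _ h2, map_smul, hzero p' ⟨hp', hp0⟩ _ h1, smul_smul]
    congr 1
    simp only [sgn]
    cases φ 0 <;> cases φ p' <;> cases φ q' <;> norm_num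
  refine ⟨φ, ⟨u, hu, hu0, hall⟩, fun e => hu0 ?_⟩
  have := hall p q hp hq hpq g hg
  rw [hgu, sgn, if_pos e, one_smul] at this
  have h3 : (2 : ℂ) • u = 0 := by linear_combination (norm := module) -this
  exact (smul_eq_zero.1 h3).resolve_left two_ne_zero

/-- A vector with no components below is fixed by the rotation. -/
theorem Ctx.no_comp {v : E} (hv : v ∈ Cs ρ fr (m - 1)) {i : ℕ} (hi : i + 1 < m)
    (h : ∀ r : F, r ≠ 0 → prj ρ ψ fr i (r • fr.a (i + 1)) (ρ (sw fr i) v) = 0) :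
    ρ (sw fr i) v = v := by
  have hi' : i < m := by omega
  have hK : ρ (sw fr i) v = S.K i v := by
    refine sub_eq_zero.1 (eq_zero_of_prj ρ ψ fr S.hψ S.H hi' fun z hz => ?_)
    have hm0 := prj_mem ρ ψ fr S.H hi' 0 (S.sw_mem hv hi)
    rw [map_sub, S.K_apply]
    rcases eq_or_ne z 0 with rfl | hz0
    · rw [prj_self ρ ψ fr hm0, sub_self]
    rw [prj_other ρ ψ fr S.hψ S.H hi' hz (zero_mem _) hz0 hm0, sub_zero]
    by_contra hne
    obtain ⟨r, rfl⟩ := S.support hv hi hz hne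
    exact hne (h r (fun e => hz0 (by rw [e, zero_smul])))
  have hlow : op ρ (fr.a (i + 1)) (-fr.b i) v = v := by
    have hok : OK Q (fr.a (i + 1)) (-fr.b i) := ok_sw₂ fr S.H hi
    refine rho_injective ρ (sw fr i) ?_
    rw [← op_conj ρ S.H (sw fr i) hok v, sw_a' fr S.H hi, ← neg_one_smul F (fr.b i), act_smul,
      sw_b fr S.H hi, ← neg_one_smul F (fr.a i),
      op_smul_left ρ S.H (fr.ok hi' (Submodule.smul_mem _ _ (fr.b_mem hi le_rfl))), smul_smul,
      neg_one_mul, neg_neg, one_smul, hK]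
    exact S.K_mem hv hi i (by omega) _ (fr.b_mem hi le_rfl)
  exact sw_fixed ρ fr (S.op_fix hv hi' (fr.b_mem hi le_rfl)) hlow

/-- Two differing signs on two pairs are impossible. -/
theorem Ctx.rule {t : F} (ht : t ≠ 0) {φ : ℕ → Bool} (h : EV ρ fr t φ) (hm4 : 4 ≤ m) (h01 : φ 0 ≠ φ 1)
    (h23 : φ 2 ≠ φ 3) : False := by
  obtain ⟨v, hv, hv0, hev⟩ := h
  obtain ⟨z₀, hz₀, hz₀q⟩ := S.kz
  have hF := S.hF
  have h0m : 0 < m := by omega
  have h1m : 0 + 1 < m := by omega
  have h2m : 2 < m := by omega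
  have h3m : 3 < m := by omega
  have hσ : ρ (sw fr 0) v = v := by
    refine S.no_comp hv h1m fun r hr => ?_
    by_contra hne
    set y := r • fr.a (0 + 1) with hy
    have hyW : y ∈ fr.W (0 + 1) := Submodule.smul_mem _ _ (fr.a_mem h1m le_rfl)
    have hy0 : y ≠ 0 := fun e => hr (by
      have := congrArg (B (fr.b (0 + 1))) e
      simpa [y, QuadraticMap.polar_smul_right, fr.ba h1m] using this)
    set x := prj ρ ψ fr 0 y (ρ (sw fr 0) v)
    have hx : x ∈ Eig ρ ψ fr 0 y := prj_mem ρ ψ fr S.H h0m y (by rw [Cs_zero]; exact Submodule.mem_top)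
    have h1 : finrank ℂ (Eig ρ ψ fr 0 y) = 1 := le_antisymm (S.thin.le_one 0 h0m y hyW hy0)
      (Submodule.one_le_finrank_iff.2 ((Submodule.ne_bot_iff _).2 ⟨x, hx, hne⟩))
    obtain ⟨g, hg⟩ := exists_two2 fr S.H h2m h3m (by omega) ht
    have hfixy : ∀ {d : ℕ → F} {k : Om}, Diag fr k d → d 0 = 1 → d 1 = 1 → act k y = y ∧ act k (fr.a 0) = fr.a 0 :=
      fun {d k} hk e0 e1 => by
        rw [hy, act_smul, hk.a 0 h0m, hk.a 1 h1m, e0, e1, one_smul, one_smul]
        exact ⟨rfl, rfl⟩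
    have hgx : ρ g x = -x := by
      obtain ⟨e1, e2⟩ := hfixy hg (by simp [two2]) (by simp [two2])
      have h' := prj_map ρ ψ fr S.H h0m (hg.scales (by omega)) e2 y (ρ (sw fr 0) v)
      rw [e1] at h'
      rw [h']
      have hg' := (sw_diag fr S.H h1m hg).congr (d' := two2 2 3 t) fun k _ => by
        simp only [two2, Equiv.swap_apply_def]
        split_ifs <;> first | omega | rfl | (simp_all; done)
      have ecomm : ρ g (ρ (sw fr 0) v) = ρ (sw fr 0) (ρ g v) := by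
        rw [← rho_mul, ← rho_mul]
        congr 2
        have e3 := hg'.unique hg (fun _ _ => rfl)
        calc g * sw fr 0 = sw fr 0 * g * (sw fr 0)⁻¹ * sw fr 0 := by rw [e3]
          _ = sw fr 0 * g := by group
      rw [ecomm, hev 2 3 h2m h3m (by omega) g hg, sgn, if_neg h23, neg_one_smul, map_neg, map_neg]
    -- the conjugate torus acts trivially
    set n := flip3 fr 3 z₀
    have hnf : fr.Fixes 2 n := fun i hi => flip3_fixes fr S.H h3m hz₀ hz₀q (by omega) (by omega)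
    have hny : act n y = y := by rw [hy, act_smul, (hnf 1 (by omega)).1]
    have hnx : ρ n x ∈ Eig ρ ψ fr 0 y := by
      have := map_Eig ρ ψ fr S.H h0m (c := (1 : F))
        (fun i hi => hnf.scales i (by omega)) one_ne_zero (by rw [one_smul]; exact (hnf 0 (by omega)).1) hx
      rwa [inv_one, one_smul, hny] at this
    obtain ⟨a, ha⟩ := exists_scalar ρ ψ h1 hx hne hnx
    obtain ⟨h, hh⟩ := exists_pm2 fr S.H h2m h3m (by omega) ht
    have hx2 : ∀ w ∈ fr.W (2 + 1), op ρ (fr.a 2) w x = x := fun w hw =>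
      trivial_of_torus ρ ψ S.H h0m hyW (by omega) h1 h2m (by omega) rfl
        (by rw [hy, QuadraticMap.polar_smul_right, (fr.orth 2 (0 + 1) h2m h1m (by omega)).1.2, smul_zero])
        ⟨fr.a_mem h2m (by omega), fr.quad_a h2m,
          by rw [hy, QuadraticMap.polar_smul_right, fr.aa h2m h1m, smul_zero],
          fr.W_mono (by omega) hw,
          by rw [hy, QuadraticMap.polar_smul_left, fr.polar_a (by omega : 0 + 1 < 2 + 1) hw, smul_zero],
          fr.polar_a (by omega : 2 < 2 + 1) hw⟩ x hx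
    have hx3 : op ρ (fr.a 3) (-fr.b 2) x = x :=
      trivial_of_torus ρ ψ S.H h0m hyW (by omega) h1 h3m (by omega) rfl
        (by rw [hy, QuadraticMap.polar_smul_right, (fr.orth 3 (0 + 1) h3m h1m (by omega)).1.2, smul_zero])
        ⟨fr.a_mem h3m (by omega), fr.quad_a h3m,
          by rw [hy, QuadraticMap.polar_smul_right, fr.aa h3m h1m, smul_zero],
          neg_mem (fr.b_mem h2m (by omega)),
          by rw [hy, QuadraticMap.polar_smul_left, QuadraticMap.polar_neg_right,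
            (fr.orth 1 2 (by omega) h2m (by omega)).2.1, neg_zero, smul_zero],
          by rw [QuadraticMap.polar_neg_right, (fr.orth 3 2 h3m h2m (by omega)).2.1, neg_zero]⟩ x hx
    have hhx : ρ h x = x :=
      pm2_fixed ρ fr S.H (j := 2) h3m (fun r => hx2 _ (Submodule.smul_mem _ _ (fr.b_mem h3m le_rfl)))
        (sw_fixed ρ fr (hx2 _ (fr.b_mem h3m le_rfl)) hx3) ht hh
    have hng : n * g = h * n := by
      refine fr.ext_act (fun k hk => ?_) fun w hw => ?_
      · rcases eq_or_ne k 3 with rfl | hk3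
        · rw [act_mul, act_mul, act_mul, act_mul, hg.a 3 hk, hg.b 3 hk, act_smul, act_smul,
            (flip3_a fr S.H h3m hz₀ hz₀q).1, (flip3_a fr S.H h3m hz₀ hz₀q).2, act_smul, act_smul,
            hh.a 3 hk, hh.b 3 hk, smul_smul, smul_smul, smul_smul, smul_smul]
          simp [two2, pm2, mul_comm]
        · obtain ⟨f1, f2⟩ := flip3_fixes fr S.H h3m hz₀ hz₀q hk hk3
          rw [act_mul, act_mul, act_mul, act_mul, hg.a k hk, hg.b k hk, f1, f2, act_smul, act_smul, f1, f2,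
            hh.a k hk, hh.b k hk]
          simp [two2, pm2, hk3]
      · have hnw : act n w ∈ fr.W m := by
          rw [flip3_kernel fr S.H h3m hz₀ hw hz₀q]
          exact sub_mem hw (Submodule.smul_mem _ _ hz₀)
        rw [act_mul, act_mul, hg.fix w hw, hh.fix _ hnw]
    have e := congrArg (fun k => ρ k x) hng
    simp only [rho_mul] at e
    rw [hgx, map_neg, ← ha, map_smul, hhx] at e
    have h2a : (2 * a : ℂ) • x = 0 := by linear_combination (norm := module) -e
    rcases smul_eq_zero.1 h2a with h4 | h4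
    · have ha0 : a = 0 := by simpa using h4
      rw [ha0, zero_smul] at ha
      exact hne (rho_injective ρ n (by rw [← ha, map_zero]))
    · exact hne h4
  obtain ⟨g, hg⟩ := exists_two2 fr S.H h0m h1m (by omega) ht
  obtain ⟨h, hh⟩ := exists_pm2 fr S.H h0m h1m (by omega) ht
  have hhv : ρ h v = v := pm2_fixed ρ fr S.H h1m
    (fun r => S.op_fix hv h0m (Submodule.smul_mem _ _ (fr.b_mem h1m le_rfl))) hσ ht hh
  have hgh := (hg.mul hh).congr (d' := one1 0 (t * t)) fun k _ => by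
    simp only [two2, pm2, one1]
    split_ifs <;> first | omega | (field_simp; ring) | (simp_all; done)
  have e := S.tau' h0m ht hgh hv
  rw [rho_mul, hhv, hev 0 1 h0m h1m (by omega) g hg, sgn, if_neg h01, neg_one_smul] at e
  exact hv0 ((smul_eq_zero.1 (show (2 : ℂ) • v = 0 by linear_combination (norm := module) -e)).resolve_left
    two_ne_zero)

/-- A single differing position gives too many eigenvectors. -/
theorem Ctx.single_false {t : F} (ht : t ≠ 0) {φ : ℕ → Bool} (h : EV ρ fr t φ) {k : ℕ} (hk : k < m)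
    (hsingle : ∀ l, l < m → l ≠ k → φ l ≠ φ k) : False := by
  classical
  have hm := S.hm
  have hsgn : ∀ p : Fin m, ∃ v ∈ Cs ρ fr (m - 1), v ≠ 0 ∧ ∀ a b, a < m → b < m → a ≠ b → ∀ g : Om,
      Diag fr g (two2 a b t) → ρ g v = (if a = p.1 ∨ b = p.1 then (-1 : ℂ) else 1) • v := by
    intro p
    obtain ⟨v, hv, hv0, hev⟩ := S.EV_swap' h p.2 hk
    refine ⟨v, hv, hv0, fun a b ha hb hab g hg => ?_⟩
    rw [hev a b ha hb hab g hg, sgn]
    congr 1
    set σ := Equiv.swap p.1 k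
    have hlt : ∀ x, x < m → σ x < m := fun x hx => by
      simp only [σ, Equiv.swap_apply_def]; split_ifs <;> omega
    have hiff : ∀ x, σ x = k ↔ x = p.1 := fun x => by
      rw [Equiv.swap_apply_eq_iff, Equiv.swap_apply_right]
    by_cases ha' : a = p.1
    · rw [if_pos (Or.inl ha'), if_neg]
      intro e
      refine hsingle (σ b) (hlt b hb) (fun e' => hab ?_) ?_
      · rw [ha', (hiff b).1 e']
      · rw [← (hiff a).2 ha']; exact e.symm
    by_cases hb' : b = p.1
    · rw [if_pos (Or.inr hb'), if_neg]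
      intro e
      refine hsingle (σ a) (hlt a ha) (fun e' => ha' ((hiff a).1 e')) ?_
      rw [← (hiff b).2 hb']; exact e
    · rw [if_neg (not_or.2 ⟨ha', hb'⟩), if_pos]
      have h1 := hsingle (σ a) (hlt a ha) (fun e' => ha' ((hiff a).1 e'))
      have h2 := hsingle (σ b) (hlt b hb) (fun e' => hb' ((hiff b).1 e'))
      revert h1 h2
      cases φ (σ a) <;> cases φ (σ b) <;> cases φ k <;> simp
  choose vv hvC hv0 hvev using hsgn
  have hli : LinearIndependent ℂ (fun p : Fin m => (⟨vv p, hvC p⟩ : Cs ρ fr (m - 1))) := by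
    rw [Fintype.linearIndependent_iff]
    intro c hc p
    obtain ⟨q, hq, hqp⟩ : ∃ q, q < m ∧ q ≠ p.1 := by
      rcases eq_or_ne p.1 0 with e | e
      · exact ⟨1, by omega, by omega⟩
      · exact ⟨0, by omega, fun h => e h.symm⟩
    obtain ⟨l, hl, hlp, hlq⟩ : ∃ l, l < m ∧ l ≠ p.1 ∧ l ≠ q := by
      by_cases e0 : p.1 ≠ 0 ∧ q ≠ 0
      · exact ⟨0, by omega, e0.1.symm, e0.2.symm⟩
      by_cases e1 : p.1 ≠ 1 ∧ q ≠ 1
      · exact ⟨1, by omega, e1.1.symm, e1.2.symm⟩
      exact ⟨2, by omega, by omega, by omega⟩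
    obtain ⟨g, hg⟩ := exists_two2 fr S.H p.2 hq hqp.symm ht
    obtain ⟨g', hg'⟩ := exists_two2 fr S.H p.2 hl hlp.symm ht
    have hc' : ∑ i : Fin m, c i • vv i = 0 := by simpa using congrArg Subtype.val hc
    let T : Module.End ℂ E := (1 - ρ g') * (1 - ρ g)
    have hT : ∀ i : Fin m, T (vv i) = (if i = p then (4 : ℂ) else 0) • vv i := by
      intro i
      simp only [T, Module.End.mul_apply, LinearMap.sub_apply, Module.End.one_apply, map_sub,
        hvev i p.1 q p.2 hq hqp.symm g hg, map_smul, hvev i p.1 l p.2 hl hlp.symm g' hg']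
      rcases eq_or_ne i p with rfl | hip
      · simp only [true_or, ↓reduceIte]; module
      · have hne : p.1 ≠ i.1 := fun e => hip (Fin.ext e.symm)
        simp only [hip, hne, false_or, ↓reduceIte]
        split_ifs with e1 e2
        · omega
        all_goals module
    have h4 := congrArg T hc'
    simp only [map_sum, map_smul, hT, map_zero, ite_smul, zero_smul, smul_ite, smul_zero,
      Finset.sum_ite_eq', Finset.mem_univ, if_true, smul_smul, smul_eq_zero, hv0 p, or_false,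
      mul_eq_zero, OfNat.ofNat_ne_zero] at h4
    exact h4
  have := hli.fintype_card_le_finrank
  rw [Fintype.card_fin] at this
  have := S.up
  omega

/-- All tori of pairs act trivially. -/
theorem Ctx.two2_trivial {t : F} (ht : t ≠ 0) {p q : ℕ} (hp : p < m) (hq : q < m) (hpq : p ≠ q) {g : Om}
    (hg : Diag fr g (two2 p q t)) {v : E} (hv : v ∈ Cs ρ fr (m - 1)) : ρ g v = v := by
  by_contra hne
  have hm := S.hm
  obtain ⟨φ, hφ, hpq'⟩ := S.exists_EV ht hp hq hpq hg hv hne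
  by_cases hs : ∃ k, k < m ∧ ∀ l, l < m → l ≠ k → φ l ≠ φ k
  · obtain ⟨k, hk, hk'⟩ := hs
    exact S.single_false ht hφ hk hk'
  push Not at hs
  -- bring two differing pairs to the front
  obtain ⟨p₁, hp₁, hp₁0, hφ1⟩ : ∃ k, k < m ∧ k ≠ 0 ∧ φ k ≠ φ 0 := by
    rcases eq_or_ne (φ p) (φ 0) with e | e
    · exact ⟨q, hq, fun h => hpq' (by rw [h, e]), fun h => hpq' (by rw [e, h])⟩
    · exact ⟨p, hp, fun h => e (by rw [h]), e⟩
  have h1 := S.EV_swap' hφ (a := 1) (b := p₁) (by omega) hp₁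
  obtain ⟨q₁, hq₁, hq₁0, hφq⟩ := hs 0 (by omega)
  obtain ⟨q₂, hq₂, hq₂p, hφq₂⟩ := hs p₁ hp₁
  set φ₁ : ℕ → Bool := fun k => φ (Equiv.swap 1 p₁ k) with hφ₁
  set s₁ := Equiv.swap 1 p₁ q₁ with hs₁
  set s₂ := Equiv.swap 1 p₁ q₂ with hs₂
  have e0 : φ₁ 0 = φ 0 := by
    simp only [φ₁]; rw [Equiv.swap_apply_of_ne_of_ne (by omega) hp₁0.symm]
  have e1 : φ₁ 1 = φ p₁ := by simp only [φ₁]; rw [Equiv.swap_apply_left]
  have es₁ : φ₁ s₁ = φ 0 := by simp only [φ₁, hs₁, Equiv.swap_apply_self, hφq]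
  have es₂ : φ₁ s₂ = φ p₁ := by simp only [φ₁, hs₂, Equiv.swap_apply_self, hφq₂]
  have hq₂0 : q₂ ≠ 0 := fun e => hφ1 (by rw [← hφq₂, e])
  have hq₁p : q₁ ≠ p₁ := fun e => hφ1 (by rw [← e, hφq])
  have hlt : ∀ x, x < m → Equiv.swap 1 p₁ x < m := fun x hx => by
    rw [Equiv.swap_apply_def]; split_ifs <;> omega
  have hge : ∀ x, x ≠ 0 → x ≠ p₁ → 2 ≤ Equiv.swap 1 p₁ x := fun x h0 hp => by
    rw [Equiv.swap_apply_def]; split_ifs <;> omega
  have hs₁2 : 2 ≤ s₁ := hge q₁ hq₁0 hq₁p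
  have hs₂2 : 2 ≤ s₂ := hge q₂ hq₂0 hq₂p
  have hs₁m : s₁ < m := hlt q₁ hq₁
  have hs₂m : s₂ < m := hlt q₂ hq₂
  have hne12 : s₁ ≠ s₂ := fun e => hφ1 (by rw [← es₂, ← e, es₁])
  have h2 := S.EV_swap' h1 (a := 2) (b := s₁) (by omega) hs₁m
  set φ₂ : ℕ → Bool := fun k => φ₁ (Equiv.swap 2 s₁ k) with hφ₂
  set s₃ := Equiv.swap 2 s₁ s₂ with hs₃
  have f0 : φ₂ 0 = φ 0 := by
    simp only [φ₂]; rw [Equiv.swap_apply_of_ne_of_ne (by omega) (by omega), e0]
  have f1 : φ₂ 1 = φ p₁ := by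
    simp only [φ₂]; rw [Equiv.swap_apply_of_ne_of_ne (by omega) (by omega), e1]
  have f2 : φ₂ 2 = φ 0 := by simp only [φ₂]; rw [Equiv.swap_apply_left, es₁]
  have fs : φ₂ s₃ = φ p₁ := by simp only [φ₂, hs₃, Equiv.swap_apply_self, es₂]
  have hs₃3 : 3 ≤ s₃ := by rw [hs₃, Equiv.swap_apply_def]; split_ifs <;> omega
  have hs₃m : s₃ < m := by rw [hs₃, Equiv.swap_apply_def]; split_ifs <;> omega
  have h3 := S.EV_swap' h2 (a := 3) (b := s₃) (by omega) hs₃m
  refine S.rule ht h3 (by omega) ?_ ?_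
  · rw [Equiv.swap_apply_of_ne_of_ne (by omega) (by omega), Equiv.swap_apply_of_ne_of_ne (by omega) (by omega)]
    show φ₂ 0 ≠ φ₂ 1
    rw [f0, f1]
    exact Ne.symm hφ1
  · rw [Equiv.swap_apply_of_ne_of_ne (by omega) (by omega), Equiv.swap_apply_left]
    show φ₂ 2 ≠ φ₂ s₃
    rw [f2, fs]
    exact Ne.symm hφ1

/-- The components at the last level vanish. -/
theorem Ctx.last_comp {v : E} (hv : v ∈ Cs ρ fr (m - 1)) {j : ℕ} (hj : j + 2 = m) {r : F} (hr : r ≠ 0) :
    prj ρ ψ fr j (r • fr.a (j + 1)) (ρ (sw fr j) v) = 0 := by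
  classical
  by_contra hne
  have hj1 : j + 1 < m := by omega
  have hj' : j < m := by omega
  obtain ⟨z₀, hz₀, hz₀q⟩ := S.kz
  obtain ⟨ν, hν, hνQ⟩ := S.val
  set y := r • fr.a (j + 1) with hy
  have haW := fr.a_mem hj1 (le_refl (j + 1))
  have hbW := fr.b_mem hj1 (le_refl (j + 1))
  have hyW : y ∈ fr.W (j + 1) := Submodule.smul_mem _ _ haW
  set x := prj ρ ψ fr j y (ρ (sw fr j) v) with hx
  have hxE : x ∈ Eig ρ ψ fr j y := prj_mem ρ ψ fr S.H hj' y (S.sw_mem hv hj1)
  set fr' := fr.rev (j + 1)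
  have ea : fr'.a j = fr.a j := if_neg (by omega)
  have eb : fr'.b (j + 1) = fr.a (j + 1) := if_pos rfl
  have ea' : fr'.a (j + 1) = fr.b (j + 1) := if_pos rfl
  have hu' : ∀ s : F, op ρ (fr'.a j) (s • fr'.b (j + 1)) x = x := fun s => by
    rw [ea, eb, hxE.2 _ (Submodule.smul_mem _ _ haW), hy, QuadraticMap.polar_smul_left,
      QuadraticMap.polar_smul_right, fr.aa hj1 hj1]
    simp
  have hT : ∀ s : F, s ≠ 0 → ∀ h : Om, Diag fr' h (pm2 j (j + 1) s) → ρ h x = x := by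
    intro s hs h hh
    have hd : Diag fr h (two2 j (j + 1) s) := by
      refine ⟨fun k hk => by unfold two2; split_ifs <;> simp [hs], fun k hk => ?_, fun k hk => ?_,
        fun w hw => hh.fix w (by rw [rev_W]; exact hw)⟩
      · rcases eq_or_ne k (j + 1) with rfl | h1
        · have := hh.b (j + 1) hk
          rw [eb] at this
          rw [this]
          simp [pm2, two2]
        · have := hh.a k hk
          rw [show fr'.a k = fr.a k from if_neg h1] at this
          rw [this]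
          simp [pm2, two2, h1]
      · rcases eq_or_ne k (j + 1) with rfl | h1
        · have := hh.a (j + 1) hk
          rw [ea'] at this
          rw [this]
          simp [pm2, two2]
        · have := hh.b k hk
          rw [show fr'.b k = fr.b k from if_neg h1] at this
          rw [this]
          simp [pm2, two2, h1]
    have hc : two2 j (j + 1) s j = s := by simp [two2]
    have e := prj_map' ρ ψ fr S.H hj' (hd.scales (by omega)) hs (by rw [hd.a j hj', hc]) y (ρ (sw fr j) v)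
    have hgy : s⁻¹ • act h y = y := by
      rw [hy, act_smul, hd.a (j + 1) hj1]
      simp [two2, smul_smul]
      congr 1
      field_simp
    rw [hgy] at e
    rw [hx, e]
    congr 1
    have hd' := (sw_diag fr S.H hj1 hd).congr (d' := two2 j (j + 1) s) fun k _ => by
      show two2 j (j + 1) s (Equiv.swap j (j + 1) k) = _
      rw [two2_swap, Equiv.swap_apply_left, Equiv.swap_apply_right, two2_comm]
    have e3 := hd'.unique hd (fun _ _ => rfl)
    rw [show ρ h (ρ (sw fr j) v) = ρ (sw fr j) (ρ h v) by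
        rw [← rho_mul, ← rho_mul, show h * sw fr j = sw fr j * h from by
          calc h * sw fr j = sw fr j * h * (sw fr j)⁻¹ * sw fr j := by rw [e3]
            _ = sw fr j * h := by group],
      S.two2_trivial hs hj' hj1 (by omega) hd hv]
  set c := -ν / r with hc
  have hc0 : c ≠ 0 := div_ne_zero (neg_ne_zero.2 hν) hr
  set σ := sw fr' j with hσ
  have hsum : ∑ s : F, ψ (-(s * c)) • op ρ (fr'.a j) (s • fr'.b (j + 1)) (ρ σ x) = 0 := by
    have hσC : ρ σ x ∈ Cs ρ fr j := by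
      refine map_Cs ρ fr S.H (by omega) (Frame.Fixes.scales fun i hi => ?_) hxE.1
      have h1 := sw_fixes fr' S.H hj1 i hi
      rwa [show fr'.a i = fr.a i from if_neg (by omega), show fr'.b i = fr.b i from if_neg (by omega)] at h1
    simp only [ea, eb]
    refine char_sum_eq_zero ρ ψ fr S.hψ S.H hj' haW c (ρ σ x) fun z hz hzc => ?_
    by_contra hzne
    have hzb : B z (fr.b (j + 1)) = r := by
      refine sub_eq_zero.1 (eq_zero_of_char ψ S.hψ fun s => ?_)
      have hok : OK Q (fr.a j) (s • fr.b (j + 1)) := ok_up fr S.H hj1 s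
      have h := op_conj ρ S.H σ hok x
      rw [hxE.2 _ (Submodule.smul_mem _ _ hbW), map_smul,
        show act σ (fr.a j) = fr.b (j + 1) by rw [← ea, hσ, sw_a fr' S.H hj1, ea'],
        act_smul, show act σ (fr.b (j + 1)) = -fr.a j by rw [← ea', hσ, sw_a' fr' S.H hj1, ea],
        op, elt_swap S.H (fr.quad_b hj1) (by simp [QuadraticMap.map_neg, fr.quad_a hj', QuadraticMap.map_smul])
          (by simp [QuadraticMap.polar_smul_right, QuadraticMap.polar_neg_right,
            (fr.orth (j + 1) j hj1 hj' (by omega)).1.2]),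
        show s • -fr.a j = (-s) • fr.a j by module,
        elt_smul_left S.H ⟨fr.quad_a hj', by
          rw [QuadraticMap.polar_neg_right, (fr.orth j (j + 1) hj' hj1 (by omega)).2.1, neg_zero]⟩,
        smul_neg, ← neg_smul, neg_neg] at h
      by_contra hcon
      refine hzne (prj_ne_char ρ ψ fr S.hψ S.H hj' (Submodule.smul_mem _ s hbW) h fun e => hcon ?_)
      rw [mul_sub, sub_eq_add_neg, AddChar.map_add_eq_mul,
        show s * r = B y (s • fr.b (j + 1)) by
          rw [hy, QuadraticMap.polar_smul_left, QuadraticMap.polar_smul_right, fr.ab hj1]; simp [mul_comm],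
        show s * B z (fr.b (j + 1)) = B z (s • fr.b (j + 1)) by
          rw [QuadraticMap.polar_smul_right, smul_eq_mul],
        e, ← AddChar.map_add_eq_mul, add_neg_cancel, AddChar.map_zero_eq_one]
    have hz0 : z ≠ 0 := fun e => hc0 (by rw [← hzc, e, QuadraticMap.polar_zero_left])
    have hzq : Q z = 0 := by
      by_contra hq
      have h1 := prj_mem ρ ψ fr S.H hj' z hσC
      rw [S.thin.only j hj' z hz hz0 hq, Submodule.mem_bot] at h1
      exact hzne h1
    have hp := fr.proj_mem hj1 hz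
    have hpm : fr.proj (j + 1) z ∈ fr.W m := by rwa [show j + 1 + 1 = m by omega] at hp
    refine hνQ _ hpm ?_
    have hqs := fr.quad_split hj1 ⟨z, hz⟩
    change Q z = B (fr.b (j + 1)) z * B (fr.a (j + 1)) z + Q (fr.proj (j + 1) z) at hqs
    rw [hzq, QuadraticMap.polar_comm _ (fr.b (j + 1)), QuadraticMap.polar_comm _ (fr.a (j + 1)), hzb, hzc,
      hc] at hqs
    field_simp at hqs
    linear_combination -hqs
  have hfix := hecke_fix ρ ψ fr' S.hψ S.H hj1 hu' hT hc0 hsum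
  have hzW : z₀ ∈ fr.W (j + 1) := fr.W_mono (by omega) hz₀
  have hbz : op ρ (fr.b (j + 1)) z₀ x = x := by
    have h := op_conj ρ S.H σ (fr.ok hj' hzW) x
    rw [hxE.2 _ hzW, hy, QuadraticMap.polar_smul_left, fr.polar_a hj1 hz₀, smul_zero,
      AddChar.map_zero_eq_one, one_smul,
      show act σ (fr.a j) = fr.b (j + 1) by rw [← ea, hσ, sw_a fr' S.H hj1, ea'],
      sw_kernel fr' S.H hj1 (by rw [rev_W]; exact hz₀), hfix] at h
    exact h
  have hok : OK Q (fr.b (j + 1)) z₀ := ⟨fr.quad_b hj1, fr.polar_b hj1 hz₀⟩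
  have hf := fr.fixes_elt S.H hbW hzW hok
  have hmap := map_Eig ρ ψ fr S.H hj' hf.scales one_ne_zero
    (by rw [one_smul]; exact (hf j (by omega)).1) hxE
  rw [inv_one, one_smul, show ρ (elt (fr.b (j + 1)) z₀) x = x from hbz] at hmap
  set y' := act (elt (fr.b (j + 1)) z₀ : Om) y with hy'
  have hyy : y ≠ y' := fun e => by
    have h2 := congrArg (B z₀) e
    rw [hy', act_elt S.H hok, hy] at h2
    simp [QuadraticMap.polar_add_right, QuadraticMap.polar_sub_right, QuadraticMap.polar_smul_right,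
      QuadraticMap.polar_comm _ z₀ (fr.a (j + 1)), fr.polar_a hj1 hz₀,
      QuadraticMap.polar_comm _ z₀ (fr.b (j + 1)), fr.polar_b hj1 hz₀, fr.ba hj1, polar_self2, hr] at h2
    have htwo : (2 : F) ≠ 0 := fun e2 => by
      -- in characteristic two every value is a square multiple
      obtain ⟨s, hs⟩ := FiniteField.isSquare_of_char_two
        (ringChar.eq_iff.2 ((CharP.charP_iff_prime_eq_zero Nat.prime_two).2 (by exact_mod_cast e2)))
        (ν / Q z₀)
      refine hνQ (s • z₀) (Submodule.smul_mem _ _ hz₀) ?_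
      rw [QuadraticMap.map_smul, smul_eq_mul, ← hs, div_mul_cancel₀ _ hz₀q]
    rcases h2 with h2 | h2
    · exact htwo h2
    · exact hz₀q h2
  have hy'W : y' ∈ fr.W (j + 1) := (hf.scales j (by omega)).2 y hyW
  have h := prj_other ρ ψ fr S.hψ S.H hj' hyW hy'W hyy hmap
  rw [prj_self ρ ψ fr hxE] at h
  exact hne h

/-- The situation is contradictory. -/
theorem Ctx.false [ρ.IsIrreducible] {g₀ : Om} (hg₀ : ρ g₀ ≠ 1) : False := by
  classical
  have hm := S.hm
  have hF := S.hF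
  obtain ⟨z₀, hz₀, hz₀q⟩ := S.kz
  let f : Cs ρ fr (m - 1) →ₗ[ℂ] ((i : Fin (m - 2)) → Eig ρ ψ fr i.1 (fr.a (i.1 + 1))) :=
    LinearMap.pi fun i => LinearMap.codRestrict _
      ((prj ρ ψ fr i.1 (fr.a (i.1 + 1))).comp ((ρ (sw fr i.1)).comp (Cs ρ fr (m - 1)).subtype))
      fun u => prj_mem ρ ψ fr S.H (by omega) _ (S.sw_mem u.2 (by omega))
  obtain ⟨v, hvk, hv0⟩ : ∃ v, v ∈ LinearMap.ker f ∧ v ≠ 0 := by
    refine Submodule.exists_mem_ne_zero_of_ne_bot fun e => ?_
    have h := LinearMap.finrank_le_finrank_of_injective (LinearMap.ker_eq_bot.1 e)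
    rw [Module.finrank_pi_fintype] at h
    have h2 : ∑ i : Fin (m - 2), finrank ℂ (Eig ρ ψ fr i.1 (fr.a (i.1 + 1))) ≤ ∑ _i : Fin (m - 2), 1 :=
      Finset.sum_le_sum fun i _ => S.thin.le_one _ (by omega) _ (fr.a_mem (by omega) le_rfl) fun e => by
        have := fr.ba (by omega : i.1 + 1 < m)
        simp [e] at this
    rw [Finset.sum_const, Finset.card_univ, Fintype.card_fin, smul_eq_mul, mul_one] at h2
    have := S.low
    omega
  have hvC : (v : E) ∈ Cs ρ fr (m - 1) := v.2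
  have hsw : ∀ i, i + 1 < m → ρ (sw fr i) (v : E) = v := by
    intro i hi
    refine S.no_comp hvC hi fun r hr => ?_
    rcases eq_or_ne (i + 2) m with h | h
    · exact S.last_comp hvC h hr
    have h0 : prj ρ ψ fr i (fr.a (i + 1)) (ρ (sw fr i) (v : E)) = 0 :=
      congrArg Subtype.val (congrFun (LinearMap.mem_ker.1 hvk) ⟨i, by omega⟩)
    obtain ⟨p, hp, hpi, hpi'⟩ : ∃ p, p < m ∧ p ≠ i ∧ p ≠ i + 1 := ⟨i + 2, by omega, by omega, by omega⟩
    obtain ⟨g, hg⟩ := exists_two2 fr S.H (by omega : i < m) hp hpi.symm (inv_ne_zero hr)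
    have hgi : two2 i p r⁻¹ i = r⁻¹ := by simp [two2]
    have e := prj_map' ρ ψ fr S.H (by omega : i < m) (hg.scales (by omega)) (inv_ne_zero hr)
      (by rw [hg.a i (by omega), hgi]) (fr.a (i + 1)) (ρ (sw fr i) (v : E))
    have hga : act g (fr.a (i + 1)) = fr.a (i + 1) := by
      rw [hg.a (i + 1) hi]; simp [two2, hpi'.symm]
    rw [h0, map_zero, hga, inv_inv] at e
    have hg' := (sw_diag fr S.H hi hg).congr (d' := two2 (i + 1) p r⁻¹) fun k _ => by
      show two2 i p r⁻¹ (Equiv.swap i (i + 1) k) = _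
      rw [two2_swap, Equiv.swap_apply_left, Equiv.swap_apply_of_ne_of_ne hpi hpi']
    have hcomm : ρ g (ρ (sw fr i) (v : E)) =
        ρ (sw fr i) (ρ (sw fr i * g * (sw fr i)⁻¹) (v : E)) := by
      rw [← rho_mul, ← rho_mul]
      congr 2
      rw [← mul_assoc, ← mul_assoc, ← hg.commute (sw_sq fr S.H hi), ← mul_assoc, mul_inv_cancel_right]
    rw [hcomm, S.two2_trivial (inv_ne_zero hr) hi hp (Ne.symm hpi') hg' hvC] at e
    exact e.symm
  refine hv0 (Subtype.ext (eq_zero_of_fixed ρ hg₀ (fixed_all ρ fr S.H (by omega) (by omega) ?_ ?_)))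
  · exact fun w hw => fix_a0 ρ fr S.H (by omega) (Cs_mono ρ fr (by omega) hvC) hw
  · exact lower_fixed ρ fr S.H hz₀ hz₀q (fun i hi w hw => S.op_fix hvC hi hw) hsw
      (fun z hz => S.op_b_last hvC hz) (m - 1) 0 (by omega)

end Cfsg.Agent.Lie.OrthDeg
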