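import Cfsg.Agent.Lib.Lie.OrthDeg.OddCore
import Cfsg.Agent.Lib.Lie.OrthDeg.Models

/-! The bound on degrees over a frame with a line as kernel. -/

set_option autoImplicit false
set_option linter.unusedSectionVars false
set_option quotPrecheck false

noncomputable section

namespace Cfsg.Agent.Lie.OrthDeg

open Matrix Module Cfsg.Agent.Classical Cfsg.Agent.Classical.OrthAut

universe u v

variable {F : Type u} [Field F] [Fintype F] {ι : Type} [Fintype ι] [DecidableEq ι]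
  {Q : QuadraticForm F (ι → F)} {m : ℕ} (fr : Frame Q m)
variable {E : Type v} [AddCommGroup E] [Module ℂ E] [FiniteDimensional ℂ E]

local notation "V" => (ι → F)
local notation "B" => QuadraticMap.polar ⇑Q
local notation "Om" => Omega F ⇑Q

/-- Counts over a line. -/
theorem Frame.num_line (hW : Nat.card (fr.W m) = Fintype.card F) (h0 : fr.num m 0 = 1) :
    ∀ k j, j + k = m → (fr.num j 0 : ℤ) = (Fintype.card F : ℤ) ^ (2 * k) ∧
      ∀ c : F, c ≠ 0 → (fr.num j c : ℤ) =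
        (Fintype.card F : ℤ) ^ (2 * k) + ((fr.num m c : ℤ) - 1) * (Fintype.card F : ℤ) ^ k := by
  intro k
  induction k with
  | zero =>
    intro j hj
    obtain rfl : j = m := by omega
    exact ⟨by rw [h0]; simp, fun c _ => by ring⟩
  | succ k ih =>
    intro j hj
    have hjm : j < m := by omega
    obtain ⟨i1, i2⟩ := ih (j + 1) (by omega)
    have hcard := fr.card_W k (j + 1) (by omega)
    rw [hW] at hcard
    refine ⟨?_, fun c hc => ?_⟩
    · rw [fr.num_succ hjm, hcard]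
      push_cast [cast_pred_card, i1]
      ring
    · rw [fr.num_succ hjm, hcard]
      push_cast [cast_pred_card, i2 c hc]
      ring

/-- The degree bound for forms of odd dimension. -/
theorem odd_bound (H : Hyp Q) (hm : 3 ≤ m) (hF : 5 ≤ Fintype.card F) (h2 : (2 : F) ≠ 0)
    (hani : ∀ z ∈ fr.W m, Q z = 0 → z = 0) (hcard : Nat.card (fr.W m) = Fintype.card F)
    (ρ : Representation ℂ (Omega F ⇑Q) E) [ρ.IsIrreducible] {g₀ : Om} (hg₀ : ρ g₀ ≠ 1) :
    (Fintype.card F ^ (2 * m) - 1) / (Fintype.card F ^ 2 - 1) ≤ finrank ℂ E := by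
  classical
  obtain ⟨ψ, hψ1⟩ := (AddChar.exists_apply_ne_zero (a := (1 : F))).2 one_ne_zero
  have hψ : ψ ≠ 1 := fun e => hψ1 (by rw [e]; rfl)
  have h0 : fr.num m 0 = 1 := Nat.card_eq_one_iff_unique.2
    ⟨⟨fun x y => Subtype.ext (Subtype.ext ((hani x.1 x.1.2 x.2).trans (hani y.1 y.1.2 y.2).symm))⟩,
      ⟨⟨0, by simp⟩⟩⟩
  obtain ⟨K, rfl⟩ : ∃ K, m = K + 1 := ⟨m - 1, by omega⟩
  set q := Fintype.card F with hqdef
  have hnum := fr.num_line hcard h0
  rw [← hqdef] at hnum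
  -- the kernel
  haveI : Finite (fr.W (K + 1)) := Subtype.finite
  letI := Fintype.ofFinite (fr.W (K + 1))
  obtain ⟨z₀, hz₀, hz₀0⟩ : ∃ z ∈ fr.W (K + 1), z ≠ 0 := by
    by_contra hcon
    push Not at hcon
    have : Nat.card (fr.W (K + 1)) = 1 := Nat.card_eq_one_iff_unique.2
      ⟨⟨fun x y => Subtype.ext ((hcon x x.2).trans (hcon y y.2).symm)⟩, ⟨0⟩⟩
    omega
  have hz₀q : Q z₀ ≠ 0 := fun e => hz₀0 (hani z₀ hz₀ e)
  obtain ⟨ν, hν, hνQ⟩ : ∃ ν : F, ν ≠ 0 ∧ ∀ ζ ∈ fr.W (K + 1), Q ζ ≠ ν := by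
    have hns : ¬Function.Surjective (fun z : fr.W (K + 1) => Q (z : V)) := by
      intro hs
      have hb := (Fintype.bijective_iff_surjective_and_card _).2
        ⟨hs, by rw [← Nat.card_eq_fintype_card, hcard]⟩
      have e : (⟨z₀, hz₀⟩ : fr.W (K + 1)) = -⟨z₀, hz₀⟩ := hb.1 (QuadraticMap.map_neg Q z₀).symm
      have h3 : (2 : F) • z₀ = 0 := by
        have := congrArg Subtype.val e
        simp only [Submodule.coe_neg] at this
        linear_combination (norm := module) this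
      exact hz₀0 ((smul_eq_zero.1 h3).resolve_left h2)
    simp only [Function.Surjective, not_forall, not_exists] at hns
    obtain ⟨ν, hν⟩ := hns
    exact ⟨ν, fun e => hν 0 (by simp [e]), fun ζ hζ => hν ⟨ζ, hζ⟩⟩
  -- the bound as a sum over levels
  set S := ∑ i ∈ Finset.range K, (q ^ 2) ^ i with hS
  have hgeo : (q ^ 2 - 1) * (S + (q ^ 2) ^ K) = q ^ (2 * (K + 1)) - 1 := by
    have e1 : 1 ≤ q ^ 2 := Nat.one_le_pow _ _ (by omega)
    have e2 : 1 ≤ q ^ (2 * (K + 1)) := Nat.one_le_pow _ _ (by omega)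
    rw [hS, ← Finset.sum_range_succ]
    zify [e1, e2]
    rw [mul_geom_sum, ← pow_mul]
  have hq25 : 25 ≤ q ^ 2 := Nat.pow_le_pow_left hF 2
  rw [← hgeo, Nat.mul_div_cancel_left _ (by omega)]
  by_contra hcon
  push Not at hcon
  have hk : (finrank ℂ E : ℤ) < (S : ℤ) + (q : ℤ) ^ (2 * K) := by
    rw [← pow_mul] at hcon; exact_mod_cast hcon
  -- the top level
  have e1 := hnum K 1 (by omega)
  set Mtop := q ^ (2 * K) - q ^ K with hMtop
  have hpK : q ^ K ≤ q ^ (2 * K) := Nat.pow_le_pow_right (by omega) (by omega)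
  have htop : ∀ c : F, Mtop ≤ (fr.vals 0 c).card := by
    intro c
    zify [hMtop, hpK]
    rcases eq_or_ne c 0 with rfl | hc
    · rw [fr.card_vals_zero, zero_add, e1.1]
      have : (1 : ℤ) ≤ (q : ℤ) ^ K := one_le_pow₀ (by omega)
      omega
    · rw [fr.card_vals_ne 0 hc, zero_add, e1.2 c hc]
      have : (0 : ℤ) ≤ (fr.num (K + 1) c : ℤ) * (q : ℤ) ^ K := by positivity
      linarith
  have hk2 : finrank ℂ E < 2 * Mtop := by
    zify [hMtop, hpK]
    have h1 : 24 * (S : ℤ) ≤ (q : ℤ) ^ (2 * K) := by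
      have h : (S : ℤ) * ((q : ℤ) ^ 2 - 1) = (q : ℤ) ^ (2 * K) - 1 := by
        rw [hS, pow_mul]; push_cast; rw [geom_sum_mul]
      have h' : (25 : ℤ) ≤ (q : ℤ) ^ 2 := by exact_mod_cast hq25
      nlinarith [mul_nonneg (by positivity : (0 : ℤ) ≤ S) (sub_nonneg.2 h')]
    have h3 : (25 : ℤ) ≤ (q : ℤ) ^ K :=
      (by exact_mod_cast hq25 : (25 : ℤ) ≤ (q : ℤ) ^ 2).trans (pow_le_pow_right₀ (by omega) (by omega))
    have h4 : (q : ℤ) ^ (2 * K) = (q : ℤ) ^ K * (q : ℤ) ^ K := by rw [two_mul, pow_add]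
    nlinarith
  have hx2 : fr.W 2 ≠ ⊥ := fun e => by
    have h := fr.a_mem (by omega : 2 < K + 1) (le_refl 2)
    rw [e, Submodule.mem_bot] at h
    have := fr.ba (by omega : 2 < K + 1)
    simp [h] at this
  obtain ⟨c, hc0, T, hone⟩ := exists_thin ρ ψ fr hψ H hm hx2 hg₀ Mtop htop hk2
  obtain rfl : c = 0 := hc0 (by omega)
  have hlev := levels_torus ρ ψ fr hψ H (by omega) T fun y hy => by
    rw [← Submodule.one_le_finrank_iff, hone y hy]
  have hlow := sum_levels_le ρ ψ fr hψ H (0 : F) K (by omega) (fun j hj => hlev j (by omega))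
  have hcnt : ((∑ j ∈ Finset.range K, (fr.vals j (0 : F)).card : ℕ) : ℤ) = (S : ℤ) + (q : ℤ) ^ (2 * K) - 1 - K := by
    push_cast
    rw [Finset.sum_congr rfl fun j _ => fr.card_vals_zero j, Finset.sum_sub_distrib, Finset.sum_const,
      Finset.card_range, nsmul_eq_mul, mul_one,
      sum_levels_eq (fun j => (fr.num (j + 1) 0 : ℤ)) (fun i => (q : ℤ) ^ (2 * (i + 1))) K fun j hj => by
        rw [(hnum (K - j) (j + 1) (by omega)).1, show K - 1 - j + 1 = K - j by omega]]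
    have h : ∑ i ∈ Finset.range (K + 1), (q : ℤ) ^ (2 * i) = (S : ℤ) + (q : ℤ) ^ (2 * K) := by
      rw [Finset.sum_range_succ, hS]; push_cast; simp only [pow_mul]
    rw [Finset.sum_range_succ'] at h
    simp only [mul_zero, pow_zero] at h
    linarith
  -- the last fixed space
  obtain ⟨j₀, hj₀⟩ : ∃ j₀, j₀ + 3 = K + 1 := ⟨K - 2, by omega⟩
  have hya : fr.a (j₀ + 2) ∈ fr.vals j₀ (0 : F) := by
    refine (fr.mem_vals).2 ⟨fr.a_mem (by omega) (by omega), fun e => ?_, fr.quad_a (by omega)⟩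
    have := fr.ba (by omega : j₀ + 2 < K + 1)
    simp [e] at this
  have hyne := hlev j₀ (by omega) _ hya
  obtain ⟨u, hu, hu0⟩ := (Submodule.ne_bot_iff _).1 hyne
  obtain ⟨hyW, hy0, -⟩ := (fr.mem_vals).1 hya
  have hh1 : finrank ℂ (Eig ρ ψ fr j₀ (fr.a (j₀ + 2))) = 1 :=
    le_antisymm (T.le_one j₀ (by omega) _ hyW hy0) (Submodule.one_le_finrank_iff.2 hyne)
  have hl : j₀ + 1 < K + 1 := by omega
  have o := fr.orth (j₀ + 1) (j₀ + 2) hl (by omega) (by omega)
  have hd := last_Fx ρ ψ fr hψ H hj₀ T ⟨by omega, by omega⟩ hu hu0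
    (fun r => trivial_of_torus ρ ψ H (by omega) hyW (by omega) hh1 hl le_rfl rfl o.1.2
      ⟨fr.a_mem hl le_rfl, fr.quad_a hl, fr.aa hl (by omega),
        Submodule.smul_mem _ _ hyW,
        by rw [QuadraticMap.polar_smul_right, fr.aa (by omega) (by omega), smul_zero],
        by rw [QuadraticMap.polar_smul_right, fr.aa hl (by omega), smul_zero]⟩ u hu)
    (fun z hz => by
      have hsit : ∀ v ∈ fr.W (K + 1), Sit fr j₀ (fr.a (j₀ + 2)) (fr.a (j₀ + 2)) v := fun v hv =>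
        ⟨hyW, fr.quad_a (by omega), fr.aa (by omega) (by omega), fr.W_mono (by omega) hv,
          fr.polar_a (by omega) hv, fr.polar_a (by omega) hv⟩
      refine ⟨trivial_of_torus ρ ψ H (by omega) hyW (by omega) hh1 hl le_rfl rfl o.1.2
        ⟨fr.a_mem hl le_rfl, fr.quad_a hl, fr.aa hl (by omega), fr.W_mono (by omega) hz,
          fr.polar_a (by omega) hz, fr.polar_a hl hz⟩ u hu, ?_⟩
      refine trivial_of_room ρ ψ H (by omega) hyW hh1 hl le_rfl o.1.1 o.1.2 o.1.1 o.1.2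
        (hsit z₀ hz₀) (hsit z₀ hz₀) ⟨fr.polar_a hl hz₀, fr.polar_b hl hz₀⟩
        ⟨fr.polar_a hl hz₀, fr.polar_b hl hz₀⟩ ?_ (hsit z hz) u hu
      rw [polar_self2]
      exact mul_ne_zero h2 hz₀q)
  rw [show K + 1 - 1 = K by omega] at hd
  have hup : finrank ℂ (Cs ρ fr K) ≤ K := by
    have : ((∑ j ∈ Finset.range K, (fr.vals j (0 : F)).card : ℕ) : ℤ) + (finrank ℂ (Cs ρ fr K) : ℤ) ≤
        (finrank ℂ E : ℤ) := by exact_mod_cast hlow
    omega
  have heq : Fx ρ fr ⊓ Cs ρ fr K = Cs ρ fr K :=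
    Submodule.eq_of_le_of_finrank_le inf_le_right (hup.trans hd)
  exact Ctx.false (ρ := ρ) (ψ := ψ) (fr := fr)
    ⟨H, hψ, hm, hF, T, ⟨z₀, hz₀, hz₀q⟩, ⟨ν, hν, hνQ⟩,
      (le_of_eq heq.symm).trans inf_le_left, hd.trans (Submodule.finrank_mono inf_le_right), hup⟩ hg₀

/-! ### The model -/

omit [Fintype F] [Fintype ι] [DecidableEq ι] in
theorem hyp_odd {F : Type u} [Field F] [Fintype F] {n : ℕ} (hn : 3 ≤ n) (h2 : (2 : F) ≠ 0) :
    Hyp (qfOdd n F) :=
  ⟨nondegenerate_qfOdd n h2, tri_qfOdd hn, genQ_of_card (Or.inr (by simp; omega))⟩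

/-- The first half of the standard frame of the odd form. -/
def eOdd {n : ℕ} (j : Fin n) : Unit ⊕ (Fin n ⊕ Fin n) → F := Pi.single (Sum.inr (Sum.inl j)) 1

/-- The second half of the standard frame of the odd form. -/
def fOdd {n : ℕ} (j : Fin n) : Unit ⊕ (Fin n ⊕ Fin n) → F := Pi.single (Sum.inr (Sum.inr j)) 1

theorem polar_eOdd {n : ℕ} (j : Fin n) (x : Unit ⊕ (Fin n ⊕ Fin n) → F) :
    QuadraticMap.polar ⇑(qfOdd n F) (eOdd j) x = x (Sum.inr (Sum.inr j)) := by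
  simp [polar_qfOdd, eOdd, Pi.single_apply]

theorem polar_fOdd {n : ℕ} (j : Fin n) (x : Unit ⊕ (Fin n ⊕ Fin n) → F) :
    QuadraticMap.polar ⇑(qfOdd n F) (fOdd j) x = x (Sum.inr (Sum.inl j)) := by
  simp [polar_qfOdd, fOdd, Pi.single_apply]

/-- The standard frame of the odd form. -/
def frameOdd (n : ℕ) : Frame (qfOdd n F) n where
  a i := if h : i < n then eOdd ⟨i, h⟩ else 0
  b i := if h : i < n then fOdd ⟨i, h⟩ else 0
  pair i hi := by
    simp only [hi, ↓reduceDIte]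
    exact ⟨by simp [qfOdd_apply, quadFormOdd, eOdd],
      by simp [qfOdd_apply, quadFormOdd, fOdd],
      by rw [polar_eOdd, fOdd, Pi.single_eq_same]⟩
  orth i k hi hk hik := by
    simp only [hi, hk, ↓reduceDIte]
    refine ⟨⟨(polar_eOdd _ _).trans ?_, (polar_fOdd _ _).trans ?_⟩,
      (polar_eOdd _ _).trans ?_, (polar_fOdd _ _).trans ?_⟩ <;>
      simp [eOdd, fOdd, hik, Ne.symm hik]

theorem mem_frameOdd {n : ℕ} {z : Unit ⊕ (Fin n ⊕ Fin n) → F} :
    z ∈ (frameOdd n).W n ↔ ∀ x, z (Sum.inr x) = 0 := by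
  rw [Frame.mem_W]
  constructor
  · intro h x
    rcases x with i | i
    · have h' := (h i i.2).2
      simp only [frameOdd, i.2, ↓reduceDIte, Fin.eta] at h'
      rwa [polar_fOdd] at h'
    · have h' := (h i i.2).1
      simp only [frameOdd, i.2, ↓reduceDIte, Fin.eta] at h'
      rwa [polar_eOdd] at h'
  · intro h i hi
    simp only [frameOdd, hi, ↓reduceDIte]
    exact ⟨(polar_eOdd _ _).trans (h _), (polar_fOdd _ _).trans (h _)⟩

/-- The kernel of the standard frame is the line. -/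
def oddKernel (n : ℕ) : (frameOdd (F := F) n).W n ≃ F where
  toFun z := z.1 (Sum.inl ())
  invFun p := ⟨Sum.elim (fun _ => p) 0, mem_frameOdd.2 fun _ => rfl⟩
  left_inv z := Subtype.ext (funext fun x => by
    rcases x with x | x
    · rfl
    · exact (mem_frameOdd.1 z.2 x).symm)
  right_inv p := rfl

theorem frameOdd_counts (n : ℕ) :
    (∀ z ∈ (frameOdd (F := F) n).W n, qfOdd n F z = 0 → z = 0) ∧
      Nat.card ((frameOdd (F := F) n).W n) = Fintype.card F := by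
  refine ⟨fun z hz h => ?_, by rw [Nat.card_congr (oddKernel n), Nat.card_eq_fintype_card]⟩
  rw [qfOdd_apply, quadFormOdd, Finset.sum_eq_zero fun i _ => by
    rw [mem_frameOdd.1 hz (Sum.inl i), zero_mul], add_zero] at h
  funext x
  rcases x with x | x
  · exact pow_eq_zero_iff two_ne_zero |>.1 h
  · exact mem_frameOdd.1 hz x

/-- The minimal degree for the odd model. -/
theorem omega_odd_degree (n : ℕ) (hn : 3 ≤ n) (hodd : Odd (Fintype.card F)) (h3 : 3 < Fintype.card F)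
    (k : ℕ) (ρ : Representation ℂ (Cfsg.Omega F (Cfsg.quadFormOdd n F)) (Fin k → ℂ))
    (hirr : ρ.IsIrreducible) (hk : 2 ≤ k) :
    (Fintype.card F ^ (2 * n) - 1) / (Fintype.card F ^ 2 - 1) ≤ k := by
  revert ρ
  rw [← coe_qfOdd]
  intro ρ hirr
  obtain ⟨g₀, hg₀⟩ := exists_ne_one ρ hirr hk
  obtain ⟨r, hr⟩ := hodd
  have h2 : (2 : F) ≠ 0 := Ring.two_ne_zero fun e => by
    have := FiniteField.even_card_of_char_two e
    omega
  obtain ⟨h4, h5⟩ := frameOdd_counts (F := F) n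
  have := odd_bound (frameOdd n) (hyp_odd hn h2) hn (by omega) h2 h4 h5 ρ hg₀
  rwa [Module.finrank_fin_fun] at this

end Cfsg.Agent.Lie.OrthDeg
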