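import Cfsg.Agent.Lib.Lie.OrthDeg.Prep

/-! The bound on degrees over a frame with zero kernel. -/

set_option autoImplicit false
set_option linter.unusedSectionVars false
set_option quotPrecheck false

noncomputable section

namespace Cfsg.Agent.Lie.OrthDeg

open Matrix Module Cfsg.Agent.Classical Cfsg.Agent.Classical.OrthAut

universe u v

variable {F : Type u} [Field F] [Fintype F] {ι : Type} [Fintype ι] [DecidableEq ι]
  {Q : QuadraticForm F (ι → F)} {m : ℕ}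
variable {E : Type v} [AddCommGroup E] [Module ℂ E] [FiniteDimensional ℂ E]

local notation "V" => (ι → F)
local notation "B" => QuadraticMap.polar ⇑Q
local notation "Om" => Omega F ⇑Q

omit [Fintype F] [Fintype ι] [DecidableEq ι] in
theorem plus_arith {q k L r : ℤ} {M : ℕ} (hq : 4 ≤ q) (hM : 2 ≤ M) (hk : k + 1 ≤ 2 * q ^ (2 * M + 1))
    (hlow : q ^ (2 * M + 2) ≤ q * (k + 1)) (ht : q ∣ k + 1) (hd : k ∣ L * (k - q ^ (2 * M + 1)))
    (hL : q * L = (k + 1) * (q ^ (2 * M + 2) - 1)) (hk0 : 0 < k) (hr : r = q ^ (2 * M + 2) - 1) : False := by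
  obtain ⟨t, ht⟩ := ht
  have hcop : IsCoprime k q := ⟨-1, t, by linear_combination -ht⟩
  have h1 : k ∣ L * q ^ (2 * M + 1) := by
    have := dvd_sub (dvd_mul_left k L) hd
    rwa [show L * k - L * (k - q ^ (2 * M + 1)) = L * q ^ (2 * M + 1) by ring] at this
  have h2 : k ∣ L := (hcop.pow_right).dvd_of_dvd_mul_right h1
  have h3 : k ∣ r := by
    have := dvd_sub (Dvd.dvd.mul_left h2 q) (dvd_mul_right k r)
    rw [hL, ← hr, show (k + 1) * r - k * r = r by ring] at this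
    exact this
  obtain ⟨s, hs⟩ := h3
  have hpow : 0 < q ^ (2 * M + 1) := pow_pos (by omega) _
  have hsplit : q ^ (2 * M + 2) = q * q ^ (2 * M + 1) := by ring
  have hs1 : 1 ≤ s := by
    by_contra h
    have h' : k * s ≤ 0 := mul_nonpos_of_nonneg_of_nonpos hk0.le (by omega)
    nlinarith
  have hsq : s ≤ q := by
    by_contra h
    have : (q + 1) * k ≤ k * s := by nlinarith
    have : q ^ 2 ≤ q ^ (2 * M + 1) := pow_le_pow_right₀ (by omega) (by omega)
    nlinarith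
  have hdiv : q ∣ s - 1 := ⟨t * s - q ^ (2 * M + 1), by linear_combination s * ht - hs.symm.trans hr⟩
  obtain ⟨e, he⟩ := hdiv
  have he0 : e = 0 := by
    have h1 : q * e < q * 1 := by omega
    have h2 : q * (-1) < q * e := by omega
    have := lt_of_mul_lt_mul_left h1 (by omega)
    have := lt_of_mul_lt_mul_left h2 (by omega)
    omega
  rw [he0, mul_zero] at he
  have : s = 1 := by omega
  rw [this, mul_one] at hs
  nlinarith

omit [Fintype F] [Fintype ι] [DecidableEq ι] in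
theorem plus_small {q : ℤ} (hq : 2 ≤ q) (f : ℕ → ℤ) (M : ℕ)
    (hf : ∀ k, k < M → q * f k = q ^ (2 * (k + 1)) + q ^ (k + 1 + 1) - q ^ (k + 1)) :
    q * ∑ k ∈ Finset.range M, f k ≤ 2 * q ^ (2 * M) := by
  induction M with
  | zero => simp
  | succ M ih =>
    rw [Finset.sum_range_succ, mul_add, hf M (by omega)]
    have h1 := ih fun k hk => hf k (by omega)
    have h3 : 0 < q ^ (M + 1) := pow_pos (by omega) _
    have h4 : q ^ (M + 1) ≤ q ^ (2 * M + 1) := pow_le_pow_right₀ (by omega) (by omega)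
    have h5 : q ^ (M + 1 + 1) = q * q ^ (M + 1) := by ring
    have h6 : q ^ (2 * (M + 1)) = q * q ^ (2 * M + 1) := by ring
    have h7 : q ^ (2 * M + 1) = q * q ^ (2 * M) := by ring
    have h8 : 0 < q ^ (2 * M) := pow_pos (by omega) _
    have h9 : q * q ^ (M + 1) ≤ q * q ^ (2 * M + 1) := mul_le_mul_of_nonneg_left h4 (by omega)
    nlinarith [mul_le_mul_of_nonneg_left hq (by positivity : (0 : ℤ) ≤ q ^ (2 * M + 1))]

set_option maxHeartbeats 1000000 in
/-- The degree bound for forms of plus type. -/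
theorem plus_bound (H : Hyp Q) (fr : Frame Q m) (hm : 4 ≤ m) (hF : 4 ≤ Fintype.card F)
    (hW : ∀ z ∈ fr.W m, z = 0) (ρ : Representation ℂ (Omega F ⇑Q) E) [ρ.IsIrreducible] {g₀ : Om}
    (hg₀ : ρ g₀ ≠ 1) :
    (Fintype.card F ^ m - 1) * (Fintype.card F ^ (m - 1) + Fintype.card F) / (Fintype.card F ^ 2 - 1) ≤
      finrank ℂ E := by
  classical
  obtain ⟨ψ, hψ1⟩ := (AddChar.exists_apply_ne_zero (a := (1 : F))).2 one_ne_zero
  have hψ : ψ ≠ 1 := fun e => hψ1 (by rw [e]; rfl)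
  obtain ⟨M, rfl⟩ : ∃ M, m = M + 2 := ⟨m - 2, by omega⟩
  have hM : 2 ≤ M := by omega
  set q := Fintype.card F with hqdef
  have hq : (4 : ℤ) ≤ q := by exact_mod_cast hF
  have hcard : Nat.card (fr.W (M + 2)) = 1 := Nat.card_eq_one_iff_unique.2
    ⟨⟨fun x y => Subtype.ext ((hW x x.2).trans (hW y y.2).symm)⟩, ⟨0⟩⟩
  have h0 : fr.num (M + 2) 0 = 1 := Nat.card_eq_one_iff_unique.2
    ⟨⟨fun x y => Subtype.ext (Subtype.ext ((hW x.1 x.1.2).trans (hW y.1 y.1.2).symm))⟩,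
      ⟨⟨0, by simp⟩⟩⟩
  have hN : ∀ c : F, c ≠ 0 → fr.num (M + 2) c = 0 := fun c hc => by
    rw [Frame.num, Nat.card_eq_zero]
    exact Or.inl ⟨fun x => hc (by rw [← x.2, hW x.1 x.1.2, QuadraticMap.map_zero])⟩
  have hnum := fr.num_plus hcard h0 hN
  let f : ℕ → ℤ := fun k => (fr.num (M + 1 - k) 0 : ℤ)
  have hf : ∀ k, k < M + 1 → (q : ℤ) * f k = (q : ℤ) ^ (2 * (k + 1)) + (q : ℤ) ^ (k + 1 + 1) - (q : ℤ) ^ (k + 1) :=
    fun k hk => (hnum (k + 1) (M + 1 - k) (by omega)).1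
  set S : ℤ := ∑ k ∈ Finset.range (M + 1), f k with hS
  have hsum := sum_plus (q : ℤ) (by omega) f (M + 1) hf
  have hq2 : 1 ≤ q ^ 2 := Nat.one_le_pow _ _ (by omega)
  have hqm : 1 ≤ q ^ (M + 2) := Nat.one_le_pow _ _ (by omega)
  have hbound : (((q ^ (M + 2) - 1) * (q ^ (M + 2 - 1) + q) / (q ^ 2 - 1) : ℕ) : ℤ) = S + 1 := by
    have hS0 : 0 ≤ S := Finset.sum_nonneg fun k _ => Int.natCast_nonneg _
    obtain ⟨T, hT⟩ := Int.eq_ofNat_of_zero_le hS0
    have h1 : (q ^ (M + 2) - 1) * (q ^ (M + 2 - 1) + q) = (q ^ 2 - 1) * (T + 1) := by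
      rw [show M + 2 - 1 = M + 1 by omega]
      zify [hq2, hqm]
      rw [← hS, hT] at hsum
      linear_combination -hsum
    rw [h1, Nat.mul_div_cancel_left _ (by
      have : 4 ^ 2 ≤ q ^ 2 := Nat.pow_le_pow_left hF 2
      omega), hT]
    push_cast
    ring
  by_contra hcon
  have hk : (finrank ℂ E : ℤ) ≤ S := by
    have : (finrank ℂ E : ℤ) < S + 1 := by rw [← hbound]; exact_mod_cast Nat.lt_of_not_le hcon
    omega
  have e2 := hnum (M + 1) 1 (by omega)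
  have hsmall := plus_small (by omega : (2 : ℤ) ≤ q) f M fun k hk => hf k (by omega)
  have hSsplit : S = ∑ k ∈ Finset.range M, f k + (fr.num 1 0 : ℤ) := by
    rw [hS, Finset.sum_range_succ]
    simp only [f, show M + 1 - M = 1 by omega]
  have hpow1 : (q : ℤ) ^ (M + 1) ≤ (q : ℤ) ^ (2 * M) := pow_le_pow_right₀ (by omega) (by omega)
  have hpow2 : (q : ℤ) ^ (M + 1 + 1) ≤ (q : ℤ) ^ (2 * M) := pow_le_pow_right₀ (by omega) (by omega)
  have hpow3 : (q : ℤ) ^ (2 * (M + 1)) = (q : ℤ) * q * (q : ℤ) ^ (2 * M) := by ring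
  have hqle : (q : ℤ) ≤ (q : ℤ) ^ (2 * M) := le_self_pow₀ (by omega) (by omega)
  have hq16 : 16 * (q : ℤ) ^ (2 * M) ≤ (q : ℤ) * q * (q : ℤ) ^ (2 * M) :=
    mul_le_mul_of_nonneg_right (by nlinarith) (by positivity)
  -- the top level
  obtain ⟨c₁, hc₁⟩ : ∃ c : F, c ≠ 0 := ⟨1, one_ne_zero⟩
  set Mtop := (fr.vals 0 c₁).card with hMtop
  have htop : ∀ c : F, Mtop ≤ (fr.vals 0 c).card := by
    intro c
    zify
    rw [hMtop, fr.card_vals_ne 0 hc₁]
    have e1 := e2.2 c₁ hc₁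
    rcases eq_or_ne c 0 with rfl | hc
    · rw [fr.card_vals_zero]
      refine le_of_mul_le_mul_left (a := (q : ℤ)) ?_ (by omega)
      have hqq : (q : ℤ) ≤ (q : ℤ) ^ (M + 1) := le_self_pow₀ (by omega) (by omega)
      have : (0 : ℤ) ≤ (q : ℤ) ^ (M + 1 + 1) := by positivity
      have : (q : ℤ) ^ (M + 1) ≤ (q : ℤ) ^ (M + 1 + 1) := pow_le_pow_right₀ (by omega) (by omega)
      rw [mul_sub, mul_one]
      linarith [e2.1]
    · rw [fr.card_vals_ne 0 hc]
      exact (mul_left_cancel₀ (by omega : (q : ℤ) ≠ 0) (e1.trans (e2.2 c hc).symm)).le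
  have hk2 : finrank ℂ E < 2 * Mtop := by
    zify
    rw [hMtop, fr.card_vals_ne 0 hc₁]
    have e1 := e2.2 c₁ hc₁
    have h1 : (q : ℤ) * (finrank ℂ E : ℤ) < (q : ℤ) * (2 * (fr.num (0 + 1) c₁ : ℤ)) := by
      have hle : (q : ℤ) * (finrank ℂ E : ℤ) ≤ (q : ℤ) * S := mul_le_mul_of_nonneg_left hk (by omega)
      rw [hSsplit, mul_add, e2.1] at hle
      rw [zero_add, mul_left_comm, e1]
      linarith
    exact lt_of_mul_lt_mul_left h1 (by omega)
  have hx2 : fr.W 2 ≠ ⊥ := fun e => by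
    have h2m := fr.a_mem (by omega : 2 < M + 2) (le_refl 2)
    rw [e, Submodule.mem_bot] at h2m
    have := fr.ba (by omega : 2 < M + 2)
    simp [h2m] at this
  obtain ⟨c, hc0, T, hone⟩ := exists_thin ρ ψ fr hψ H (by omega) hx2 hg₀ Mtop htop hk2
  obtain rfl : c = 0 := hc0 hF
  have hlev := levels_torus ρ ψ fr hψ H hF T fun y hy => by
    rw [← Submodule.one_le_finrank_iff, hone y hy]
  -- the last fixed space
  obtain ⟨j₀, hj₀⟩ : ∃ j₀, j₀ + 3 = M + 2 := ⟨M - 1, by omega⟩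
  have hya : fr.a (j₀ + 2) ∈ fr.vals j₀ (0 : F) := by
    refine (fr.mem_vals).2 ⟨fr.a_mem (by omega) (by omega), fun e => ?_, fr.quad_a (by omega)⟩
    have := fr.ba (by omega : j₀ + 2 < M + 2)
    simp [e] at this
  have hyne := hlev j₀ (by omega) _ hya
  obtain ⟨u, hu, hu0⟩ := (Submodule.ne_bot_iff _).1 hyne
  obtain ⟨hyW, hy0, -⟩ := (fr.mem_vals).1 hya
  have hd := last_Cs ρ ψ fr hψ H hj₀ T ⟨by omega, by omega⟩ hu hu0
    (fun r => trivial_le_one ρ ψ fr (T.le_one j₀ (by omega) _ hyW hy0) (fun e =>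
      trivial_of_torus ρ ψ H (by omega) hyW hF e (by omega : j₀ + 1 < M + 2) le_rfl rfl
        ((fr.orth (j₀ + 1) (j₀ + 2) (by omega) (by omega) (by omega)).1.2)
        ⟨fr.a_mem (by omega) le_rfl, fr.quad_a (by omega), fr.aa (by omega) (by omega),
          Submodule.smul_mem _ _ hyW,
          by rw [QuadraticMap.polar_smul_right, fr.aa (by omega) (by omega), smul_zero],
          by rw [QuadraticMap.polar_smul_right, fr.aa (by omega) (by omega), smul_zero]⟩) u hu)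
    (fun z hz => by
      rw [hW z hz, op_zero ρ H (fr.quad_a (by omega)), op_zero ρ H (fr.quad_a (by omega))]
      exact ⟨rfl, rfl⟩)
  have hlow := sum_levels_le ρ ψ fr hψ H (0 : F) (M + 1) (by omega)
    (fun j hj => hlev j (by omega))
  rw [show M + 2 - 1 = M + 1 by omega] at hd
  have hcnt : ((∑ j ∈ Finset.range (M + 1), (fr.vals j (0 : F)).card : ℕ) : ℤ) = S - (M + 1 : ℕ) := by
    push_cast
    rw [Finset.sum_congr rfl fun j _ => fr.card_vals_zero j, Finset.sum_sub_distrib, Finset.sum_const,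
      Finset.card_range, nsmul_eq_mul, mul_one, hS,
      sum_levels_eq (fun j => (fr.num (j + 1) 0 : ℤ)) f (M + 1) (fun j hj => by
        simp only [f]; congr 2; omega)]
    push_cast
    ring
  have hkeq : (finrank ℂ E : ℤ) = S := by
    have hlow' : ((∑ j ∈ Finset.range (M + 1), (fr.vals j (0 : F)).card : ℕ) : ℤ) +
        (finrank ℂ (Cs ρ fr (M + 1)) : ℤ) ≤ (finrank ℂ E : ℤ) := by exact_mod_cast hlow
    omega
  -- integrality at a root element
  set L := (Subgroup.centralizer ({elt (fr.a 0) (fr.a 1)} : Set Om)).index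
  have hidx := index_root fr H (by omega : 2 ≤ M + 2)
  have hdvd := degree_dvd_root ρ ψ fr hψ H (by omega : 2 ≤ M + 2) T hone (L := L) hidx
  rw [fr.card_W M 2 (by omega), hcard, mul_one] at hdvd
  have e0 := (hnum (M + 2) 0 (by omega)).1
  have hn0 := fr.num_zero_pos 0
  have hn1 := fr.num_zero_pos 1
  rw [← hqdef] at hidx
  zify [hn0, hn1, hq2] at hidx
  have hf0 := hf 0 (by omega)
  have hdq : (q : ℤ) ∣ S + 1 := by
    have key : ∀ j, 1 ≤ j → j ≤ M → (q : ℤ) ∣ (fr.num j 0 : ℤ) := by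
      intro j hj hjM
      refine ⟨(q : ℤ) ^ (2 * (M + 2 - j) - 2) + (q : ℤ) ^ (M + 2 - j - 1) - (q : ℤ) ^ (M + 2 - j - 2), ?_⟩
      obtain ⟨i, hi⟩ : ∃ i, M + 2 - j = i + 2 := ⟨M - j, by omega⟩
      have h := (hnum (i + 2) j (by omega)).1
      refine mul_left_cancel₀ (by omega : (q : ℤ) ≠ 0) ?_
      rw [h, hi, show 2 * (i + 2) - 2 = 2 * i + 2 by omega, show i + 2 - 1 = i + 1 by omega,
        show i + 2 - 2 = i by omega]
      ring
    rw [hS, Finset.sum_range_succ']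
    have h1 : f 0 + 1 = 2 * (q : ℤ) := by
      refine mul_left_cancel₀ (by omega : (q : ℤ) ≠ 0) ?_
      rw [mul_add, hf0]
      ring
    rw [add_assoc, h1]
    exact dvd_add (Finset.dvd_sum fun k hk => key _ (by have := Finset.mem_range.1 hk; omega)
      (by omega)) (dvd_mul_left _ _)
  refine plus_arith hq hM (k := (finrank ℂ E : ℤ)) (L := (L : ℤ)) (r := (q : ℤ) ^ (2 * M + 2) - 1) ?_ ?_ ?_ ?_ ?_ ?_ rfl
  · rw [hkeq]
    refine le_of_mul_le_mul_left (a := (q : ℤ)) ?_ (by omega)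
    rw [mul_add, hSsplit, mul_add, e2.1]
    linear_combination hsmall + hpow2 + hq16 + hqle + 12 * (pow_nonneg (by omega : (0:ℤ) ≤ q) (2 * M)) +
      pow_nonneg (by omega : (0:ℤ) ≤ q) (M + 1)
  · rw [hkeq, hSsplit, mul_add, mul_add, e2.1, hpow3]
    have h1 : 0 ≤ (q : ℤ) * ∑ k ∈ Finset.range M, f k :=
      mul_nonneg (by omega) (Finset.sum_nonneg fun k _ => Int.natCast_nonneg _)
    have : (q : ℤ) ^ (M + 1) ≤ (q : ℤ) ^ (M + 1 + 1) := pow_le_pow_right₀ (by omega) (by omega)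
    have : (q : ℤ) ^ (2 * M + 2) = (q : ℤ) * q * (q : ℤ) ^ (2 * M) := by ring
    linarith
  · rw [hkeq]; exact hdq
  · rw [show (q : ℤ) ^ (2 * M + 1) = ((q * q ^ (2 * M) : ℕ) : ℤ) by push_cast; ring]
    exact hdvd
  · have hne : (q : ℤ) ^ 2 - 1 ≠ 0 := by nlinarith
    refine mul_left_cancel₀ hne (mul_left_cancel₀ (by omega : (q : ℤ) ≠ 0) ?_)
    rw [hkeq]
    linear_combination (q : ℤ) ^ 2 * hidx + (q : ℤ) * ((fr.num 1 0 : ℤ) - 1) * e0 +
      ((q : ℤ) ^ (2 * (M + 2)) + (q : ℤ) ^ (M + 3) - (q : ℤ) ^ (M + 2) - q) * e2.1 -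
      (q : ℤ) * ((q : ℤ) ^ (2 * M + 2) - 1) * hsum
  · rw [hkeq, hSsplit]
    have : 0 ≤ ∑ k ∈ Finset.range M, f k := Finset.sum_nonneg fun k _ => Int.natCast_nonneg _
    have : (q : ℤ) * 1 ≤ (q : ℤ) * (fr.num 1 0 : ℤ) :=
      mul_le_mul_of_nonneg_left (by exact_mod_cast hn1) (by omega)
    have : (1 : ℤ) ≤ (fr.num 1 0 : ℤ) := by exact_mod_cast hn1
    omega

end Cfsg.Agent.Lie.OrthDeg
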