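import Cfsg.Agent.Lib.Lie.OrthDeg.Trace
import Cfsg.Agent.Lib.Lie.OrthDeg.Half

/-! Closed counts along a frame and consequences of the counting of levels. -/

set_option autoImplicit false
set_option linter.unusedSectionVars false
set_option quotPrecheck false

noncomputable section

namespace Cfsg.Agent.Lie.OrthDeg

open Matrix Module Cfsg.Agent.Classical Cfsg.Agent.Classical.OrthAut

universe u v

variable {F : Type u} [Field F] [Fintype F] {ι : Type} [Fintype ι] [DecidableEq ι]
  {Q : QuadraticForm F (ι → F)} {m : ℕ} (fr : Frame Q m)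

local notation "V" => (ι → F)
local notation "B" => QuadraticMap.polar ⇑Q
local notation "qq" => Fintype.card F

theorem Frame.card_W : ∀ k j, j + k = m → Nat.card (fr.W j) = qq ^ (2 * k) * Nat.card (fr.W m) := by
  intro k
  induction k with
  | zero =>
    intro j hj
    obtain rfl : j = m := by omega
    rw [mul_zero, pow_zero, one_mul]
  | succ k ih =>
    intro j hj
    rw [fr.card_succ (by omega : j < m), ih (j + 1) (by omega), ← mul_assoc, ← pow_add]
    congr 2
    ring

theorem cast_pred_card : ((qq - 1 : ℕ) : ℤ) = (qq : ℤ) - 1 := by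
  rw [Nat.cast_sub Fintype.card_pos, Nat.cast_one]

/-- Counts over an anisotropic plane. -/
theorem Frame.num_minus (hW : Nat.card (fr.W m) = qq ^ 2) (h0 : fr.num m 0 = 1)
    (hN : ∀ c : F, c ≠ 0 → fr.num m c = qq + 1) : ∀ k j, j + k = m →
    (fr.num j 0 : ℤ) = (qq : ℤ) ^ (2 * k + 1) + (qq : ℤ) ^ k - (qq : ℤ) ^ (k + 1) ∧
      ∀ c : F, c ≠ 0 → (fr.num j c : ℤ) = (qq : ℤ) ^ (2 * k + 1) + (qq : ℤ) ^ k := by
  intro k
  induction k with
  | zero =>
    intro j hj
    obtain rfl : j = m := by omega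
    refine ⟨by rw [h0]; simp, fun c hc => ?_⟩
    rw [hN c hc]
    push_cast
    ring
  | succ k ih =>
    intro j hj
    have hjm : j < m := by omega
    obtain ⟨i1, i2⟩ := ih (j + 1) (by omega)
    have hcard := fr.card_W k (j + 1) (by omega)
    rw [hW] at hcard
    refine ⟨?_, fun c hc => ?_⟩
    · rw [fr.num_succ hjm, hcard]
      push_cast [cast_pred_card, i1]
      ring
    · rw [fr.num_succ hjm, hcard]
      push_cast [cast_pred_card, i2 c hc]
      ring

/-- Counts over the zero kernel. -/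
theorem Frame.num_plus (hW : Nat.card (fr.W m) = 1) (h0 : fr.num m 0 = 1)
    (hN : ∀ c : F, c ≠ 0 → fr.num m c = 0) : ∀ k j, j + k = m →
    (qq : ℤ) * (fr.num j 0 : ℤ) = (qq : ℤ) ^ (2 * k) + (qq : ℤ) ^ (k + 1) - (qq : ℤ) ^ k ∧
      ∀ c : F, c ≠ 0 → (qq : ℤ) * (fr.num j c : ℤ) = (qq : ℤ) ^ (2 * k) - (qq : ℤ) ^ k := by
  intro k
  induction k with
  | zero =>
    intro j hj
    obtain rfl : j = m := by omega
    refine ⟨by rw [h0]; simp, fun c hc => ?_⟩
    rw [hN c hc]
    simp
  | succ k ih =>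
    intro j hj
    have hjm : j < m := by omega
    obtain ⟨i1, i2⟩ := ih (j + 1) (by omega)
    have hcard := fr.card_W k (j + 1) (by omega)
    rw [hW, mul_one] at hcard
    refine ⟨?_, fun c hc => ?_⟩
    · rw [fr.num_succ hjm, hcard]
      push_cast [cast_pred_card]
      linear_combination (qq : ℤ) * i1
    · rw [fr.num_succ hjm, hcard]
      push_cast [cast_pred_card]
      linear_combination (qq : ℤ) * (i2 c hc)

theorem Frame.card_vals_zero (j : ℕ) : ((fr.vals j (0 : F)).card : ℤ) = (fr.num (j + 1) 0 : ℤ) - 1 := by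
  classical
  have := fr.card_vals j (0 : F)
  rw [if_pos rfl] at this
  rw [← this]
  push_cast
  ring

theorem Frame.card_vals_ne (j : ℕ) {c : F} (hc : c ≠ 0) : (fr.vals j c).card = fr.num (j + 1) c := by
  classical
  have := fr.card_vals j c
  rwa [if_neg hc, add_zero] at this

omit [Fintype F] [Fintype ι] [DecidableEq ι] in
theorem sum_levels_eq (f g : ℕ → ℤ) (J : ℕ) (h : ∀ j, j < J → f j = g (J - 1 - j)) :
    ∑ j ∈ Finset.range J, f j = ∑ k ∈ Finset.range J, g k := by
  rw [← Finset.sum_range_reflect g J]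
  exact Finset.sum_congr rfl fun j hj => h j (Finset.mem_range.1 hj)

omit [Fintype F] [Fintype ι] [DecidableEq ι] in
theorem sum_minus (q : ℤ) (M : ℕ) :
    (q ^ 2 - 1) * ∑ k ∈ Finset.range M, (q ^ (2 * (k + 1) + 1) + q ^ (k + 1) - q ^ (k + 1 + 1)) =
      (q ^ (M + 2) + 1) * (q ^ (M + 1) - q) := by
  induction M with
  | zero => simp
  | succ M ih => rw [Finset.sum_range_succ, mul_add, ih]; ring

omit [Fintype F] [Fintype ι] [DecidableEq ι] in
theorem sum_plus (q : ℤ) (hq : q ≠ 0) (f : ℕ → ℤ) (M : ℕ)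
    (hf : ∀ k, k < M → q * f k = q ^ (2 * (k + 1)) + q ^ (k + 1 + 1) - q ^ (k + 1)) :
    (q ^ 2 - 1) * (∑ k ∈ Finset.range M, f k + 1) = (q ^ (M + 1) - 1) * (q ^ M + q) := by
  refine mul_left_cancel₀ hq ?_
  induction M with
  | zero => simp only [Finset.range_zero, Finset.sum_empty]; ring
  | succ M ih =>
    rw [Finset.sum_range_succ]
    have := hf M (by omega)
    linear_combination ih (fun k hk => hf k (by omega)) + (q ^ 2 - 1) * this

end Cfsg.Agent.Lie.OrthDeg
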