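import Cfsg.Agent.Lib.Lie.OrthDeg.Diag
import Cfsg.Agent.Lib.Lie.OrthDeg.Indep

/-! Rank one arguments along a frame. -/

set_option autoImplicit false
set_option linter.unusedSectionVars false
set_option quotPrecheck false

noncomputable section

namespace Cfsg.Agent.Lie.OrthDeg

open Matrix Module Cfsg.Agent.Classical Cfsg.Agent.Classical.OrthAut

universe u v

variable {F : Type u} [Field F] [Fintype F] {ι : Type} [Fintype ι] [DecidableEq ι]
  {Q : QuadraticForm F (ι → F)} {m : ℕ}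
variable {E : Type v} [AddCommGroup E] [Module ℂ E] [FiniteDimensional ℂ E]

local notation "V" => (ι → F)
local notation "B" => QuadraticMap.polar ⇑Q
local notation "Om" => Omega F ⇑Q

variable (ρ : Representation ℂ (Omega F ⇑Q) E) (ψ : AddChar F ℂ) (fr : Frame Q m)

theorem rho_mul (g h : Om) (u : E) : ρ (g * h) u = ρ g (ρ h u) := by
  rw [map_mul, Module.End.mul_apply]

/-- Projections and elements scaling the current vector. -/
theorem prj_map' (H : Hyp Q) {j : ℕ} (hj : j < m) {g : Om} (hg : fr.Scales (j + 1) g) {c : F} (hc : c ≠ 0)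
    (hca : act g (fr.a j) = c • fr.a j) (z : V) (u : E) :
    ρ g (prj ρ ψ fr j z u) = prj ρ ψ fr j (c⁻¹ • act g z) (ρ g u) := by
  letI := Fintype.ofFinite (fr.W (j + 1))
  let e : fr.W (j + 1) ≃ fr.W (j + 1) :=
    { toFun := fun v => ⟨c • act g v, Submodule.smul_mem _ _ ((hg j (by omega)).2 v v.2)⟩
      invFun := fun v => ⟨act g⁻¹ (c⁻¹ • (v : V)), (hg.inv j (by omega)).2 _ (Submodule.smul_mem _ _ v.2)⟩
      left_inv := fun v => Subtype.ext (by
        show act g⁻¹ (c⁻¹ • (c • act g (v : V))) = v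
        rw [smul_smul, inv_mul_cancel₀ hc, one_smul, act_inv_cancel])
      right_inv := fun v => Subtype.ext (by
        show c • act g (act g⁻¹ (c⁻¹ • (v : V))) = v
        rw [act_inv_cancel', smul_smul, mul_inv_cancel₀ hc, one_smul]) }
  simp only [prj, Char.cproj, LinearMap.smul_apply, LinearMap.sum_apply, map_smul, map_sum]
  refine congrArg _ (Fintype.sum_equiv e _ _ fun v => ?_)
  have h1 := op_conj ρ H g (fr.ok hj v.2) u
  rw [hca, op_smul_left ρ H (fr.ok hj ((hg j (by omega)).2 v v.2))] at h1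
  simp only [e, Equiv.coe_fn_mk, fam, func_apply, QuadraticMap.polar_smul_left,
    QuadraticMap.polar_smul_right, act_polar, h1, smul_eq_mul, mul_inv_cancel_left₀ hc]

variable (hψ : ψ ≠ 1)
include hψ

/-- A twisted average over one line vanishes without the matching components. -/
theorem char_sum_eq_zero (H : Hyp Q) {j : ℕ} (hj : j < m) {w₀ : V} (hw₀ : w₀ ∈ fr.W (j + 1)) (c : F)
    (u : E) (h : ∀ z ∈ fr.W (j + 1), B z w₀ = c → prj ρ ψ fr j z u = 0) :
    ∑ r : F, ψ (-(r * c)) • op ρ (fr.a j) (r • w₀) u = 0 := by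
  refine eq_zero_of_prj ρ ψ fr hψ H hj fun z hz => ?_
  rw [map_sum]
  have e : ∀ r : F, prj ρ ψ fr j z (ψ (-(r * c)) • op ρ (fr.a j) (r • w₀) u) =
      ψ (r * (B z w₀ - c)) • prj ρ ψ fr j z u := fun r => by
    rw [map_smul, prj_comm ρ ψ fr H hj z (Submodule.smul_mem _ _ hw₀), smul_smul,
      ← AddChar.map_add_eq_mul, QuadraticMap.polar_smul_right, smul_eq_mul]
    congr 2
    ring
  rw [Finset.sum_congr rfl fun r _ => e r, ← Finset.sum_smul]
  rcases eq_or_ne (B z w₀) c with hzc | hzc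
  · rw [h z hz hzc, smul_zero]
  · have h0 := Char.sum_char_linear (W := F) hψ ((B z w₀ - c) • LinearMap.id) (fun e => sub_ne_zero.2 hzc (by
      simpa using LinearMap.congr_fun e 1))
    rw [show ∑ r : F, ψ (r * (B z w₀ - c)) = 0 by simpa [mul_comm] using h0, zero_smul]

omit hψ in
/-- Operators of the upper root line. -/
theorem ok_up (H : Hyp Q) {j : ℕ} (hj : j + 1 < m) (r : F) : OK Q (fr.a j) (r • fr.b (j + 1)) :=
  fr.ok (by omega) (Submodule.smul_mem _ _ (fr.b_mem hj le_rfl))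

omit hψ in
/-- The average over a root line absorbs its members. -/
theorem up_absorb (H : Hyp Q) {j : ℕ} (hj : j + 1 < m) (s : F) (u : E) :
    ∑ r : F, op ρ (fr.a j) (r • fr.b (j + 1)) (op ρ (fr.a j) (s • fr.b (j + 1)) u) =
      ∑ r : F, op ρ (fr.a j) (r • fr.b (j + 1)) u :=
  Fintype.sum_equiv (Equiv.addRight s) _ _ fun r => by
    rw [Equiv.coe_addRight, add_smul, op_add ρ H (ok_up fr H hj r) (ok_up fr H hj s), Module.End.mul_apply]

omit hψ in
/-- The rank one identity on vectors. -/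
theorem bruhat_apply (H : Hyp Q) {j : ℕ} (hj : j + 1 < m) {r : F} (hr : r ≠ 0) {h : Om}
    (hh : Diag fr h (pm2 j (j + 1) (-r))) (u : E) :
    ρ (sw fr j) (op ρ (fr.a j) (r • fr.b (j + 1)) (ρ (sw fr j) u)) =
      op ρ (fr.a j) ((-r⁻¹) • fr.b (j + 1)) (ρ (sw fr j) (ρ h (op ρ (fr.a j) ((-r⁻¹) • fr.b (j + 1)) u))) := by
  have e := congrArg (fun g => ρ g u) (bruhat fr H hj hr hh)
  simpa only [rho_mul, op] using e

omit hψ in
/-- A vector fixed by a root line with vanishing averages is zero. -/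
theorem hecke_zero (H : Hyp Q) {j : ℕ} (hj : j + 1 < m) {v : E}
    (hu : ∀ r : F, op ρ (fr.a j) (r • fr.b (j + 1)) v = v)
    (h0 : ∑ r : F, op ρ (fr.a j) (r • fr.b (j + 1)) (ρ (sw fr j) v) = 0)
    (hT : ∀ s : F, s ≠ 0 → ∀ h : Om, Diag fr h (pm2 j (j + 1) s) →
      ∑ r : F, op ρ (fr.a j) (r • fr.b (j + 1)) (ρ (sw fr j) (ρ h v)) = 0) : v = 0 := by
  classical
  have hj' : j < m := by omega
  set S : E → E := fun u => ∑ r : F, op ρ (fr.a j) (r • fr.b (j + 1)) u with hS
  have h1 : ∑ r : F, S (ρ (sw fr j) (op ρ (fr.a j) (r • fr.b (j + 1)) (ρ (sw fr j) v))) = 0 := by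
    have e : ∑ r : F, S (ρ (sw fr j) (op ρ (fr.a j) (r • fr.b (j + 1)) (ρ (sw fr j) v))) =
        S (ρ (sw fr j) (∑ r : F, op ρ (fr.a j) (r • fr.b (j + 1)) (ρ (sw fr j) v))) := by
      simp only [hS, map_sum]
      exact Finset.sum_comm
    rw [e, h0]
    simp [hS]
  rw [Finset.sum_eq_single (0 : F) (fun r _ hr => by
      obtain ⟨h, hh⟩ := exists_pm2 fr H hj' hj (by omega) (neg_ne_zero.2 hr)
      rw [bruhat_apply ρ fr H hj hr hh, hu, hS]
      simp only
      rw [up_absorb ρ fr H hj]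
      exact hT _ (neg_ne_zero.2 hr) h hh) (fun h => absurd (Finset.mem_univ _) h),
    zero_smul, op_zero ρ H (fr.quad_a hj'), Module.End.one_apply, ← rho_mul] at h1
  have hfix : ∀ r : F, op ρ (fr.a j) (r • fr.b (j + 1)) (ρ (sw fr j * sw fr j) v) =
      ρ (sw fr j * sw fr j) v := by
    intro r
    have h2 := op_conj ρ H (sw fr j * sw fr j) (ok_up fr H hj r) v
    have d := sw_sq fr H hj
    rw [hu, d.a j hj', act_smul, d.b (j + 1) hj] at h2
    simp only [pm2, ↓reduceIte, Nat.succ_ne_self, inv_inv, smul_smul] at h2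
    rw [op_smul_left ρ H (fr.ok hj' (Submodule.smul_mem _ _ (fr.b_mem hj le_rfl))), smul_smul] at h2
    convert h2 using 3
    congr 1
    field_simp
  rw [hS] at h1
  simp only [hfix, Finset.sum_const, Finset.card_univ] at h1
  rw [← Nat.cast_smul_eq_nsmul ℂ] at h1
  have h3 := (smul_eq_zero.1 h1).resolve_left (Nat.cast_ne_zero.2 Fintype.card_ne_zero)
  exact rho_injective ρ _ (h3.trans (map_zero _).symm)

set_option maxHeartbeats 1000000 in
/-- A vector fixed by a root line and the torus with one vanishing twisted average is fixed. -/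
theorem hecke_fix (H : Hyp Q) {j : ℕ} (hj : j + 1 < m) {x : E}
    (hu : ∀ r : F, op ρ (fr.a j) (r • fr.b (j + 1)) x = x)
    (hT : ∀ s : F, s ≠ 0 → ∀ h : Om, Diag fr h (pm2 j (j + 1) s) → ρ h x = x) {c : F} (hc : c ≠ 0)
    (h0 : ∑ r : F, ψ (-(r * c)) • op ρ (fr.a j) (r • fr.b (j + 1)) (ρ (sw fr j) x) = 0) :
    ρ (sw fr j) x = x := by
  classical
  have hj' : j < m := by omega
  set S : E → E := fun u => ∑ r : F, op ρ (fr.a j) (r • fr.b (j + 1)) u with hS
  have hB : ∀ r : F, r ≠ 0 → ρ (sw fr j) (op ρ (fr.a j) (r • fr.b (j + 1)) (ρ (sw fr j) x)) =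
      op ρ (fr.a j) ((-r⁻¹) • fr.b (j + 1)) (ρ (sw fr j) x) := fun r hr => by
    obtain ⟨h, hh⟩ := exists_pm2 fr H hj' hj (by omega) (neg_ne_zero.2 hr)
    rw [bruhat_apply ρ fr H hj hr hh, hu, hT _ (neg_ne_zero.2 hr) h hh]
  have hsq : ρ (sw fr j) (ρ (sw fr j) x) = x := by
    rw [← rho_mul]; exact hT _ (by simp) _ (sw_sq fr H hj)
  have hSx : S x = (Fintype.card F : ℂ) • x := by
    simp only [hS, hu, Finset.sum_const, Finset.card_univ, Nat.cast_smul_eq_nsmul ℂ]
  have hψ0 : ∑ r ∈ Finset.univ.erase (0 : F), ψ (-(r * c)) = -1 := by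
    have h1 := Char.sum_char_linear (W := F) hψ ((-c) • LinearMap.id) (fun e => hc (by
      simpa using LinearMap.congr_fun e 1))
    have h2 : ∑ r : F, ψ (-(r * c)) = 0 := by simpa [mul_comm] using h1
    rw [← Finset.add_sum_erase _ _ (Finset.mem_univ (0 : F)), zero_mul, neg_zero,
      AddChar.map_zero_eq_one] at h2
    linear_combination h2
  -- apply the rotation to the hypothesis and average
  have h1 : ∑ r : F, ψ (-(r * c)) • S (ρ (sw fr j) (op ρ (fr.a j) (r • fr.b (j + 1)) (ρ (sw fr j) x))) = 0 := by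
    have e : ∑ r : F, ψ (-(r * c)) • S (ρ (sw fr j) (op ρ (fr.a j) (r • fr.b (j + 1)) (ρ (sw fr j) x))) =
        S (ρ (sw fr j) (∑ r : F, ψ (-(r * c)) • op ρ (fr.a j) (r • fr.b (j + 1)) (ρ (sw fr j) x))) := by
      simp only [hS, map_sum, map_smul, Finset.smul_sum]
      exact Finset.sum_comm
    rw [e, h0]
    simp [hS]
  rw [← Finset.add_sum_erase _ _ (Finset.mem_univ (0 : F))] at h1
  rw [Finset.sum_congr rfl (g := fun r => ψ (-(r * c)) • S (ρ (sw fr j) x)) (fun r hr => by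
      rw [hB r (Finset.mem_erase.1 hr).1]
      simp only [hS]
      rw [up_absorb ρ fr H hj]), ← Finset.sum_smul, hψ0] at h1
  rw [zero_mul, neg_zero, AddChar.map_zero_eq_one, one_smul, zero_smul, op_zero ρ H (fr.quad_a hj'),
    Module.End.one_apply, hsq, hSx, neg_one_smul, ← sub_eq_add_neg, sub_eq_zero] at h1
  -- rotate the average once more
  have h2 : ρ (sw fr j) (S (ρ (sw fr j) x)) =
      x + (S (ρ (sw fr j) x) - ρ (sw fr j) x) := by
    simp only [hS, map_sum]
    rw [← Finset.add_sum_erase _ _ (Finset.mem_univ (0 : F))]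
    refine congrArg₂ (· + ·) ?_ ?_
    · rw [zero_smul, op_zero ρ H (fr.quad_a hj'), Module.End.one_apply, hsq]
    · rw [Finset.sum_congr rfl fun r hr => hB r (Finset.mem_erase.1 hr).1, eq_sub_iff_add_eq]
      have e : ∑ r ∈ Finset.univ.erase (0 : F), op ρ (fr.a j) ((-r⁻¹) • fr.b (j + 1)) (ρ (sw fr j) x) =
          ∑ r ∈ Finset.univ.erase (0 : F), op ρ (fr.a j) (r • fr.b (j + 1)) (ρ (sw fr j) x) :=
        Finset.sum_nbij' (fun r => -r⁻¹) (fun r => -r⁻¹) (fun r hr => by simpa using hr)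
          (fun r hr => by simpa using hr) (fun r _ => by simp) (fun r _ => by simp) (fun r _ => rfl)
      rw [e, ← Finset.add_sum_erase _ _ (Finset.mem_univ (0 : F)), zero_smul, op_zero ρ H (fr.quad_a hj'),
        Module.End.one_apply]
      exact add_comm _ _
  rw [← h1, map_smul] at h2
  have h3 : ((Fintype.card F : ℂ) + 1) • (ρ (sw fr j) x - x) = 0 := by
    linear_combination (norm := module) h2
  refine sub_eq_zero.1 ((smul_eq_zero.1 h3).resolve_left ?_)
  exact_mod_cast Nat.succ_ne_zero (Fintype.card F)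

omit hψ in
/-- The rotation as a product of root elements. -/
theorem sw_fixed {j : ℕ} {v : E} (h1 : op ρ (fr.a j) (fr.b (j + 1)) v = v)
    (h2 : op ρ (fr.a (j + 1)) (-fr.b j) v = v) : ρ (sw fr j) v = v := by
  rw [sw, rho_mul, rho_mul]
  change op ρ (fr.a j) (fr.b (j + 1)) (op ρ (fr.a (j + 1)) (-fr.b j) (op ρ (fr.a j) (fr.b (j + 1)) v)) = v
  rw [h1, h2, h1]

omit hψ in
/-- A vector fixed by a root line and its rotation is fixed by the torus. -/
theorem pm2_fixed (H : Hyp Q) {j : ℕ} (hj : j + 1 < m) {v : E}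
    (hu : ∀ r : F, op ρ (fr.a j) (r • fr.b (j + 1)) v = v) (hs : ρ (sw fr j) v = v) {s : F} (hs0 : s ≠ 0)
    {h : Om} (hh : Diag fr h (pm2 j (j + 1) s)) : ρ h v = v := by
  have e := bruhat_apply ρ fr H hj (neg_ne_zero.2 hs0) (h := h) (by rwa [neg_neg]) v
  rw [hs, hu, hs, hu] at e
  refine rho_injective ρ (sw fr j) (rho_injective ρ (elt (fr.a j) ((-(-s)⁻¹) • fr.b (j + 1))) ?_)
  show op ρ _ _ _ = op ρ _ _ _
  rw [← e, hs, hu]

end Cfsg.Agent.Lie.OrthDeg
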