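import Cfsg.Agent.Lib.Lie.OrthDeg.Stab
import Cfsg.Agent.Lib.Char.CharProj

/-! The characters of the root groups along a frame in a representation of `Ω(Q)`. -/

set_option autoImplicit false
set_option linter.unusedSectionVars false
set_option quotPrecheck false

noncomputable section

namespace Cfsg.Agent.Lie.OrthDeg

open Matrix Module Cfsg.Agent.Classical Cfsg.Agent.Classical.OrthAut

universe u v

variable {F : Type u} [Field F] [Fintype F] {ι : Type} [Fintype ι] [DecidableEq ι]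
  {Q : QuadraticForm F (ι → F)} {m : ℕ}
variable {E : Type v} [AddCommGroup E] [Module ℂ E] [FiniteDimensional ℂ E]

local notation "V" => (ι → F)
local notation "B" => QuadraticMap.polar ⇑Q
local notation "Om" => Omega F ⇑Q

variable (ρ : Representation ℂ (Omega F ⇑Q) E) (ψ : AddChar F ℂ)

/-- The operator of a Siegel element. -/
def op (e w : V) : Module.End ℂ E := ρ (elt e w)

theorem rho_cancel (g : Om) (u : E) : ρ g⁻¹ (ρ g u) = u := by
  rw [← Module.End.mul_apply, ← map_mul, inv_mul_cancel, map_one, Module.End.one_apply]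

theorem rho_injective (g : Om) : Function.Injective (ρ g) := fun u v h => by
  rw [← rho_cancel ρ g u, h, rho_cancel]

theorem op_conj (H : Hyp Q) (g : Om) {e w : V} (h : OK Q e w) (u : E) :
    op ρ (act g e) (act g w) (ρ g u) = ρ g (op ρ e w u) := by
  rw [op, op, ← Module.End.mul_apply, ← Module.End.mul_apply, ← map_mul, ← map_mul, elt_mul_left H g h]

theorem op_smul_left (H : Hyp Q) {e w : V} (h : OK Q e w) (c : F) : op ρ (c • e) w = op ρ e (c • w) := by
  rw [op, op, elt_smul_left H h]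

theorem op_add (H : Hyp Q) {e w w' : V} (h : OK Q e w) (h' : OK Q e w') :
    op ρ e (w + w') = op ρ e w * op ρ e w' := by
  rw [op, op, op, elt_add H h h', map_mul]

theorem op_zero (H : Hyp Q) {e : V} (he : Q e = 0) : op ρ e 0 = 1 := by
  rw [op, elt_zero H he, map_one]

variable (fr : Frame Q m)

/-- The common fixed space of the first `j` root groups. -/
def Cs (j : ℕ) : Submodule ℂ E where
  carrier := {u | ∀ i, i < j → ∀ w ∈ fr.W (i + 1), op ρ (fr.a i) w u = u}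
  add_mem' := fun hu hv i hi w hw => by rw [map_add, hu i hi w hw, hv i hi w hw]
  zero_mem' := fun i hi w hw => map_zero _
  smul_mem' := fun c u hu i hi w hw => by rw [map_smul, hu i hi w hw]

/-- The eigenspace of a character of the next root group. -/
def Eig (j : ℕ) (y : V) : Submodule ℂ E where
  carrier := {u | u ∈ Cs ρ fr j ∧ ∀ w ∈ fr.W (j + 1), op ρ (fr.a j) w u = ψ (B y w) • u}
  add_mem' := fun hu hv => ⟨add_mem hu.1 hv.1, fun w hw => by
    rw [map_add, hu.2 w hw, hv.2 w hw, smul_add]⟩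
  zero_mem' := ⟨zero_mem _, fun w hw => by rw [map_zero, smul_zero]⟩
  smul_mem' := fun c u hu => ⟨Submodule.smul_mem _ c hu.1, fun w hw => by
    rw [map_smul, hu.2 w hw, smul_comm]⟩

theorem mem_Cs {j : ℕ} {u : E} :
    u ∈ Cs ρ fr j ↔ ∀ i, i < j → ∀ w ∈ fr.W (i + 1), op ρ (fr.a i) w u = u := Iff.rfl

theorem mem_Eig {j : ℕ} {y : V} {u : E} :
    u ∈ Eig ρ ψ fr j y ↔ u ∈ Cs ρ fr j ∧ ∀ w ∈ fr.W (j + 1), op ρ (fr.a j) w u = ψ (B y w) • u := Iff.rfl

theorem Eig_le (j : ℕ) (y : V) : Eig ρ ψ fr j y ≤ Cs ρ fr j := fun _ h => h.1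

theorem Cs_zero : Cs ρ fr 0 = ⊤ :=
  eq_top_iff.2 fun _ _ i hi => absurd hi (Nat.not_lt_zero i)

theorem Cs_mono {i j : ℕ} (h : i ≤ j) : Cs ρ fr j ≤ Cs ρ fr i :=
  fun _ hu k hk => hu k (lt_of_lt_of_le hk h)

theorem Eig_zero (j : ℕ) : Eig ρ ψ fr j 0 = Cs ρ fr (j + 1) := by
  ext u
  rw [mem_Eig, mem_Cs, mem_Cs]
  simp only [QuadraticMap.polar_zero_left, AddChar.map_zero_eq_one, one_smul]
  constructor
  · rintro ⟨h1, h2⟩ i hi
    rcases Nat.lt_or_ge i j with h | h
    · exact h1 i h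
    · obtain rfl : i = j := by omega
      exact h2
  · exact fun h => ⟨fun i hi => h i (by omega), h j (by omega)⟩

theorem map_Cs (H : Hyp Q) {j : ℕ} (hj : j ≤ m) {g : Om} (hg : fr.Scales j g) {u : E} (hu : u ∈ Cs ρ fr j) :
    ρ g u ∈ Cs ρ fr j := by
  intro i hi w hw
  obtain ⟨⟨c, hc, hca⟩, hW⟩ := hg i hi
  obtain ⟨⟨c', hc', hca'⟩, hW'⟩ := hg.inv i hi
  have hok : OK Q (fr.a i) (c⁻¹ • act g⁻¹ w) := fr.ok (by omega) (Submodule.smul_mem _ _ (hW' w hw))
  have h1 := op_conj ρ H g hok u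
  rw [hu i hi _ (Submodule.smul_mem _ _ (hW' w hw)), act_smul, act_inv_cancel', hca,
    op_smul_left ρ H (fr.ok (by omega) (Submodule.smul_mem _ _ hw)), smul_smul, mul_inv_cancel₀ hc,
    one_smul] at h1
  exact h1

theorem map_Eig (H : Hyp Q) {j : ℕ} (hj : j < m) {g : Om} (hg : fr.Scales (j + 1) g) {c : F} (hc : c ≠ 0)
    (hca : act g (fr.a j) = c • fr.a j) {y : V} {u : E} (hu : u ∈ Eig ρ ψ fr j y) :
    ρ g u ∈ Eig ρ ψ fr j (c⁻¹ • act g y) := by
  refine ⟨map_Cs ρ fr H (by omega) (fun i hi => hg i (by omega)) hu.1, fun w hw => ?_⟩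
  obtain ⟨-, hW'⟩ := hg.inv j (by omega)
  have hok : OK Q (fr.a j) (c⁻¹ • act g⁻¹ w) := fr.ok hj (Submodule.smul_mem _ _ (hW' w hw))
  have h1 := op_conj ρ H g hok u
  rw [hu.2 _ (Submodule.smul_mem _ _ (hW' w hw)), act_smul, act_inv_cancel', hca,
    op_smul_left ρ H (fr.ok hj (Submodule.smul_mem _ _ hw)), smul_smul, mul_inv_cancel₀ hc,
    one_smul, map_smul] at h1
  rw [h1]
  congr 1
  rw [QuadraticMap.polar_smul_right, QuadraticMap.polar_smul_left, polar_act_left]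

theorem map_Cs_elt (H : Hyp Q) {j : ℕ} (hj : j ≤ m) {e w : V} (he : e ∈ fr.W j) (hw : w ∈ fr.W j)
    (hok : OK Q e w) {u : E} (hu : u ∈ Cs ρ fr j) : op ρ e w u ∈ Cs ρ fr j :=
  map_Cs ρ fr H hj (fr.fixes_elt H he hw hok).scales hu

theorem finrank_Eig_map (H : Hyp Q) {j : ℕ} (hj : j < m) {g : Om} (hg : fr.Scales (j + 1) g) {c : F}
    (hc : c ≠ 0) (hca : act g (fr.a j) = c • fr.a j) (y : V) :
    finrank ℂ (Eig ρ ψ fr j y) ≤ finrank ℂ (Eig ρ ψ fr j (c⁻¹ • act g y)) := by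
  let L : Eig ρ ψ fr j y →ₗ[ℂ] Eig ρ ψ fr j (c⁻¹ • act g y) :=
    (ρ g).restrict fun u hu => map_Eig ρ ψ fr H hj hg hc hca hu
  refine LinearMap.finrank_le_finrank_of_injective (f := L) fun u v h => Subtype.ext ?_
  exact rho_injective ρ g (congrArg Subtype.val h)

/-- A lower bound on the multiplicity is stable under the moves. -/
theorem stable_finrank (H : Hyp Q) {j : ℕ} (hj : j < m) (d : ℕ) :
    fr.Stable j fun y => d ≤ finrank ℂ (Eig ρ ψ fr j y) := by
  refine ⟨fun g hg hga y _ h => h.trans ?_⟩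
  have := finrank_Eig_map ρ ψ fr H hj hg one_ne_zero (by rw [one_smul]; exact hga) y
  rwa [inv_one, one_smul] at this

/-- The multiplicity only depends on the value. -/
theorem finrank_Eig_const (H : Hyp Q) (hm : 3 ≤ m) {j : ℕ} (hj : j + 1 < m) (hx : fr.W (j + 2) ≠ ⊥)
    {y z : V} (hy : y ∈ fr.W (j + 1)) (hy0 : y ≠ 0) (hz : z ∈ fr.W (j + 1)) (hz0 : z ≠ 0)
    (hq : Q z = Q y) : finrank ℂ (Eig ρ ψ fr j z) = finrank ℂ (Eig ρ ψ fr j y) :=
  le_antisymm ((stable_finrank ρ ψ fr H (by omega) _).all H hm hj hx hz hz0 le_rfl hy hy0 hq.symm)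
    ((stable_finrank ρ ψ fr H (by omega) _).all H hm hj hx hy hy0 le_rfl hz hz0 hq)

/-! ### Projections -/

/-- The root group as a family of operators. -/
def fam (j : ℕ) (w : fr.W (j + 1)) : Module.End ℂ E := op ρ (fr.a j) (w : V)

/-- The functional of a vector. -/
def func (j : ℕ) (y : V) : fr.W (j + 1) →ₗ[F] F :=
  (QuadraticMap.polarBilin Q y).comp (fr.W (j + 1)).subtype

theorem func_apply (j : ℕ) (y : V) (w : fr.W (j + 1)) : func fr j y w = B y (w : V) := rfl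

theorem func_injective (H : Hyp Q) {j : ℕ} (hj : j < m) {y z : V} (hy : y ∈ fr.W (j + 1))
    (hz : z ∈ fr.W (j + 1)) (h : func fr j y = func fr j z) : y = z := by
  refine sub_eq_zero.1 (fr.nondeg H (by omega) (sub_mem hy hz) fun w hw => ?_)
  have := LinearMap.congr_fun h ⟨w, hw⟩
  rw [func_apply, func_apply] at this
  rw [QuadraticMap.polar_sub_left, this, sub_self]

theorem fam_zero (H : Hyp Q) {j : ℕ} (hj : j < m) : fam ρ fr j 0 = 1 := op_zero ρ H (fr.quad_a hj)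

theorem fam_add (H : Hyp Q) {j : ℕ} (hj : j < m) (w w' : fr.W (j + 1)) :
    fam ρ fr j (w + w') = fam ρ fr j w * fam ρ fr j w' :=
  op_add ρ H (fr.ok hj w.2) (fr.ok hj w'.2)

/-- The projection onto an eigenspace. -/
def prj (j : ℕ) (y : V) : Module.End ℂ E :=
  letI := Fintype.ofFinite (fr.W (j + 1))
  Char.cproj ψ (fam ρ fr j) (func fr j y)

theorem prj_mem (H : Hyp Q) {j : ℕ} (hj : j < m) (y : V) {u : E} (hu : u ∈ Cs ρ fr j) :
    prj ρ ψ fr j y u ∈ Eig ρ ψ fr j y := by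
  letI := Fintype.ofFinite (fr.W (j + 1))
  refine ⟨?_, fun w hw => ?_⟩
  · simp only [prj, Char.cproj, LinearMap.smul_apply, LinearMap.sum_apply]
    exact Submodule.smul_mem _ _ (Submodule.sum_mem _ fun w _ => Submodule.smul_mem _ _
      (map_Cs_elt ρ fr H (by omega) (fr.a_mem hj le_rfl) (fr.W_mono (by omega) w.2) (fr.ok hj w.2) hu))
  · have := LinearMap.congr_fun
      (Char.a_mul_cproj (ψ := ψ) (fam_add ρ fr H hj) (func fr j y) ⟨w, hw⟩) u
    simpa [prj, fam, func_apply] using this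

theorem prj_self {j : ℕ} {y : V} {u : E} (hu : u ∈ Eig ρ ψ fr j y) : prj ρ ψ fr j y u = u := by
  letI := Fintype.ofFinite (fr.W (j + 1))
  simp only [prj, Char.cproj, LinearMap.smul_apply, LinearMap.sum_apply]
  rw [Finset.sum_congr rfl (fun w _ => show ψ (-(func fr j y w)) • fam ρ fr j w u = u by
      rw [fam, hu.2 w w.2, smul_smul, ← AddChar.map_add_eq_mul, func_apply, neg_add_cancel,
        AddChar.map_zero_eq_one, one_smul]),
    Finset.sum_const, Finset.card_univ, ← Nat.cast_smul_eq_nsmul ℂ, smul_smul,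
    inv_mul_cancel₀ (Nat.cast_ne_zero.mpr Fintype.card_ne_zero), one_smul]

variable (hψ : ψ ≠ 1)
include hψ

theorem prj_other (H : Hyp Q) {j : ℕ} (hj : j < m) {y z : V} (hy : y ∈ fr.W (j + 1))
    (hz : z ∈ fr.W (j + 1)) (hyz : y ≠ z) {u : E} (hu : u ∈ Eig ρ ψ fr j z) :
    prj ρ ψ fr j y u = 0 := by
  classical
  letI := Fintype.ofFinite (fr.W (j + 1))
  conv_lhs => rw [← prj_self ρ ψ fr hu]
  rw [← Module.End.mul_apply, prj, prj,
    Char.cproj_mul_cproj hψ (fam_add ρ fr H hj) (func fr j y) (func fr j z),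
    if_neg (fun h => hyz (func_injective fr H hj hy hz h)), LinearMap.zero_apply]

theorem eq_zero_of_prj (H : Hyp Q) {j : ℕ} (hj : j < m) {u : E}
    (h : ∀ y ∈ fr.W (j + 1), prj ρ ψ fr j y u = 0) : u = 0 := by
  letI := Fintype.ofFinite (fr.W (j + 1))
  haveI : Finite (fr.W (j + 1) →ₗ[F] F) := Module.finite_of_finite F
  letI := Fintype.ofFinite (fr.W (j + 1) →ₗ[F] F)
  have h1 : (1 : Module.End ℂ E) u = 0 := by
    rw [← Char.sum_cproj hψ (fam_zero ρ fr H hj), LinearMap.sum_apply]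
    refine Finset.sum_eq_zero fun β _ => ?_
    obtain ⟨y, hy, hβ⟩ := fr.exists_functional H (by omega : j + 1 ≤ m) β
    have : β = func fr j y := LinearMap.ext hβ
    rw [this]
    exact h y hy
  exact h1

/-- Eigenspaces of distinct characters add up. -/
theorem sum_finrank_le (H : Hyp Q) {j : ℕ} (hj : j < m) (T : Finset V)
    (hT : ∀ y ∈ T, y ∈ fr.W (j + 1) ∧ y ≠ 0) :
    ∑ y ∈ T, finrank ℂ (Eig ρ ψ fr j y) + finrank ℂ (Cs ρ fr (j + 1)) ≤ finrank ℂ (Cs ρ fr j) := by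
  classical
  have hle : Cs ρ fr (j + 1) ≤ Cs ρ fr j := Cs_mono ρ fr (by omega)
  let f : ((y : T) → Eig ρ ψ fr j (y : V)) × Cs ρ fr (j + 1) →ₗ[ℂ] E :=
    { toFun := fun p => ∑ y : T, ((p.1 y : E)) + (p.2 : E)
      map_add' := fun p q => by
        simp only [Prod.fst_add, Prod.snd_add, Pi.add_apply, Submodule.coe_add, Finset.sum_add_distrib]
        abel
      map_smul' := fun c p => by simp [Finset.smul_sum] }
  have hf : ∀ p, f p ∈ Cs ρ fr j := fun p =>
    add_mem (Submodule.sum_mem _ fun y _ => (p.1 y).2.1) (hle p.2.2)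
  have hinj : Function.Injective (LinearMap.codRestrict (Cs ρ fr j) f hf) := by
    rw [← LinearMap.ker_eq_bot, Submodule.eq_bot_iff]
    intro p hp
    have h0 : ∑ y : T, ((p.1 y : E)) + (p.2 : E) = 0 := congrArg Subtype.val (LinearMap.mem_ker.1 hp)
    have hz : (p.2 : E) ∈ Eig ρ ψ fr j 0 := by rw [Eig_zero]; exact p.2.2
    have key : ∀ y : T, (p.1 y : E) = 0 := by
      intro y
      have := congrArg (prj ρ ψ fr j (y : V)) h0
      rw [map_add, map_sum, map_zero, Finset.sum_eq_single y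
        (fun z _ hzy => prj_other ρ ψ fr hψ H hj (hT y y.2).1 (hT z z.2).1
          (fun e => hzy (Subtype.ext e.symm)) (p.1 z).2) (fun h => absurd (Finset.mem_univ y) h),
        prj_self ρ ψ fr (p.1 y).2, prj_other ρ ψ fr hψ H hj (hT y y.2).1 (zero_mem _) (hT y y.2).2 hz,
        add_zero] at this
      exact this
    refine Prod.ext (funext fun y => Subtype.ext (key y)) (Subtype.ext ?_)
    simpa [key] using h0
  have h := LinearMap.finrank_le_finrank_of_injective hinj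
  rwa [Module.finrank_prod, Module.finrank_pi_fintype, Finset.sum_coe_sort T
    fun y => finrank ℂ (Eig ρ ψ fr j y)] at h

/-- An invariant subspace is no larger than its eigenspaces. -/
theorem finrank_le_sum (H : Hyp Q) {j : ℕ} (hj : j < m) (U : Submodule ℂ E) (hU : U ≤ Cs ρ fr j)
    (hinv : ∀ w ∈ fr.W (j + 1), ∀ u ∈ U, op ρ (fr.a j) w u ∈ U) (T : Finset V)
    (hT : ∀ y ∈ fr.W (j + 1), y ≠ 0 → U ⊓ Eig ρ ψ fr j y ≠ ⊥ → y ∈ T) :
    finrank ℂ U ≤ ∑ y ∈ T, finrank ℂ (Eig ρ ψ fr j y) + finrank ℂ ↥(U ⊓ Cs ρ fr (j + 1)) := by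
  classical
  let f : U →ₗ[ℂ] ((y : T) → Eig ρ ψ fr j (y : V)) :=
    LinearMap.pi fun y => LinearMap.codRestrict _ ((prj ρ ψ fr j (y : V)).comp U.subtype)
      fun u => prj_mem ρ ψ fr H hj _ (hU u.2)
  have hprjU : ∀ y : V, ∀ u ∈ U, prj ρ ψ fr j y u ∈ U := by
    intro y u hu
    letI := Fintype.ofFinite (fr.W (j + 1))
    simp only [prj, Char.cproj, LinearMap.smul_apply, LinearMap.sum_apply]
    exact Submodule.smul_mem _ _ (Submodule.sum_mem _ fun w _ => Submodule.smul_mem _ _ (hinv w w.2 u hu))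
  have hker : ∀ u : U, f u = 0 → (u : E) ∈ U ⊓ Cs ρ fr (j + 1) := by
    intro u hu
    refine ⟨u.2, ?_⟩
    have h0 : (u : E) = prj ρ ψ fr j 0 u := by
      refine sub_eq_zero.1 (eq_zero_of_prj ρ ψ fr hψ H hj fun y hy => ?_)
      have hm0 := prj_mem ρ ψ fr H hj 0 (hU u.2)
      rw [map_sub]
      rcases eq_or_ne y 0 with rfl | hy0
      · rw [prj_self ρ ψ fr hm0, sub_self]
      rw [prj_other ρ ψ fr hψ H hj hy (zero_mem _) hy0 hm0, sub_zero]
      by_cases hyT : y ∈ T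
      · exact congrArg Subtype.val (congrFun hu ⟨y, hyT⟩)
      · by_contra hne
        exact hyT (hT y hy hy0 ((Submodule.ne_bot_iff _).2
          ⟨_, ⟨hprjU y u u.2, prj_mem ρ ψ fr H hj y (hU u.2)⟩, hne⟩))
    rw [← Eig_zero ρ ψ fr j, h0]
    exact prj_mem ρ ψ fr H hj 0 (hU u.2)
  have h := LinearMap.finrank_range_add_finrank_ker f
  have h1 : finrank ℂ (LinearMap.range f) ≤ ∑ y ∈ T, finrank ℂ (Eig ρ ψ fr j y) := by
    refine (Submodule.finrank_le _).trans ?_
    rw [Module.finrank_pi_fintype, Finset.sum_coe_sort T fun y => finrank ℂ (Eig ρ ψ fr j y)]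
  have h2 : finrank ℂ (LinearMap.ker f) ≤ finrank ℂ ↥(U ⊓ Cs ρ fr (j + 1)) := by
    let L : LinearMap.ker f →ₗ[ℂ] ↥(U ⊓ Cs ρ fr (j + 1)) :=
      LinearMap.codRestrict _ (U.subtype.comp (LinearMap.ker f).subtype)
        fun u => hker u.1 (LinearMap.mem_ker.1 u.2)
    exact LinearMap.finrank_le_finrank_of_injective (f := L) fun u v huv =>
      Subtype.ext (Subtype.ext (show ((u : U) : E) = ((v : U) : E) from congrArg (fun z : ↥(U ⊓ Cs ρ fr (j + 1)) => (z : E)) huv))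
  omega

omit hψ in
/-- Some root element acts non-trivially. -/
theorem trivial_of_root (H : Hyp Q) {a0 b0 : V} (h0 : TS Q a0 b0)
    (h : ∀ c : F, op ρ a0 (c • b0) = 1) (g : Om) : ρ g = 1 := by
  have key : ∀ s : isometryGroup F ⇑Q, s ∈ sR Q → ∀ hs : s ∈ Omega F ⇑Q, ρ ⟨s, hs⟩ = 1 := by
    intro s hs
    induction hs using Subgroup.closure_induction with
    | one => intro hs; exact map_one ρ
    | mem x hx =>
      intro hxm
      obtain ⟨a, b, hab, hval⟩ := hx
      obtain ⟨k, hk, hka, c, hkb⟩ := exists_move_TS H.nd H.tri h0 hab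
      let k' : Om := ⟨k, sR_le_omega H.nd H.tri hk⟩
      have ha : act k' a0 = a := hka
      have hb : act k' b0 = b + c • a := hkb
      have h2 : (⟨x, hxm⟩ : Om) = k' * elt a0 ((1 : F) • b0) * k'⁻¹ := by
        rw [elt_conj H k' (h0.ok.smul 1), one_smul, ha, hb]
        refine omVal_ext ?_
        have hok : OK Q a (b + c • a) := by
          have := OK.map' h0.ok k'
          rwa [ha, hb] at this
        rw [elt_val H hok, eMat_add_self hab.ok]
        exact hval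
      rw [h2, map_mul, map_mul, show ρ (elt a0 ((1 : F) • b0)) = 1 from h 1, mul_one, ← map_mul,
        mul_inv_cancel, map_one]
    | mul x y hx hy ihx ihy =>
      intro hxy
      have hxm := sR_le_omega H.nd H.tri hx
      have hym := sR_le_omega H.nd H.tri hy
      rw [show (⟨x * y, hxy⟩ : Om) = ⟨x, hxm⟩ * ⟨y, hym⟩ from rfl, map_mul, ihx hxm, ihy hym, one_mul]
    | inv x hx ih =>
      intro hxi
      have hxm := sR_le_omega H.nd H.tri hx
      have h2 : ρ (⟨x⁻¹, hxi⟩ : Om) * ρ (⟨x, hxm⟩ : Om) = 1 := by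
        rw [← map_mul, show (⟨x⁻¹, hxi⟩ : Om) * ⟨x, hxm⟩ = 1 from Subtype.ext (inv_mul_cancel x), map_one]
      rwa [ih hxm, mul_one] at h2
  exact key g (OrthGen.omega_le_sR H.nd H.tri g.2) g.2

/-- A non-trivial representation has a non-trivial character on the first root group. -/
theorem exists_top (H : Hyp Q) (hm : 2 ≤ m) {g₀ : Om} (hg₀ : ρ g₀ ≠ 1) :
    ∃ y ∈ fr.W 1, y ≠ 0 ∧ Eig ρ ψ fr 0 y ≠ ⊥ := by
  by_contra hcon
  push Not at hcon
  apply hg₀
  have h01 : TS Q (fr.a 0) (fr.a 1) := by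
    refine ⟨fr.quad_a (by omega), fr.quad_a (by omega), fr.aa (by omega) (by omega), fun s t h => ?_⟩
    have h1 := congrArg (B (fr.b 0)) h
    have h2 := congrArg (B (fr.b 1)) h
    have o := fr.orth 0 1 (by omega) (by omega) (by omega)
    have o' := fr.orth 1 0 (by omega) (by omega) (by omega)
    simp [QuadraticMap.polar_add_right, QuadraticMap.polar_smul_right, fr.ba (by omega : 0 < m),
      fr.ba (by omega : 1 < m), o.1.2, o'.1.2] at h1 h2
    exact ⟨h1, h2⟩
  refine trivial_of_root ρ H h01 (fun c => LinearMap.ext fun u => ?_) g₀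
  have hu : u ∈ Cs ρ fr 0 := by rw [Cs_zero]; exact Submodule.mem_top
  have hm0 := prj_mem ρ ψ fr H (by omega : 0 < m) 0 hu
  have h0 : u = prj ρ ψ fr 0 0 u := by
    refine sub_eq_zero.1 (eq_zero_of_prj ρ ψ fr hψ H (by omega : 0 < m) fun y hy => ?_)
    rw [map_sub]
    rcases eq_or_ne y 0 with rfl | hy0
    · rw [prj_self ρ ψ fr hm0, sub_self]
    rw [prj_other ρ ψ fr hψ H (by omega) hy (zero_mem _) hy0 hm0, sub_zero]
    by_contra hne
    exact (Submodule.ne_bot_iff _).2 ⟨_, prj_mem ρ ψ fr H (by omega) y hu, hne⟩ (hcon y hy hy0)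
  rw [Eig_zero, ← h0] at hm0
  exact hm0 0 (by omega) _ (Submodule.smul_mem _ _ (fr.a_mem (by omega) le_rfl))

end Cfsg.Agent.Lie.OrthDeg
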