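import Cfsg.Agent.Lib.Lie.OrthDeg.Basic

/-! Stabilisers of initial segments of a frame and their orbits on vectors of a given value. -/

set_option autoImplicit false
set_option linter.unusedSectionVars false
set_option quotPrecheck false

noncomputable section

namespace Cfsg.Agent.Lie.OrthDeg

open Matrix Module Cfsg.Agent.Classical Cfsg.Agent.Classical.OrthAut

universe u

variable {F : Type u} [Field F] [Fintype F] {ι : Type} [Fintype ι] [DecidableEq ι]
  {Q : QuadraticForm F (ι → F)} {m : ℕ}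

local notation "V" => (ι → F)
local notation "B" => QuadraticMap.polar ⇑Q
local notation "Om" => Omega F ⇑Q

/-- The element scales the first `j` pairs and preserves their perpendiculars. -/
def Frame.Scales (fr : Frame Q m) (j : ℕ) (g : Om) : Prop :=
  ∀ i, i < j → (∃ c : F, c ≠ 0 ∧ act g (fr.a i) = c • fr.a i) ∧
    (∀ w ∈ fr.W (i + 1), act g w ∈ fr.W (i + 1))

theorem Frame.scales_of (fr : Frame Q m) {j : ℕ} {g : Om}
    (h : ∀ i, i < j → ∃ c d : F, c ≠ 0 ∧ d ≠ 0 ∧ act g (fr.a i) = c • fr.a i ∧ act g (fr.b i) = d • fr.b i) :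
    fr.Scales j g := by
  intro i hi
  obtain ⟨c, d, hc, hd, ha, hb⟩ := h i hi
  refine ⟨⟨c, hc, ha⟩, fun w hw => ?_⟩
  rw [fr.mem_W] at hw ⊢
  intro k hk
  obtain ⟨c', d', hc', hd', ha', hb'⟩ := h k (by omega)
  have h1 : B (act g (fr.a k)) (act g w) = 0 := by rw [act_polar]; exact (hw k hk).1
  have h2 : B (act g (fr.b k)) (act g w) = 0 := by rw [act_polar]; exact (hw k hk).2
  rw [ha', QuadraticMap.polar_smul_left, smul_eq_mul] at h1
  rw [hb', QuadraticMap.polar_smul_left, smul_eq_mul] at h2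
  exact ⟨(mul_eq_zero.1 h1).resolve_left hc', (mul_eq_zero.1 h2).resolve_left hd'⟩

/-- The element fixes the first `j` pairs. -/
def Frame.Fixes (fr : Frame Q m) (j : ℕ) (g : Om) : Prop :=
  ∀ i, i < j → act g (fr.a i) = fr.a i ∧ act g (fr.b i) = fr.b i

theorem Frame.Fixes.scales {fr : Frame Q m} {j : ℕ} {g : Om} (h : fr.Fixes j g) : fr.Scales j g :=
  fr.scales_of fun i hi => ⟨1, 1, one_ne_zero, one_ne_zero, by rw [one_smul]; exact (h i hi).1,
    by rw [one_smul]; exact (h i hi).2⟩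

theorem Frame.fixes_elt (H : Hyp Q) (fr : Frame Q m) {j : ℕ} {u v : V} (hu : u ∈ fr.W j) (hv : v ∈ fr.W j)
    (h : OK Q u v) : fr.Fixes j (elt u v) := by
  intro i hi
  constructor <;>
  · rw [act_elt H h, QuadraticMap.polar_comm _ u, QuadraticMap.polar_comm _ v]
    simp [fr.polar_a hi hu, fr.polar_a hi hv, fr.polar_b hi hu, fr.polar_b hi hv]

/-- A set stable under the moves available inside the perpendicular of `j + 1` pairs. -/
structure Frame.Stable (fr : Frame Q m) (j : ℕ) (P : V → Prop) : Prop where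
  move : ∀ g : Om, fr.Scales (j + 1) g → act g (fr.a j) = fr.a j →
    ∀ y ∈ fr.W (j + 1), P y → P (act g y)

theorem Frame.Stable.elt_move (H : Hyp Q) {fr : Frame Q m} {j : ℕ} {P : V → Prop} (hP : fr.Stable j P)
    {u v y : V} (hu : u ∈ fr.W (j + 1)) (hv : v ∈ fr.W (j + 1)) (h : OK Q u v) (hy : y ∈ fr.W (j + 1))
    (hPy : P y) : P (y + B u y • v - B v y • u - (Q v * B u y) • u) := by
  rw [← act_elt H h]
  have hf := fr.fixes_elt H hu hv h
  exact hP.move _ hf.scales (hf j (by omega)).1 y hy hPy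

/-- Vectors of the same value and the same product with a singular vector. -/
theorem Frame.Stable.translate (H : Hyp Q) {fr : Frame Q m} {j : ℕ} {P : V → Prop} (hP : fr.Stable j P)
    {w y z : V} (hw : w ∈ fr.W (j + 1)) (hw0 : Q w = 0) (hy : y ∈ fr.W (j + 1)) (hz : z ∈ fr.W (j + 1))
    (hq : Q z = Q y) (hB : B w z = B w y) (hne : B w y ≠ 0) (hPy : P y) : P z := by
  set t := B w y
  set d := t⁻¹ • (z - y)
  have hd : d ∈ fr.W (j + 1) := Submodule.smul_mem _ _ (sub_mem hz hy)
  have hwd : B w d = 0 := by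
    simp only [d, QuadraticMap.polar_smul_right, QuadraticMap.polar_sub_right, hB]
    simp [t]
  have := hP.elt_move H hw hd ⟨hw0, hwd⟩ hy hPy
  have e1 : B d y + Q d * t = 0 := by
    simp only [d, QuadraticMap.polar_smul_left, QuadraticMap.map_smul, smul_eq_mul,
      QuadraticMap.polar_sub_left]
    have hQ : Q (z - y) = Q z + Q y - B z y := by
      rw [sub_eq_add_neg, quad_add, QuadraticMap.map_neg, QuadraticMap.polar_neg_right]; ring
    rw [hQ, hq, polar_self2]
    field_simp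
    ring
  have e2 : y + t • d - B d y • w - (Q d * t) • w = z := by
    rw [sub_sub, ← add_smul, e1, zero_smul, sub_zero]
    simp only [d, smul_smul, mul_inv_cancel₀ hne, one_smul, add_sub_cancel]
  rwa [e2] at this

/-- All products with a singular vector of a pair are reached. -/
theorem Frame.Stable.side (H : Hyp Q) {fr : Frame Q m} {j : ℕ} {P : V → Prop} (hP : fr.Stable j P)
    {i k : ℕ} (hi : i < m) (hji : j + 1 ≤ i) (hk : k < m) (hkj : k ≠ j) (hki : k ≠ i) {e : V}
    (he : e = fr.a i ∨ e = fr.b i) {y z : V} (hy : y ∈ fr.W (j + 1)) (hz : z ∈ fr.W (j + 1))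
    (hq : Q z = Q y) (h1 : B e y ≠ 0) (h2 : B e z ≠ 0) (hPy : P y) : P z := by
  have heW : e ∈ fr.W (j + 1) := by
    rcases he with rfl | rfl
    · exact fr.a_mem hi hji
    · exact fr.b_mem hi hji
  have he0 : Q e = 0 := by
    rcases he with rfl | rfl
    · exact fr.quad_a hi
    · exact fr.quad_b hi
  let r := B e z / B e y
  have hr : r ≠ 0 := div_ne_zero h2 h1
  obtain ⟨ε, hε, hεr⟩ : ∃ ε : F, ε ≠ 0 ∧ (e = fr.a i ∧ ε = r⁻¹ ∨ e = fr.b i ∧ ε = r) := by
    rcases he with h | h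
    · exact ⟨r⁻¹, inv_ne_zero hr, Or.inl ⟨h, rfl⟩⟩
    · exact ⟨r, hr, Or.inr ⟨h, rfl⟩⟩
  obtain ⟨g, ga, gb, gc, gd, gfix⟩ := exists_torus2 H (fr.pair i hi) (fr.pair k hk)
    (fr.orth i k hi hk (Ne.symm hki)).1 (fr.orth i k hi hk (Ne.symm hki)).2 hε
  have hfix : ∀ l, l < j + 1 → l ≠ k → act g (fr.a l) = fr.a l ∧ act g (fr.b l) = fr.b l := by
    intro l hl hlk
    exact ⟨gfix _ (fr.orth i l hi (by omega) (by omega)).1 (fr.orth k l hk (by omega) (by omega)).1,
      gfix _ (fr.orth i l hi (by omega) (by omega)).2 (fr.orth k l hk (by omega) (by omega)).2⟩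
  have hsc : fr.Scales (j + 1) g := fr.scales_of fun l hl => by
    rcases eq_or_ne l k with rfl | hlk
    · exact ⟨ε, ε⁻¹, hε, inv_ne_zero hε, gc, gd⟩
    · exact ⟨1, 1, one_ne_zero, one_ne_zero, by rw [one_smul]; exact (hfix l hl hlk).1,
        by rw [one_smul]; exact (hfix l hl hlk).2⟩
  have hgy : act g y ∈ fr.W (j + 1) := (hsc j (by omega)).2 y hy
  have hP' := hP.move g hsc (hfix j (by omega) (Ne.symm hkj)).1 y hy hPy
  have hB : B e (act g y) = B e z := by
    have key : act g (r • e) = e := by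
      rcases hεr with ⟨rfl, rfl⟩ | ⟨rfl, rfl⟩
      · rw [act_smul, ga, smul_smul, mul_inv_cancel₀ hr, one_smul]
      · rw [act_smul, gb, smul_smul, mul_inv_cancel₀ hr, one_smul]
    conv_lhs => rw [← key, act_polar, QuadraticMap.polar_smul_left, smul_eq_mul]
    exact div_mul_cancel₀ _ h1
  exact hP.translate H heW he0 hgy hz (by rw [act_quad, hq]) hB.symm (by rw [hB]; exact h2) hP'


theorem Frame.Scales.inv {fr : Frame Q m} {j : ℕ} {g : Om} (h : fr.Scales j g) : fr.Scales j g⁻¹ := by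
  intro i hi
  obtain ⟨⟨c, hc, hca⟩, hW⟩ := h i hi
  refine ⟨⟨c⁻¹, inv_ne_zero hc, ?_⟩, fun w hw => ?_⟩
  · conv_lhs => rw [show fr.a i = c⁻¹ • (c • fr.a i) by rw [smul_smul, inv_mul_cancel₀ hc, one_smul],
      ← hca, act_smul, act_inv_cancel]
  · let f : fr.W (i + 1) → fr.W (i + 1) := fun v => ⟨act g v, hW v v.2⟩
    have hf : Function.Injective f := fun u v huv => Subtype.ext (by
      have := congrArg (fun x : fr.W (i + 1) => act g⁻¹ (x : V)) huv
      simpa [f, act_inv_cancel] using this)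
    obtain ⟨v, hv⟩ := (Finite.injective_iff_surjective.1 hf) ⟨w, hw⟩
    rw [← show act g (v : V) = w from congrArg Subtype.val hv, act_inv_cancel]
    exact v.2

theorem Frame.Stable.compl {fr : Frame Q m} {j : ℕ} {P : V → Prop} (hP : fr.Stable j P) :
    fr.Stable j fun v => ¬ P v := by
  refine ⟨fun g hg hga y hy hn hPg => hn ?_⟩
  have hga' : act g⁻¹ (fr.a j) = fr.a j := by
    conv_lhs => rw [← hga, act_inv_cancel]
  have := hP.move g⁻¹ hg.inv hga' _ ((hg j (by omega)).2 y hy) hPg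
  rwa [act_inv_cancel] at this

theorem Frame.exists_quad_ne (H : Hyp Q) (fr : Frame Q m) {j : ℕ} (hj : j ≤ m) (h : fr.W j ≠ ⊥) :
    ∃ v ∈ fr.W j, Q v ≠ 0 := by
  obtain ⟨x, hx, hx0⟩ := Submodule.exists_mem_ne_zero_of_ne_bot h
  by_contra hcon
  push Not at hcon
  refine hx0 (fr.nondeg H hj hx fun w hw => ?_)
  have := hcon _ (add_mem hx hw)
  rwa [quad_add, hcon x hx, hcon w hw, zero_add, zero_add] at this

/-- Every non-zero vector reaches the standard side. -/
theorem Frame.Stable.reach (H : Hyp Q) {fr : Frame Q m} (hm : 3 ≤ m) {j : ℕ} (hj : j + 1 < m)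
    (hx : fr.W (j + 2) ≠ ⊥) {P : V → Prop} (hP : fr.Stable j P) {y : V} (hy : y ∈ fr.W (j + 1))
    (hy0 : y ≠ 0) (hPy : P y) :
    ∃ y' ∈ fr.W (j + 1), Q y' = Q y ∧ B (fr.a (j + 1)) y' ≠ 0 ∧ P y' := by
  have spare : ∀ i, ∃ k, k < m ∧ k ≠ j ∧ k ≠ i := fun i => by
    by_cases h0 : j ≠ 0 ∧ i ≠ 0
    · exact ⟨0, by omega, h0.1.symm, h0.2.symm⟩
    · by_cases h1 : j ≠ 1 ∧ i ≠ 1
      · exact ⟨1, by omega, h1.1.symm, h1.2.symm⟩
      · exact ⟨2, by omega, by omega, by omega⟩
  have fromSide : ∀ i, j + 1 ≤ i → i < m → ∀ y ∈ fr.W (j + 1), P y →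
      (B (fr.a i) y ≠ 0 ∨ B (fr.b i) y ≠ 0) →
      ∃ y' ∈ fr.W (j + 1), Q y' = Q y ∧ B (fr.a (j + 1)) y' ≠ 0 ∧ P y' := by
    intro i hji hi y hy hPy hs
    obtain ⟨k, hk, hkj, hki⟩ := spare i
    have haj := fr.a_mem hj (le_refl (j + 1))
    have hbj := fr.b_mem hj (le_refl (j + 1))
    rcases eq_or_ne i (j + 1) with rfl | hne
    · rcases hs with h | h
      · exact ⟨y, hy, rfl, h, hPy⟩
      -- a vector meeting both members of the standard pair
      obtain ⟨z, hz, hzq, hza, hzb⟩ : ∃ z ∈ fr.W (j + 1), Q z = Q y ∧ B (fr.a (j + 1)) z ≠ 0 ∧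
          B (fr.b (j + 1)) z ≠ 0 := by
        by_cases hc : Q y = 0
        · obtain ⟨v, hv, hv0⟩ := fr.exists_quad_ne H (by omega : j + 2 ≤ m) hx
          have va := fr.polar_a (by omega : j + 1 < j + 2) hv
          have vb := fr.polar_b (by omega : j + 1 < j + 2) hv
          refine ⟨(-Q v) • fr.a (j + 1) + fr.b (j + 1) + v,
            add_mem (add_mem (Submodule.smul_mem _ _ haj) hbj) (fr.W_mono (by omega) hv), ?_, ?_, ?_⟩
          · simp only [quad_add, QuadraticMap.map_smul, fr.quad_a hj, fr.quad_b hj,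
              QuadraticMap.polar_add_left, QuadraticMap.polar_smul_left, fr.ab hj, va, vb, hc,
              smul_eq_mul]
            ring
          · simp [QuadraticMap.polar_add_right, QuadraticMap.polar_smul_right, fr.ab hj, fr.aa hj hj, va]
          · simp [QuadraticMap.polar_add_right, QuadraticMap.polar_smul_right, fr.ba hj, fr.bb hj hj, vb,
              hv0]
        · refine ⟨Q y • fr.a (j + 1) + fr.b (j + 1), add_mem (Submodule.smul_mem _ _ haj) hbj, ?_, ?_, ?_⟩
          · simp only [quad_add, QuadraticMap.map_smul, fr.quad_a hj, fr.quad_b hj,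
              QuadraticMap.polar_smul_left, fr.ab hj, smul_eq_mul]
            ring
          · simp [QuadraticMap.polar_add_right, QuadraticMap.polar_smul_right, fr.ab hj, fr.aa hj hj]
          · simp [QuadraticMap.polar_add_right, QuadraticMap.polar_smul_right, fr.ba hj, fr.bb hj hj, hc]
      exact ⟨z, hz, hzq, hza, hP.side H hj le_rfl hk hkj hki (Or.inr rfl) hy hz hzq h hzb hPy⟩
    · have hai := fr.a_mem hi hji
      have hbi := fr.b_mem hi hji
      have o := fr.orth (j + 1) i hj hi (Ne.symm hne)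
      have o' := fr.orth i (j + 1) hi hj hne
      let z := fr.b (j + 1) + Q y • fr.a i + fr.b i
      let z' := fr.b (j + 1) + fr.a i + Q y • fr.b i
      have za : B (fr.a (j + 1)) z = 1 := by
        simp [z, QuadraticMap.polar_add_right, QuadraticMap.polar_smul_right, fr.ab hj, o.1.1, o.2.1]
      have za' : B (fr.a (j + 1)) z' = 1 := by
        simp [z', QuadraticMap.polar_add_right, QuadraticMap.polar_smul_right, fr.ab hj, o.1.1, o.2.1]
      have zq : Q z = Q y ∧ Q z' = Q y := by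
        constructor <;>
        · simp only [z, z', quad_add, QuadraticMap.map_smul, fr.quad_a hi, fr.quad_b hi, fr.quad_b hj,
            QuadraticMap.polar_add_left, QuadraticMap.polar_smul_left, QuadraticMap.polar_smul_right,
            fr.ab hi, o.1.2, o.2.2, smul_eq_mul]
          ring
      rcases hs with h | h
      · have hzi : B (fr.a i) z = 1 := by
          simp [z, QuadraticMap.polar_add_right, QuadraticMap.polar_smul_right, fr.aa hi hi, fr.ab hi,
            o'.2.1]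
        have hz : z ∈ fr.W (j + 1) := add_mem (add_mem hbj (Submodule.smul_mem _ _ hai)) hbi
        exact ⟨z, hz, zq.1, by rw [za]; exact one_ne_zero, hP.side H hi hji hk hkj hki (Or.inl rfl) hy hz
          zq.1 h (by rw [hzi]; exact one_ne_zero) hPy⟩
      · have hzi : B (fr.b i) z' = 1 := by
          simp [z', QuadraticMap.polar_add_right, QuadraticMap.polar_smul_right, fr.bb hi hi, fr.ba hi,
            o'.2.2]
        have hz : z' ∈ fr.W (j + 1) := add_mem (add_mem hbj hai) (Submodule.smul_mem _ _ hbi)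
        exact ⟨z', hz, zq.2, by rw [za']; exact one_ne_zero, hP.side H hi hji hk hkj hki (Or.inr rfl) hy
          hz zq.2 h (by rw [hzi]; exact one_ne_zero) hPy⟩
  by_cases hcase : ∃ i, j + 1 ≤ i ∧ i < m ∧ (B (fr.a i) y ≠ 0 ∨ B (fr.b i) y ≠ 0)
  · obtain ⟨i, hji, hi, hs⟩ := hcase
    exact fromSide i hji hi y hy hPy hs
  push Not at hcase
  have hym : y ∈ fr.W m := fr.mem_W.2 fun i hi => by
    rcases Nat.lt_or_ge i (j + 1) with h | h
    · exact fr.mem_W.1 hy i h
    · exact hcase i h hi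
  obtain ⟨w, hw, hwy⟩ : ∃ w ∈ fr.W m, B w y ≠ 0 := by
    by_contra hcon
    push Not at hcon
    exact hy0 (fr.nondeg H le_rfl hym fun w hw => by rw [QuadraticMap.polar_comm]; exact hcon w hw)
  have hw' : w ∈ fr.W (j + 1) := fr.W_mono (by omega) hw
  have ha := fr.a_mem hj (le_refl (j + 1))
  have hok : OK Q (fr.a (j + 1)) w := ⟨fr.quad_a hj, fr.polar_a hj hw⟩
  have hmove := hP.elt_move H ha hw' hok hy hPy
  have h0 : B (fr.a (j + 1)) y = 0 := fr.polar_a hj hym
  rw [h0, zero_smul, add_zero, mul_zero, zero_smul, sub_zero] at hmove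
  have hy2 : y - B w y • fr.a (j + 1) ∈ fr.W (j + 1) := sub_mem hy (Submodule.smul_mem _ _ ha)
  obtain ⟨y', h1, h2, h3, h4⟩ := fromSide (j + 1) le_rfl hj _ hy2 hmove (Or.inr (by
    rw [QuadraticMap.polar_sub_right, QuadraticMap.polar_smul_right, fr.polar_b hj hym, fr.ba hj]
    simpa using hwy))
  refine ⟨y', h1, h2.trans ?_, h3, h4⟩
  rw [sub_eq_add_neg, quad_add, QuadraticMap.map_neg, QuadraticMap.map_smul, fr.quad_a hj, smul_zero,
    QuadraticMap.polar_neg_right, QuadraticMap.polar_smul_right, QuadraticMap.polar_comm _ y, h0]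
  simp

/-- A stable set contains all vectors of a value. -/
theorem Frame.Stable.all (H : Hyp Q) {fr : Frame Q m} (hm : 3 ≤ m) {j : ℕ} (hj : j + 1 < m)
    (hx : fr.W (j + 2) ≠ ⊥) {P : V → Prop} (hP : fr.Stable j P) {y z : V} (hy : y ∈ fr.W (j + 1))
    (hy0 : y ≠ 0) (hPy : P y) (hz : z ∈ fr.W (j + 1)) (hz0 : z ≠ 0) (hq : Q z = Q y) : P z := by
  by_contra hn
  obtain ⟨y', hy', hyq, hya, hPy'⟩ := hP.reach H hm hj hx hy hy0 hPy
  obtain ⟨z', hz', hzq, hza, hnz'⟩ := hP.compl.reach H hm hj hx hz hz0 hn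
  obtain ⟨k, hk, hkj, hki⟩ : ∃ k, k < m ∧ k ≠ j ∧ k ≠ j + 1 := by
    rcases Nat.eq_zero_or_pos j with rfl | h
    · exact ⟨2, by omega, by omega, by omega⟩
    · exact ⟨0, by omega, by omega, by omega⟩
  exact hnz' (hP.side H hj le_rfl hk hkj hki (Or.inl rfl) hy' hz' (by rw [hzq, hq, hyq]) hya hza hPy')

end Cfsg.Agent.Lie.OrthDeg
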