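import Cfsg.Agent.Lib.Lie.OrthDeg.Kill

/-! Moving eigenvectors between neighbouring levels of a frame. -/

set_option autoImplicit false
set_option linter.unusedSectionVars false
set_option quotPrecheck false

noncomputable section

namespace Cfsg.Agent.Lie.OrthDeg

open Matrix Module Cfsg.Agent.Classical Cfsg.Agent.Classical.OrthAut

universe u v

variable {F : Type u} [Field F] [Fintype F] {ι : Type} [Fintype ι] [DecidableEq ι]
  {Q : QuadraticForm F (ι → F)} {m : ℕ}
variable {E : Type v} [AddCommGroup E] [Module ℂ E] [FiniteDimensional ℂ E]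

local notation "V" => (ι → F)
local notation "B" => QuadraticMap.polar ⇑Q
local notation "Om" => Omega F ⇑Q

variable (ρ : Representation ℂ (Omega F ⇑Q) E) (ψ : AddChar F ℂ) (fr : Frame Q m)

/-- The element turning the pair `j` into the pair `j + 1`. -/
def sw (j : ℕ) : Om :=
  elt (fr.a j) (fr.b (j + 1)) * elt (fr.a (j + 1)) (-fr.b j) * elt (fr.a j) (fr.b (j + 1))

theorem act_sw (H : Hyp Q) {j : ℕ} (hj : j + 1 < m) (x : V) :
    act (sw fr j) x = act (elt (fr.a j) (fr.b (j + 1)) : Om)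
      (act (elt (fr.a (j + 1)) (-fr.b j) : Om) (act (elt (fr.a j) (fr.b (j + 1)) : Om) x)) := by
  rw [sw, act_mul, act_mul]

section
variable (H : Hyp Q) {j : ℕ} (hj : j + 1 < m)
include H hj

theorem ok_sw₁ : OK Q (fr.a j) (fr.b (j + 1)) :=
  ⟨fr.quad_a (by omega), (fr.orth j (j + 1) (by omega) hj (by omega)).2.1⟩

theorem ok_sw₂ : OK Q (fr.a (j + 1)) (-fr.b j) :=
  ⟨fr.quad_a hj, by
    rw [QuadraticMap.polar_neg_right, (fr.orth (j + 1) j hj (by omega) (by omega)).2.1, neg_zero]⟩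

theorem sw_a : act (sw fr j) (fr.a j) = fr.a (j + 1) := by
  have o := fr.orth j (j + 1) (by omega) hj (by omega)
  have o' := fr.orth (j + 1) j hj (by omega) (by omega)
  simp [act_sw fr H hj, act_elt H (ok_sw₁ fr H hj), act_elt H (ok_sw₂ fr H hj),
    QuadraticMap.polar_add_right, QuadraticMap.polar_sub_right, QuadraticMap.polar_neg_right,
    QuadraticMap.polar_neg_left, QuadraticMap.polar_smul_right, fr.aa (by omega : j < m) (by omega : j < m),
    fr.aa hj hj, fr.bb hj hj, fr.bb (by omega : j < m) (by omega : j < m), fr.ab (by omega : j < m),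
    fr.ba (by omega : j < m), fr.ab hj, fr.ba hj, o.1.1, o.1.2, o.2.1, o.2.2, o'.1.1, o'.1.2, o'.2.1,
    o'.2.2, fr.quad_b hj, fr.quad_b (by omega : j < m)]

theorem sw_a' : act (sw fr j) (fr.a (j + 1)) = -fr.a j := by
  have o := fr.orth j (j + 1) (by omega) hj (by omega)
  have o' := fr.orth (j + 1) j hj (by omega) (by omega)
  simp [act_sw fr H hj, act_elt H (ok_sw₁ fr H hj), act_elt H (ok_sw₂ fr H hj),
    QuadraticMap.polar_add_right, QuadraticMap.polar_sub_right, QuadraticMap.polar_neg_right,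
    QuadraticMap.polar_neg_left, QuadraticMap.polar_smul_right, fr.aa (by omega : j < m) (by omega : j < m),
    fr.aa hj hj, fr.bb hj hj, fr.bb (by omega : j < m) (by omega : j < m), fr.ab (by omega : j < m),
    fr.ba (by omega : j < m), fr.ab hj, fr.ba hj, o.1.1, o.1.2, o.2.1, o.2.2, o'.1.1, o'.1.2, o'.2.1,
    o'.2.2, fr.quad_b hj, fr.quad_b (by omega : j < m)]

theorem sw_b : act (sw fr j) (fr.b j) = fr.b (j + 1) := by
  have o := fr.orth j (j + 1) (by omega) hj (by omega)
  have o' := fr.orth (j + 1) j hj (by omega) (by omega)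
  simp [act_sw fr H hj, act_elt H (ok_sw₁ fr H hj), act_elt H (ok_sw₂ fr H hj),
    QuadraticMap.polar_add_right, QuadraticMap.polar_sub_right, QuadraticMap.polar_neg_right,
    QuadraticMap.polar_neg_left, QuadraticMap.polar_smul_right, fr.aa (by omega : j < m) (by omega : j < m),
    fr.aa hj hj, fr.bb hj hj, fr.bb (by omega : j < m) (by omega : j < m), fr.ab (by omega : j < m),
    fr.ba (by omega : j < m), fr.ab hj, fr.ba hj, o.1.1, o.1.2, o.2.1, o.2.2, o'.1.1, o'.1.2, o'.2.1,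
    o'.2.2, fr.quad_b hj, fr.quad_b (by omega : j < m)]

theorem sw_fix {x : V} (hx : x ∈ fr.W (j + 2)) : act (sw fr j) x = x := by
  simp [act_sw fr H hj, act_elt H (ok_sw₁ fr H hj), act_elt H (ok_sw₂ fr H hj),
    QuadraticMap.polar_neg_left, QuadraticMap.polar_neg_right,
    fr.polar_a (by omega : j < j + 2) hx, fr.polar_a (by omega : j + 1 < j + 2) hx,
    fr.polar_b (by omega : j < j + 2) hx, fr.polar_b (by omega : j + 1 < j + 2) hx]

theorem sw_fixes : fr.Fixes j (sw fr j) := by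
  intro i hi
  have ha := fr.a_mem (by omega : j < m) (le_refl j)
  have hb := fr.b_mem (by omega : j < m) (le_refl j)
  have ha' := fr.a_mem hj (by omega : j ≤ j + 1)
  have hb' := fr.b_mem hj (by omega : j ≤ j + 1)
  have f1 := fr.fixes_elt H ha hb' (ok_sw₁ fr H hj) i hi
  have f2 := fr.fixes_elt H ha' (neg_mem hb) (ok_sw₂ fr H hj) i hi
  constructor
  · rw [act_sw fr H hj, f1.1, f2.1, f1.1]
  · rw [act_sw fr H hj, f1.2, f2.2, f1.2]

end

/-- Projections commute with the root group. -/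
theorem prj_comm (H : Hyp Q) {j : ℕ} (hj : j < m) (z : V) {w : V} (hw : w ∈ fr.W (j + 1)) (u : E) :
    prj ρ ψ fr j z (op ρ (fr.a j) w u) = ψ (B z w) • prj ρ ψ fr j z u := by
  letI := Fintype.ofFinite (fr.W (j + 1))
  have h1 := LinearMap.congr_fun
    (Char.a_mul_cproj (ψ := ψ) (fam_add ρ fr H hj) (func fr j z) ⟨w, hw⟩) u
  rw [Module.End.mul_apply, LinearMap.smul_apply, func_apply] at h1
  rw [prj]
  refine Eq.trans ?_ h1
  simp only [Char.cproj, LinearMap.smul_apply, LinearMap.sum_apply, map_smul, map_sum]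
  refine congrArg _ (Finset.sum_congr rfl fun v _ => congrArg _ ?_)
  show fam ρ fr j v (fam ρ fr j ⟨w, hw⟩ u) = fam ρ fr j ⟨w, hw⟩ (fam ρ fr j v u)
  rw [← Module.End.mul_apply, ← Module.End.mul_apply, ← fam_add ρ fr H hj, ← fam_add ρ fr H hj,
    add_comm]

/-- Projections are equivariant. -/
theorem prj_map (H : Hyp Q) {j : ℕ} (hj : j < m) {g : Om} (hg : fr.Scales (j + 1) g)
    (hga : act g (fr.a j) = fr.a j) (z : V) (u : E) :
    ρ g (prj ρ ψ fr j z u) = prj ρ ψ fr j (act g z) (ρ g u) := by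
  letI := Fintype.ofFinite (fr.W (j + 1))
  let e : fr.W (j + 1) ≃ fr.W (j + 1) :=
    { toFun := fun v => ⟨act g v, (hg j (by omega)).2 v v.2⟩
      invFun := fun v => ⟨act g⁻¹ v, (hg.inv j (by omega)).2 v v.2⟩
      left_inv := fun v => Subtype.ext (act_inv_cancel g v)
      right_inv := fun v => Subtype.ext (act_inv_cancel' g v) }
  simp only [prj, Char.cproj, LinearMap.smul_apply, LinearMap.sum_apply, map_smul, map_sum]
  refine congrArg _ (Fintype.sum_equiv e _ _ fun v => ?_)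
  have h1 := op_conj ρ H g (fr.ok hj v.2) u
  rw [hga] at h1
  simp only [e, Equiv.coe_fn_mk, fam, func_apply, act_polar, h1]

variable (hψ : ψ ≠ 1)
include hψ

omit [Fintype ι] [DecidableEq ι] in
theorem eq_zero_of_char {c : F} (h : ∀ r : F, ψ (r * c) = 1) : c = 0 := by
  by_contra hc
  refine hψ (DFunLike.ext _ _ fun x => ?_)
  rw [show x = x / c * c by field_simp]
  simpa using h (x / c)

theorem prj_ne_char (H : Hyp Q) {j : ℕ} (hj : j < m) {z : V} {w : V} (hw : w ∈ fr.W (j + 1)) {u : E}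
    {c : ℂ} (hu : op ρ (fr.a j) w u = c • u) (hz : ψ (B z w) ≠ c) : prj ρ ψ fr j z u = 0 := by
  have h1 := prj_comm ρ ψ fr H hj z hw u
  rw [hu, map_smul] at h1
  have h2 : (c - ψ (B z w)) • prj ρ ψ fr j z u = 0 := by rw [sub_smul, h1, sub_self]
  exact (smul_eq_zero.1 h2).resolve_left (sub_ne_zero.2 (Ne.symm hz))

theorem char_eq_of_forall {A : Submodule F V} {z y : V} (h : ∀ w ∈ A, ψ (B z w) = ψ (B y w)) {w : V}
    (hw : w ∈ A) : B (z - y) w = 0 := by
  refine eq_zero_of_char ψ hψ fun r => ?_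
  have h1 := h _ (Submodule.smul_mem _ r hw)
  simp only [QuadraticMap.polar_smul_right, smul_eq_mul] at h1
  rw [QuadraticMap.polar_sub_left, mul_sub, sub_eq_add_neg, AddChar.map_add_eq_mul, h1,
    ← AddChar.map_add_eq_mul, add_neg_cancel, AddChar.map_zero_eq_one]

/-- A vector of an eigenspace at the lower level determined by a partial character. -/
theorem prj_support (H : Hyp Q) {j : ℕ} (hj : j + 1 < m) {y : V} (hy : y ∈ fr.W (j + 2)) {v : E}
    (h1 : ∀ w ∈ fr.W (j + 2), op ρ (fr.a j) w v = ψ (B y w) • v)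
    (h2 : ∀ r : F, op ρ (fr.a j) (r • fr.a (j + 1)) v = v) {z : V} (hz : z ∈ fr.W (j + 1))
    (hne : prj ρ ψ fr j z v ≠ 0) : ∃ r : F, z = y + r • fr.a (j + 1) := by
  have haW := fr.a_mem hj (le_refl (j + 1))
  have hA : ∀ w ∈ fr.W (j + 2), B (z - y) w = 0 := fun w hw => char_eq_of_forall ψ hψ (fun x hx => by
    by_contra hc
    exact hne (prj_ne_char ρ ψ fr hψ H (by omega) (fr.W_mono (by omega) hx) (h1 x hx) hc)) hw
  have hza : B z (fr.a (j + 1)) = 0 := eq_zero_of_char ψ hψ fun r => by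
    by_contra hc
    refine hne (prj_ne_char ρ ψ fr hψ H (by omega) (Submodule.smul_mem _ r haW) (c := 1)
      (by rw [one_smul]; exact h2 r) ?_)
    rwa [QuadraticMap.polar_smul_right, smul_eq_mul]
  refine ⟨B (fr.b (j + 1)) z, ?_⟩
  have hp := fr.proj_mem hj hz
  have hzy : fr.proj (j + 1) z = y := by
    refine sub_eq_zero.1 (fr.nondeg H (by omega : j + 2 ≤ m) (sub_mem hp hy) fun w hw => ?_)
    rw [← hA w hw]
    simp [Frame.proj, QuadraticMap.polar_sub_left, QuadraticMap.polar_smul_left,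
      fr.polar_a (by omega : j + 1 < j + 2) hw, fr.polar_b (by omega : j + 1 < j + 2) hw]
  conv_lhs => rw [fr.decomp (j + 1) z, hzy, QuadraticMap.polar_comm _ (fr.a (j + 1)), hza, zero_smul,
    add_zero]
  rw [add_comm]

omit hψ in
theorem op_a_swap (H : Hyp Q) {j : ℕ} (hj : j + 1 < m) (r : F) :
    op ρ (fr.a (j + 1)) (r • fr.a j) = op ρ (fr.a j) ((-r) • fr.a (j + 1)) := by
  have h0 : B (fr.a j) (fr.a (j + 1)) = 0 := fr.aa (by omega) hj
  rw [op, op, elt_swap H (fr.quad_a hj) (by rw [QuadraticMap.map_smul, fr.quad_a (by omega : j < m), smul_zero])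
      (by rw [QuadraticMap.polar_smul_right, QuadraticMap.polar_comm, h0, smul_zero]),
    elt_smul_left H ⟨fr.quad_a (by omega), by rw [QuadraticMap.polar_neg_right, h0, neg_zero]⟩,
    smul_neg, neg_smul]

/-- A vector turned into the lower level has a component of the opposite character. -/
theorem rot_support (H : Hyp Q) {j : ℕ} (hj : j + 1 < m) {y : V} (hy : y ∈ fr.W (j + 2)) {x : E}
    (h1 : ∀ w ∈ fr.W (j + 2), op ρ (fr.a (j + 1)) w x = ψ (B y w) • x)
    (h2 : ∀ r : F, op ρ (fr.a j) (r • fr.a (j + 1)) x = x) {z : V} (hz : z ∈ fr.W (j + 1))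
    (hne : prj ρ ψ fr j z (ρ (sw fr j) x) ≠ 0) : ∃ r : F, z = -y + r • fr.a (j + 1) := by
  refine prj_support ρ ψ fr hψ H hj (neg_mem hy) ?_ ?_ hz hne
  · intro w hw
    have hok : OK Q (fr.a (j + 1)) (-w) := fr.ok hj (neg_mem hw)
    have h := op_conj ρ H (sw fr j) hok x
    rw [h1 _ (neg_mem hw), sw_a' fr H hj, sw_fix fr H hj (neg_mem hw), map_smul,
      ← neg_one_smul F (fr.a j), op_smul_left ρ H (fr.ok (by omega) (fr.W_mono (by omega) (neg_mem hw))),
      smul_neg, neg_one_smul, neg_neg] at h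
    rw [h, QuadraticMap.polar_neg_left, QuadraticMap.polar_neg_right]
  · intro r
    have hok : OK Q (fr.a j) (r • fr.a (j + 1)) :=
      fr.ok (by omega) (Submodule.smul_mem _ _ (fr.a_mem hj le_rfl))
    have h := op_conj ρ H (sw fr j) hok x
    rw [h2 r, sw_a fr H hj, act_smul, sw_a' fr H hj, smul_neg, ← neg_smul, op_a_swap ρ fr H hj,
      neg_neg] at h
    exact h

/-- Multiplicities do not grow upwards. -/
theorem finrank_up (H : Hyp Q) {j : ℕ} (hj : j + 1 < m) {y : V} (hy : y ∈ fr.W (j + 2)) (hy0 : y ≠ 0) :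
    finrank ℂ (Eig ρ ψ fr (j + 1) y) ≤ finrank ℂ (Eig ρ ψ fr j (-y)) := by
  let f : Eig ρ ψ fr (j + 1) y →ₗ[ℂ] E :=
    (prj ρ ψ fr j (-y)).comp ((ρ (sw fr j)).comp (Eig ρ ψ fr (j + 1) y).subtype)
  have hmem : ∀ u, f u ∈ Eig ρ ψ fr j (-y) := fun u => prj_mem ρ ψ fr H (by omega) _
    (map_Cs ρ fr H (by omega) (sw_fixes fr H hj).scales (Cs_mono ρ fr (by omega) u.2.1))
  refine LinearMap.finrank_le_finrank_of_injective (f := f.codRestrict _ hmem) ?_
  rw [← LinearMap.ker_eq_bot, Submodule.eq_bot_iff]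
  intro u hu
  have h0 : prj ρ ψ fr j (-y) (ρ (sw fr j) (u : E)) = 0 := congrArg Subtype.val (LinearMap.mem_ker.1 hu)
  have hu1 := u.2.1 j (by omega)
  have haW := fr.a_mem hj (le_refl (j + 1))
  refine Subtype.ext (rho_injective ρ (sw fr j) ?_)
  show ρ (sw fr j) (u : E) = ρ (sw fr j) 0
  rw [map_zero]
  refine eq_zero_of_prj ρ ψ fr hψ H (by omega : j < m) fun z hz => ?_
  by_contra hne
  obtain ⟨r, rfl⟩ := rot_support ρ ψ fr hψ H hj hy (fun w hw => u.2.2 w hw)
    (fun r => hu1 _ (Submodule.smul_mem _ _ haW)) hz hne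
  obtain ⟨w, hw, hwy⟩ : ∃ w ∈ fr.W (j + 2), B w y ≠ 0 := by
    by_contra hcon
    push Not at hcon
    exact hy0 (fr.nondeg H (by omega : j + 2 ≤ m) hy fun w hw => by
      rw [QuadraticMap.polar_comm]; exact hcon w hw)
  set w' := (r / B w y) • w
  have hw' : w' ∈ fr.W (j + 2) := Submodule.smul_mem _ _ hw
  have hok : OK Q (fr.a (j + 1)) w' := fr.ok hj hw'
  have hf := fr.fixes_elt H haW (fr.W_mono (by omega) hw') hok
  have hv : op ρ (fr.a (j + 1)) w' (ρ (sw fr j) (u : E)) = ρ (sw fr j) (u : E) := by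
    have h := op_conj ρ H (sw fr j) (fr.ok (by omega : j < m) (fr.W_mono (by omega) hw')) (u : E)
    rwa [hu1 _ (fr.W_mono (by omega) hw'), sw_a fr H hj, sw_fix fr H hj hw'] at h
  have hgz : act (elt (fr.a (j + 1)) w' : Om) (-y) = -y + r • fr.a (j + 1) := by
    rw [act_elt H hok, QuadraticMap.polar_neg_right, fr.polar_a (by omega : j + 1 < j + 2) hy,
      QuadraticMap.polar_neg_right]
    simp only [neg_zero, zero_smul, mul_zero, add_zero, sub_zero, w', QuadraticMap.polar_smul_left,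
      smul_eq_mul, div_mul_cancel₀ _ hwy]
    module
  have h2 := prj_map ρ ψ fr H (by omega : j < m) hf.scales (hf j (by omega)).1 (-y) (ρ (sw fr j) (u : E))
  rw [h0, map_zero, hgz, show ρ (elt (fr.a (j + 1)) w') (ρ (sw fr j) (u : E)) = ρ (sw fr j) (u : E) from hv]
    at h2
  exact hne h2.symm

/-- An eigenvector gives one at the next level. -/
theorem Eig_down (H : Hyp Q) {j : ℕ} (hj : j + 1 < m) {y : V} (hy : y ∈ fr.W (j + 2)) (hy0 : y ≠ 0)
    {u : E} (hu : u ∈ Eig ρ ψ fr j y) (hu0 : u ≠ 0)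
    (h1 : ∀ w ∈ fr.W (j + 2), B w y = 0 → op ρ (fr.a (j + 1)) w u = u)
    (h2 : ∀ r : F, r ≠ 0 → ∀ w ∈ fr.W (j + 2), ∀ v ∈ Eig ρ ψ fr j (r • fr.a (j + 1)),
      op ρ (fr.a (j + 1)) w v = v) :
    Eig ρ ψ fr (j + 1) y ≠ ⊥ := by
  classical
  letI := Fintype.ofFinite (fr.W (j + 2))
  have haW := fr.a_mem hj (le_refl (j + 1))
  have hy1 : y ∈ fr.W (j + 1) := fr.W_mono (by omega) hy
  set U : E := ∑ w : fr.W (j + 2), op ρ (fr.a (j + 1)) (w : V) u with hUdef
  have hgy : ∀ w : V, w ∈ fr.W (j + 2) →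
      act (elt (fr.a (j + 1)) w : Om) y = y + (-B w y) • fr.a (j + 1) := by
    intro w hw
    rw [act_elt H (fr.ok hj hw), fr.polar_a (by omega : j + 1 < j + 2) hy]
    simp only [zero_smul, mul_zero, add_zero, sub_zero]
    module
  have hEig : ∀ w : V, w ∈ fr.W (j + 2) →
      op ρ (fr.a (j + 1)) w u ∈ Eig ρ ψ fr j (y + (-B w y) • fr.a (j + 1)) := by
    intro w hw
    have hf := fr.fixes_elt H haW (fr.W_mono (by omega) hw) (fr.ok hj hw)
    have := map_Eig ρ ψ fr H (by omega : j < m) hf.scales one_ne_zero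
      (by rw [one_smul]; exact (hf j (by omega)).1) hu
    rwa [inv_one, one_smul, hgy w hw] at this
  have hUCs : U ∈ Cs ρ fr j := Submodule.sum_mem _ fun w _ => (hEig w w.2).1
  have hUe : ∀ v ∈ fr.W (j + 2), op ρ (fr.a j) v U = ψ (B y v) • U := by
    intro v hv
    rw [hUdef, map_sum, Finset.smul_sum]
    refine Finset.sum_congr rfl fun w _ => ?_
    rw [(hEig w w.2).2 v (fr.W_mono (by omega) hv), QuadraticMap.polar_add_left,
      QuadraticMap.polar_smul_left, fr.polar_a (by omega : j + 1 < j + 2) hv]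
    simp
  have hUa : ∀ r : F, op ρ (fr.a j) (r • fr.a (j + 1)) U = U := by
    intro r
    rw [hUdef, map_sum]
    refine Finset.sum_congr rfl fun w _ => ?_
    rw [(hEig w w.2).2 _ (Submodule.smul_mem _ _ haW), QuadraticMap.polar_smul_right,
      QuadraticMap.polar_add_left, QuadraticMap.polar_smul_left, fr.aa hj hj,
      QuadraticMap.polar_comm _ y, fr.polar_a (by omega : j + 1 < j + 2) hy]
    simp
  have hUf : ∀ v ∈ fr.W (j + 2), op ρ (fr.a (j + 1)) v U = U := by
    intro v hv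
    rw [hUdef, map_sum]
    refine Fintype.sum_equiv (Equiv.addLeft (⟨v, hv⟩ : fr.W (j + 2))) _ _ fun w => ?_
    rw [Equiv.coe_addLeft, Submodule.coe_add, op_add ρ H (fr.ok hj hv) (fr.ok hj w.2),
      Module.End.mul_apply]
  have hU0 : U ≠ 0 := by
    intro h
    have h3 := congrArg (prj ρ ψ fr j y) h
    rw [hUdef, map_sum, map_zero] at h3
    have hterm : ∀ w : fr.W (j + 2),
        prj ρ ψ fr j y (op ρ (fr.a (j + 1)) (w : V) u) = if B (w : V) y = 0 then u else 0 := by
      intro w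
      by_cases hc : B (w : V) y = 0
      · rw [if_pos hc, h1 w w.2 hc, prj_self ρ ψ fr hu]
      · rw [if_neg hc]
        refine prj_other ρ ψ fr hψ H (by omega) hy1
          (add_mem hy1 (Submodule.smul_mem _ _ haW)) (fun e => hc ?_) (hEig w w.2)
        have e' := congrArg (B (fr.b (j + 1))) e
        simpa [QuadraticMap.polar_add_right, QuadraticMap.polar_smul_right, fr.ba hj] using e'
    simp only [hterm, Finset.sum_ite, Finset.sum_const, Finset.sum_const_zero, smul_zero, add_zero, ← Nat.cast_smul_eq_nsmul ℂ,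
      smul_eq_zero, hu0, or_false, Nat.cast_eq_zero, Finset.card_eq_zero] at h3
    exact Finset.notMem_empty (0 : fr.W (j + 2)) (h3 ▸ Finset.mem_filter.2 ⟨Finset.mem_univ _, by simp⟩)
  set x : E := ρ (sw fr j) U with hxdef
  have hxCs : x ∈ Cs ρ fr j := map_Cs ρ fr H (by omega) (sw_fixes fr H hj).scales hUCs
  have hxy : ∀ w ∈ fr.W (j + 2), op ρ (fr.a (j + 1)) w x = ψ (B y w) • x := by
    intro w hw
    have h := op_conj ρ H (sw fr j) (fr.ok (by omega : j < m) (fr.W_mono (by omega) hw)) U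
    rwa [hUe w hw, sw_a fr H hj, sw_fix fr H hj hw, map_smul] at h
  have hxe : ∀ w ∈ fr.W (j + 2), op ρ (fr.a j) w x = ψ (B (0 : V) w) • x := by
    intro w hw
    rw [QuadraticMap.polar_zero_left, AddChar.map_zero_eq_one, one_smul]
    have h := op_conj ρ H (sw fr j) (fr.ok hj (neg_mem hw)) U
    rw [hUf _ (neg_mem hw), sw_a' fr H hj, sw_fix fr H hj (neg_mem hw), ← neg_one_smul F (fr.a j),
      op_smul_left ρ H (fr.ok (by omega) (fr.W_mono (by omega) (neg_mem hw))), smul_neg, neg_one_smul,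
      neg_neg] at h
    exact h
  have hxa : ∀ r : F, op ρ (fr.a j) (r • fr.a (j + 1)) x = x := by
    intro r
    have hok : OK Q (fr.a j) (r • fr.a (j + 1)) :=
      fr.ok (by omega) (Submodule.smul_mem _ _ haW)
    have h := op_conj ρ H (sw fr j) hok U
    rwa [hUa r, sw_a fr H hj, act_smul, sw_a' fr H hj, smul_neg, ← neg_smul, op_a_swap ρ fr H hj,
      neg_neg] at h
  set p := prj ρ ψ fr j 0 x with hpdef
  have hpm : p ∈ Cs ρ fr (j + 1) := by
    rw [← Eig_zero ρ ψ fr j]; exact prj_mem ρ ψ fr H (by omega) 0 hxCs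
  have hpy : p ∈ Eig ρ ψ fr (j + 1) y := by
    refine ⟨hpm, fun w hw => ?_⟩
    have hf := fr.fixes_elt H haW (fr.W_mono (by omega) hw) (fr.ok hj hw)
    have h := prj_map ρ ψ fr H (by omega : j < m) hf.scales (hf j (by omega)).1 0 x
    rw [act_zero, show ρ (elt (fr.a (j + 1)) w) x = ψ (B y w) • x from hxy w hw, map_smul] at h
    exact h
  refine (Submodule.ne_bot_iff _).2 ⟨p, hpy, fun hp0 => ?_⟩
  obtain ⟨w, hw, hwψ⟩ : ∃ w ∈ fr.W (j + 2), ψ (B y w) ≠ 1 := by
    by_contra hcon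
    push Not at hcon
    refine hy0 (fr.nondeg H (by omega : j + 2 ≤ m) hy fun w hw => eq_zero_of_char ψ hψ fun r => ?_)
    have := hcon _ (Submodule.smul_mem _ r hw)
    rwa [QuadraticMap.polar_smul_right, smul_eq_mul] at this
  have hfix : op ρ (fr.a (j + 1)) w x = x := by
    refine sub_eq_zero.1 (eq_zero_of_prj ρ ψ fr hψ H (by omega : j < m) fun z hz => ?_)
    by_cases hzx : prj ρ ψ fr j z x = 0
    · have hf := fr.fixes_elt H haW (fr.W_mono (by omega) hw) (fr.ok hj hw)
      obtain ⟨z', hz', rfl⟩ : ∃ z' ∈ fr.W (j + 1), act (elt (fr.a (j + 1)) w : Om) z' = z :=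
        ⟨_, (hf.scales.inv j (by omega)).2 z hz, act_inv_cancel' _ _⟩
      rw [map_sub, hzx, sub_zero]
      have h := prj_map ρ ψ fr H (by omega : j < m) hf.scales (hf j (by omega)).1 z' x
      have hz'0 : prj ρ ψ fr j z' x = 0 := by
        by_contra hne
        obtain ⟨r, hr⟩ := prj_support ρ ψ fr hψ H hj (zero_mem _) hxe hxa hz' hne
        apply hne
        have : act (elt (fr.a (j + 1)) w : Om) z' = z' := by
          rw [hr, zero_add, act_smul, act_elt H (fr.ok hj hw), fr.aa hj hj, QuadraticMap.polar_comm _ w,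
            fr.polar_a (by omega : j + 1 < j + 2) hw]
          simp
        rw [this] at hzx
        exact hzx
      rw [hz'0, map_zero] at h
      exact h.symm
    · obtain ⟨r, rfl⟩ := prj_support ρ ψ fr hψ H hj (zero_mem _) hxe hxa hz hzx
      have hr : r ≠ 0 := by
        rintro rfl
        rw [zero_smul, add_zero] at hzx
        exact hzx hp0
      rw [zero_add]
      have hf := fr.fixes_elt H haW (fr.W_mono (by omega) hw) (fr.ok hj hw)
      have h := prj_map ρ ψ fr H (by omega : j < m) hf.scales (hf j (by omega)).1 (r • fr.a (j + 1)) x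
      have hga : act (elt (fr.a (j + 1)) w : Om) (r • fr.a (j + 1)) = r • fr.a (j + 1) := by
        rw [act_smul, act_elt H (fr.ok hj hw), fr.aa hj hj, QuadraticMap.polar_comm _ w,
          fr.polar_a (by omega : j + 1 < j + 2) hw]
        simp
      rw [hga] at h
      rw [map_sub, show op ρ (fr.a (j + 1)) w x = ρ (elt (fr.a (j + 1)) w) x from rfl, ← h,
        show ρ (elt (fr.a (j + 1)) w) (prj ρ ψ fr j (r • fr.a (j + 1)) x) = _ from
          h2 r hr w hw _ (prj_mem ρ ψ fr H (by omega) _ hxCs), sub_self]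
  have hx0 : x = 0 := by
    have h3 : (ψ (B y w) - 1) • x = 0 := by rw [sub_smul, one_smul, ← hxy w hw, hfix, sub_self]
    exact (smul_eq_zero.1 h3).resolve_left (sub_ne_zero.2 hwψ)
  exact hU0 (rho_injective ρ (sw fr j) (by rw [← hxdef, hx0, map_zero]))

/-- A character of the next pair, extended, is seen at the lower level. -/
theorem exists_ext (H : Hyp Q) {j : ℕ} (hj : j + 1 < m) {c d ζ : V} (hc : c ∈ fr.W (j + 2))
    (hd : d ∈ fr.W (j + 2)) (hcd : B c d = 1) (hζ : ζ ∈ fr.W (j + 2)) {u : E}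
    (hu : u ∈ Eig ρ ψ fr j c) (hu0 : u ≠ 0)
    (h1 : ∀ w ∈ fr.W (j + 2), B c w = 0 → op ρ (fr.a (j + 1)) w u = ψ (B ζ w) • u) :
    ∃ r : F, Eig ρ ψ fr j (-ζ + r • fr.a (j + 1)) ≠ ⊥ := by
  classical
  have haW := fr.a_mem hj (le_refl (j + 1))
  have hc1 : c ∈ fr.W (j + 1) := fr.W_mono (by omega) hc
  set x : E := ∑ t : F, ψ (-(t * B ζ d)) • op ρ (fr.a (j + 1)) (t • d) u with hxdef
  have hEig : ∀ t : F, op ρ (fr.a (j + 1)) (t • d) u ∈ Eig ρ ψ fr j (c + (-t) • fr.a (j + 1)) := by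
    intro t
    have hw : t • d ∈ fr.W (j + 2) := Submodule.smul_mem _ _ hd
    have hf := fr.fixes_elt H haW (fr.W_mono (by omega) hw) (fr.ok hj hw)
    have := map_Eig ρ ψ fr H (by omega : j < m) hf.scales one_ne_zero
      (by rw [one_smul]; exact (hf j (by omega)).1) hu
    have e : act (elt (fr.a (j + 1)) (t • d) : Om) c = c + (-t) • fr.a (j + 1) := by
      rw [act_elt H (fr.ok hj hw), fr.polar_a (by omega : j + 1 < j + 2) hc, QuadraticMap.polar_smul_left,
        QuadraticMap.polar_comm _ d, hcd]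
      simp only [smul_eq_mul, mul_one, zero_smul, mul_zero, add_zero, sub_zero]
      module
    rwa [inv_one, one_smul, e] at this
  have hx1 : ∀ r : F, op ρ (fr.a j) (r • fr.a (j + 1)) x = x := by
    intro r
    rw [hxdef, map_sum]
    refine Finset.sum_congr rfl fun t _ => ?_
    rw [map_smul, (hEig t).2 _ (Submodule.smul_mem _ _ haW), QuadraticMap.polar_smul_right,
      QuadraticMap.polar_add_left, QuadraticMap.polar_smul_left, fr.aa hj hj, QuadraticMap.polar_comm _ c,
      fr.polar_a (by omega : j + 1 < j + 2) hc]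
    simp
  have hx2 : ∀ w ∈ fr.W (j + 2), op ρ (fr.a (j + 1)) w x = ψ (B ζ w) • x := by
    intro w hw
    set s := B c w
    set w0 := w - s • d
    have hw0 : w0 ∈ fr.W (j + 2) := sub_mem hw (Submodule.smul_mem _ _ hd)
    have hcw0 : B c w0 = 0 := by
      simp [w0, s, QuadraticMap.polar_sub_right, QuadraticMap.polar_smul_right, hcd]
    have hB : B ζ w = B ζ w0 + s * B ζ d := by
      simp [w0, QuadraticMap.polar_sub_right, QuadraticMap.polar_smul_right]
    rw [hxdef, map_sum, Finset.smul_sum]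
    refine Fintype.sum_equiv (Equiv.addRight s) _ _ fun t => ?_
    have hokd : ∀ r : F, OK Q (fr.a (j + 1)) (r • d) := fun r => fr.ok hj (Submodule.smul_mem _ _ hd)
    rw [map_smul, ← Module.End.mul_apply, ← op_add ρ H (fr.ok hj hw) (hokd t),
      show w + t • d = (t + s) • d + w0 by simp only [w0]; module, op_add ρ H (hokd _) (fr.ok hj hw0),
      Module.End.mul_apply, h1 w0 hw0 hcw0, map_smul, smul_smul, smul_smul, Equiv.coe_addRight]
    congr 1
    rw [← AddChar.map_add_eq_mul, ← AddChar.map_add_eq_mul, hB]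
    congr 1
    ring
  have hxCs : x ∈ Cs ρ fr j := Submodule.sum_mem _ fun t _ => Submodule.smul_mem _ _ (hEig t).1
  have hx0 : x ≠ 0 := by
    intro h
    have h3 := congrArg (prj ρ ψ fr j c) h
    rw [hxdef, map_sum, map_zero, Finset.sum_eq_single (0 : F) (fun t _ ht => by
      rw [map_smul, prj_other ρ ψ fr hψ H (by omega) hc1 (add_mem hc1 (Submodule.smul_mem _ _ haW))
        (fun e => ht (by
          have e' := congrArg (B (fr.b (j + 1))) e
          simpa [QuadraticMap.polar_add_right, QuadraticMap.polar_smul_right, fr.ba hj] using e'))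
        (hEig t), smul_zero]) (fun h => absurd (Finset.mem_univ _) h)] at h3
    rw [zero_mul, neg_zero, AddChar.map_zero_eq_one, one_smul, zero_smul, op_zero ρ H (fr.quad_a hj),
      Module.End.one_apply, prj_self ρ ψ fr hu] at h3
    exact hu0 h3
  have hne : ρ (sw fr j) x ≠ 0 := fun h => hx0 (rho_injective ρ _ (by rw [h, map_zero]))
  obtain ⟨z, hz, hzne⟩ : ∃ z ∈ fr.W (j + 1), prj ρ ψ fr j z (ρ (sw fr j) x) ≠ 0 := by
    by_contra hcon
    push Not at hcon
    exact hne (eq_zero_of_prj ρ ψ fr hψ H (by omega) hcon)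
  obtain ⟨r, rfl⟩ := rot_support ρ ψ fr hψ H hj hζ hx2 hx1 hz hzne
  exact ⟨r, (Submodule.ne_bot_iff _).2
    ⟨_, prj_mem ρ ψ fr H (by omega) _ (map_Cs ρ fr H (by omega) (sw_fixes fr H hj).scales hxCs), hzne⟩⟩

end Cfsg.Agent.Lie.OrthDeg
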