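import Cfsg.Agent.Lib.Lie.OrthDeg.Class

/-! The character at a long root element. -/

set_option autoImplicit false
set_option linter.unusedSectionVars false
set_option quotPrecheck false

noncomputable section

namespace Cfsg.Agent.Lie.OrthDeg

open Matrix Module Cfsg.Agent.Classical Cfsg.Agent.Classical.OrthAut

universe u v

variable {F : Type u} [Field F] [Fintype F] {ι : Type} [Fintype ι] [DecidableEq ι]
  {Q : QuadraticForm F (ι → F)} {m : ℕ}
variable {E : Type v} [AddCommGroup E] [Module ℂ E] [FiniteDimensional ℂ E]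

local notation "V" => (ι → F)
local notation "B" => QuadraticMap.polar ⇑Q
local notation "Om" => Omega F ⇑Q

variable (ρ : Representation ℂ (Omega F ⇑Q) E) (ψ : AddChar F ℂ) (fr : Frame Q m)

/-- All vectors of a level. -/
def Frame.all (j : ℕ) : Finset V := (Set.toFinite (fr.W (j + 1) : Set V)).toFinset

theorem Frame.mem_all {j : ℕ} {y : V} : y ∈ fr.all j ↔ y ∈ fr.W (j + 1) := by simp [Frame.all]

theorem trace_prj (H : Hyp Q) (hm : 0 < m) (y : V) :
    LinearMap.trace ℂ E (prj ρ ψ fr 0 y) = (finrank ℂ (Eig ρ ψ fr 0 y) : ℂ) := by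
  refine LinearMap.IsProj.trace ⟨fun u => prj_mem ρ ψ fr H hm y ?_, fun u hu => prj_self ρ ψ fr hu⟩
  rw [Cs_zero]
  exact Submodule.mem_top

variable (hψ : ψ ≠ 1)
include hψ

/-- The trace on the first root group. -/
theorem trace_op (H : Hyp Q) (hm : 0 < m) {w : V} (hw : w ∈ fr.W 1) :
    LinearMap.trace ℂ E (op ρ (fr.a 0) w) =
      ∑ y ∈ fr.all 0, ψ (B y w) * (finrank ℂ (Eig ρ ψ fr 0 y) : ℂ) := by
  classical
  letI := Fintype.ofFinite (fr.W (0 + 1))
  haveI : Finite (fr.W (0 + 1) →ₗ[F] F) := Module.finite_of_finite F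
  letI := Fintype.ofFinite (fr.W (0 + 1) →ₗ[F] F)
  have h1 : op ρ (fr.a 0) w =
      ∑ β : fr.W (0 + 1) →ₗ[F] F, ψ (β ⟨w, hw⟩) • Char.cproj ψ (fam ρ fr 0) β := by
    conv_lhs => rw [← mul_one (op ρ (fr.a 0) w), ← Char.sum_cproj hψ (fam_zero ρ fr H hm), Finset.mul_sum]
    exact Finset.sum_congr rfl fun β _ => Char.a_mul_cproj (fam_add ρ fr H hm) β ⟨w, hw⟩
  rw [h1, map_sum]
  symm
  refine Finset.sum_bij (fun y _ => func fr 0 y) (fun y _ => Finset.mem_univ _)
    (fun y hy z hz e => func_injective fr H hm ((fr.mem_all).1 hy) ((fr.mem_all).1 hz) e) (fun β _ => ?_)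
    (fun y _ => ?_)
  · obtain ⟨y, hy, hβ⟩ := fr.exists_functional H (by omega : 0 + 1 ≤ m) β
    exact ⟨y, (fr.mem_all).2 hy, LinearMap.ext fun v => (hβ v).symm⟩
  · rw [map_smul, smul_eq_mul, func_apply]
    congr 1
    exact (trace_prj ρ ψ fr H hm y).symm

omit hψ in
theorem sum_thin {c : F} (T : Thin ρ ψ fr c) (hm : 0 < m) (hc : c = 0)
    (h1 : ∀ y ∈ fr.vals 0 c, finrank ℂ (Eig ρ ψ fr 0 y) = 1) (f : V → ℂ) :
    ∑ y ∈ fr.all 0, f y * (finrank ℂ (Eig ρ ψ fr 0 y) : ℂ) =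
      f 0 * (finrank ℂ (Cs ρ fr 1) : ℂ) + ∑ y ∈ fr.vals 0 (0 : F), f y := by
  classical
  subst hc
  have h0 : (0 : V) ∈ fr.all 0 := (fr.mem_all).2 (zero_mem _)
  rw [← Finset.add_sum_erase _ _ h0, Eig_zero]
  congr 1
  rw [← Finset.sum_subset (s₁ := fr.vals 0 (0 : F)) (fun y hy => Finset.mem_erase.2
    ⟨((fr.mem_vals).1 hy).2.1, (fr.mem_all).2 ((fr.mem_vals).1 hy).1⟩) (fun y hy hn => ?_)]
  · exact Finset.sum_congr rfl fun y hy => by rw [h1 y hy, Nat.cast_one, mul_one]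
  · obtain ⟨hy0, hyW⟩ := Finset.mem_erase.1 hy
    rw [fr.mem_all] at hyW
    rw [T.only 0 hm y hyW hy0 (fun e => hn ((fr.mem_vals).2 ⟨hyW, hy0, e⟩)), finrank_bot, Nat.cast_zero,
      mul_zero]

/-- The deficiency of the singular sum. -/
theorem singular_sum (H : Hyp Q) (hm : 2 ≤ m) :
    ∑ y ∈ fr.vals 0 (0 : F), (1 - ψ (B (fr.a 1) y)) =
      ((Fintype.card F * Nat.card (fr.W 2) : ℕ) : ℂ) := by
  classical
  have h1m : 1 < m := by omega
  have hfib : ∀ s : F, s ≠ 0 →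
      ((fr.vals 0 (0 : F)).filter fun y => B (fr.a 1) y = s).card = Nat.card (fr.W 2) := by
    intro s hs
    rw [← Nat.card_eq_finsetCard]
    refine Nat.card_congr
      { toFun := fun y => ⟨fr.proj 1 y.1, fr.proj_mem h1m ((fr.mem_vals).1 (Finset.mem_filter.1 y.2).1).1⟩
        invFun := fun z => ⟨(-Q (z : V) / s) • fr.a 1 + s • fr.b 1 + z, ?_⟩
        left_inv := fun y => Subtype.ext ?_
        right_inv := fun z => Subtype.ext ?_ }
    · have hza := fr.polar_a (by omega : 1 < 2) z.2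
      have hzb := fr.polar_b (by omega : 1 < 2) z.2
      have hB : B (fr.a 1) ((-Q (z : V) / s) • fr.a 1 + s • fr.b 1 + z) = s := by
        simp [QuadraticMap.polar_add_right, QuadraticMap.polar_smul_right, fr.aa h1m h1m, fr.ab h1m, hza]
      refine Finset.mem_filter.2 ⟨(fr.mem_vals).2 ⟨add_mem (add_mem (Submodule.smul_mem _ _
        (fr.a_mem h1m le_rfl)) (Submodule.smul_mem _ _ (fr.b_mem h1m le_rfl))) (fr.W_mono (by omega) z.2),
        fun e => hs (by rw [← hB, e, QuadraticMap.polar_zero_right]), ?_⟩, hB⟩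
      simp only [quad_add, QuadraticMap.map_smul, fr.quad_a h1m, fr.quad_b h1m,
        QuadraticMap.polar_add_left, QuadraticMap.polar_smul_left, QuadraticMap.polar_smul_right,
        fr.ab h1m, hza, hzb, smul_eq_mul]
      field_simp
      ring
    · obtain ⟨hy, hys⟩ := Finset.mem_filter.1 y.2
      obtain ⟨hyW, -, hyq⟩ := (fr.mem_vals).1 hy
      have hq := fr.quad_split h1m ⟨y.1, hyW⟩
      change Q y.1 = B (fr.b 1) y.1 * B (fr.a 1) y.1 + Q (fr.proj 1 y.1) at hq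
      rw [hyq, hys] at hq
      show (-Q (fr.proj 1 y.1) / s) • fr.a 1 + s • fr.b 1 + fr.proj 1 y.1 = y.1
      conv_rhs => rw [fr.decomp 1 y.1, hys]
      rw [show -Q (fr.proj 1 y.1) / s = B (fr.b 1) y.1 by
        field_simp
        linear_combination hq]
    · have hza := fr.polar_a (by omega : 1 < 2) z.2
      have hzb := fr.polar_b (by omega : 1 < 2) z.2
      simp only [Frame.proj, QuadraticMap.polar_add_right, QuadraticMap.polar_smul_right, fr.aa h1m h1m,
        fr.ab h1m, fr.ba h1m, fr.bb h1m h1m, hza, hzb, smul_eq_mul]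
      module
  rw [← Finset.sum_fiberwise_of_maps_to (t := (Finset.univ : Finset F)) (g := fun y => B (fr.a 1) y)
    (fun y _ => Finset.mem_univ _)]
  have hterm : ∀ s : F, ∑ y ∈ (fr.vals 0 (0 : F)).filter (fun y => B (fr.a 1) y = s),
      (1 - ψ (B (fr.a 1) y)) = (Nat.card (fr.W 2) : ℂ) * (1 - ψ s) := by
    intro s
    rw [Finset.sum_congr rfl fun y hy => by rw [(Finset.mem_filter.1 hy).2], Finset.sum_const,
      nsmul_eq_mul]
    rcases eq_or_ne s 0 with rfl | hs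
    · simp
    · rw [hfib s hs]
  rw [Finset.sum_congr rfl fun s _ => hterm s, ← Finset.mul_sum, Finset.sum_sub_distrib,
    AddChar.sum_eq_zero_of_ne_one hψ, sub_zero, Finset.sum_const, Finset.card_univ, nsmul_eq_mul, mul_one]
  push_cast
  ring

/-- The character at a long root element when only singular characters occur. -/
theorem char_root (H : Hyp Q) (hm : 2 ≤ m) (T : Thin ρ ψ fr (0 : F))
    (h1 : ∀ y ∈ fr.vals 0 (0 : F), finrank ℂ (Eig ρ ψ fr 0 y) = 1) :
    ρ.character (elt (fr.a 0) (fr.a 1)) =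
      (((finrank ℂ E : ℤ) - (Fintype.card F * Nat.card (fr.W 2) : ℕ) : ℤ) : ℂ) := by
  have ha := fr.a_mem (by omega : 1 < m) (le_refl 1)
  have e0 := trace_op ρ ψ fr hψ H (by omega : 0 < m) (zero_mem (fr.W 1))
  have e1 := trace_op ρ ψ fr hψ H (by omega : 0 < m) ha
  rw [sum_thin ρ ψ fr T (by omega) rfl h1 (fun y => ψ (B y 0)), op_zero ρ H (fr.quad_a (by omega)),
    LinearMap.trace_one] at e0
  rw [sum_thin ρ ψ fr T (by omega) rfl h1 (fun y => ψ (B y (fr.a 1)))] at e1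
  simp only [QuadraticMap.polar_zero_left, QuadraticMap.polar_zero_right, AddChar.map_zero_eq_one] at e0 e1
  have e2 := singular_sum ψ fr hψ H hm
  rw [Finset.sum_sub_distrib] at e2
  have e3 : ∑ y ∈ fr.vals 0 (0 : F), ψ (B y (fr.a 1)) = ∑ y ∈ fr.vals 0 (0 : F), ψ (B (fr.a 1) y) :=
    Finset.sum_congr rfl fun y _ => by rw [QuadraticMap.polar_comm]
  show LinearMap.trace ℂ E (op ρ (fr.a 0) (fr.a 1)) = _
  push_cast
  push_cast at e2
  linear_combination e1 - e0 + e3 - e2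

/-- The integrality condition at a long root element. -/
theorem degree_dvd_root (H : Hyp Q) (hm : 2 ≤ m) [ρ.IsIrreducible] (T : Thin ρ ψ fr (0 : F))
    (h1 : ∀ y ∈ fr.vals 0 (0 : F), finrank ℂ (Eig ρ ψ fr 0 y) = 1) {L : ℕ}
    (hL : L * (Fintype.card F ^ 2 - 1) = (fr.num 0 0 - 1) * (fr.num 1 0 - 1)) :
    (finrank ℂ E : ℤ) ∣ (L : ℤ) * ((finrank ℂ E : ℤ) - (Fintype.card F * Nat.card (fr.W 2) : ℕ)) := by
  have hq : 0 < Fintype.card F ^ 2 - 1 := by
    have := Fintype.one_lt_card (α := F)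
    have h4 : 2 ^ 2 ≤ Fintype.card F ^ 2 := Nat.pow_le_pow_left this 2
    omega
  have hidx := index_root fr H hm
  rw [← hL] at hidx
  rw [← Nat.eq_of_mul_eq_mul_right hq hidx]
  exact Char.dvd_index_mul ρ _ (char_root ρ ψ fr hψ H hm T h1)

end Cfsg.Agent.Lie.OrthDeg
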